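import Mathlib
import Cfsg.Prelude.Def_GeometricClasses
import Cfsg.Agent.Lib.MaxSub.Symplectic
import Cfsg.Agent.Lib.MaxSub.Subfield
import Cfsg.Agent.Lib.Classical.SympSimple

/-!
Maximal subgroups of `Sp_4` in odd characteristic: vocabulary, adjoints and properness of the geometric members.
-/

set_option autoImplicit false

namespace Cfsg.Agent.Lib.SpFourOdd

open Matrix Cfsg.Agent.Lib.MaxSub

variable {F : Type*} [Field F]

local notation "V" => (Fin 2 ⊕ Fin 2 → F)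
local notation "M4" => Matrix (Fin 2 ⊕ Fin 2) (Fin 2 ⊕ Fin 2) F
local notation "G4" => GL (Fin 2 ⊕ Fin 2) F
local notation "S4" => Cfsg.spGL 2 F
local notation "bb" => AltForm.B (stdAlt 2 F)

/-- A scalar matrix. -/
def IsScal (x : M4) : Prop := ∃ c : F, x = c • 1

/-- The members of the list of geometric types, or the residual class. -/
def Concl [Fintype F] (H : Subgroup G4) : Prop :=
    (∃ W : Submodule F V, W ≠ ⊥ ∧ Cfsg.Geo.IsTotallySingularFor (Cfsg.sympForm 2 F) W ∧ H = Cfsg.Geo.subspaceStabilizer W ⊓ Cfsg.spGL 2 F) ∨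
    (∃ D : Fin 2 → Submodule F V, Cfsg.Geo.IsNondegenerateMDecomposition (Cfsg.sympForm 2 F) 2 D ∧ H = Cfsg.Geo.decompositionStabilizer D ⊓ Cfsg.spGL 2 F) ∨
    (5 ≤ Fintype.card F ∧ ∃ D : Fin 2 → Submodule F V, Cfsg.Geo.IsMDecomposition 2 D ∧ (∀ i, Cfsg.Geo.IsTotallySingularFor (Cfsg.sympForm 2 F) (D i)) ∧ H = Cfsg.Geo.decompositionStabilizer D ⊓ Cfsg.spGL 2 F) ∨
    (∃ K : Subalgebra F M4, Cfsg.Geo.IsFieldSubalgebra 2 K ∧ Cfsg.Geo.IsSelfAdjointFor (Cfsg.sympForm 2 F) K ∧ (∀ k ∈ K, ∀ v : V, (Cfsg.sympForm 2 F) (Matrix.mulVec k v) v = 0) ∧ H = Cfsg.Geo.subalgebraNormalizer K ⊓ Cfsg.spGL 2 F) ∨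
    (5 ≤ Fintype.card F ∧ ∃ K : Subalgebra F M4, Cfsg.Geo.IsFieldSubalgebra 2 K ∧ Cfsg.Geo.IsAdjointClosedFor (Cfsg.sympForm 2 F) K ∧ ¬ Cfsg.Geo.IsSelfAdjointFor (Cfsg.sympForm 2 F) K ∧ H = Cfsg.Geo.subalgebraNormalizer K ⊓ Cfsg.spGL 2 F) ∨
    (∃ (F₀ : Subfield F) (r : ℕ) (P : G4) (ζ : F), r.Prime ∧ Fintype.card F = Nat.card F₀ ^ r ∧ ζ ≠ 0 ∧ Cfsg.Geo.IsFormRationalStructure (Cfsg.sympForm 2 F) F₀ ζ P ∧ H = Cfsg.Geo.subfieldSubgroup F₀ P ⊓ Cfsg.spGL 2 F) ∨
    (∃ (p : ℕ) (R : Subgroup G4), p.Prime ∧ Fintype.card F = p ∧ Cfsg.Geo.IsSymplecticTypeGroup 2 R ∧ Cfsg.Geo.ActsAbsolutelyIrreducibly (Cfsg.Geo.matrixSet R) ∧ R ≤ Cfsg.Geo.similarityGroup (Cfsg.sympForm 2 F) ∧ Nat.card R = 32 ∧ Nat.card (Subgroup.center R) = 2 ∧ Cfsg.Geo.IsOfMinusType 2 R ∧ H = Cfsg.Geo.subgroupNormalizer R ⊓ Cfsg.spGL 2 F) ∨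
    Cfsg.Geo.InSymplecticResidualClass H

/-- `G` fixes up to sign a non-scalar matrix with scalar square which is symmetric or skew for the form. -/
def adj (A : M4) : M4 := -(Matrix.J (Fin 2) F * Aᵀ * Matrix.J (Fin 2) F)

def HasInv2 (G : Subgroup G4) : Prop :=
  ∃ s : M4, ¬ IsScal s ∧ (∃ c : F, c ≠ 0 ∧ s * s = c • 1) ∧ (adj s = s ∨ adj s = -s) ∧
    ∀ h ∈ G, (h : M4) * s = s * h ∨ (h : M4) * s = -(s * h)

theorem bb_apply (u v : V) : bb u v = Cfsg.sympForm 2 F u v := stdAlt_apply u v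

theorem bb_swap (u v : V) : bb u v = -bb v u := AltForm.skew _ u v

theorem bb_self (v : V) : bb v v = 0 := (stdAlt 2 F).alt v

theorem bb_ext {a b : V} (h : ∀ u, bb u a = bb u b) : a = b :=
  sub_eq_zero.mp ((stdAlt 2 F).nondeg _ fun u => by rw [map_sub, h, sub_self])

theorem bb_ext' {a b : V} (h : ∀ u, bb a u = bb b u) : a = b :=
  bb_ext fun u => by rw [bb_swap u a, bb_swap u b, h]

theorem adj_spec (A : M4) (u v : V) : bb (A *ᵥ u) v = bb u (adj A *ᵥ v) := by
  have hJ : Matrix.J (Fin 2) F * (Matrix.J (Fin 2) F * Aᵀ * Matrix.J (Fin 2) F) = -(Aᵀ * Matrix.J (Fin 2) F) := by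
    rw [← mul_assoc, ← mul_assoc, Matrix.J_squared, neg_one_mul, neg_mul]
  rw [bb_apply, bb_apply, Cfsg.sympForm, Cfsg.sympForm, ← Matrix.vecMul_transpose, ← Matrix.dotProduct_mulVec,
    Matrix.mulVec_mulVec, Matrix.mulVec_mulVec, adj, mul_neg, hJ, neg_neg]

theorem adj_eq {A B : M4} (h : ∀ u v, bb (A *ᵥ u) v = bb u (B *ᵥ v)) : adj A = B :=
  eq_of_mulVec_eq fun v => bb_ext fun u => by rw [← adj_spec, h]

theorem adj_spec' (A : M4) (u v : V) : bb u (A *ᵥ v) = bb (adj A *ᵥ u) v := by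
  rw [bb_swap, adj_spec, bb_swap, neg_neg]

theorem adj_adj (A : M4) : adj (adj A) = A := adj_eq fun u v => (adj_spec' A u v).symm

theorem adj_mul (A B : M4) : adj (A * B) = adj B * adj A := adj_eq fun u v => by
  rw [← Matrix.mulVec_mulVec, ← Matrix.mulVec_mulVec, adj_spec, adj_spec]

theorem adj_add (A B : M4) : adj (A + B) = adj A + adj B := adj_eq fun u v => by
  rw [Matrix.add_mulVec, Matrix.add_mulVec, map_add, map_add, LinearMap.add_apply, adj_spec, adj_spec]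

theorem adj_smul (c : F) (A : M4) : adj (c • A) = c • adj A := adj_eq fun u v => by
  rw [Matrix.smul_mulVec, Matrix.smul_mulVec, map_smul, map_smul, LinearMap.smul_apply, adj_spec]

theorem adj_one : adj (1 : M4) = 1 := adj_eq fun u v => by rw [Matrix.one_mulVec, Matrix.one_mulVec]

theorem adj_neg (A : M4) : adj (-A) = -adj A := by
  rw [← neg_one_smul F A, adj_smul, neg_one_smul]

theorem adj_zero : adj (0 : M4) = 0 := by simp [adj]

theorem adj_sub (A B : M4) : adj (A - B) = adj A - adj B := by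
  rw [sub_eq_add_neg, adj_add, adj_neg, sub_eq_add_neg]

theorem bb_iso {g : G4} (hg : g ∈ S4) (u v : V) : bb ((g : M4) *ᵥ u) ((g : M4) *ᵥ v) = bb u v :=
  mem_spGL_iff.mp hg u v

theorem mem_S4 {g : G4} (h : ∀ u v, bb ((g : M4) *ᵥ u) ((g : M4) *ᵥ v) = bb u v) : g ∈ S4 :=
  mem_spGL_iff.mpr h

theorem adj_iso {g : G4} (hg : g ∈ S4) : adj (g : M4) = ((g⁻¹ : G4) : M4) := adj_eq fun u v => by
  conv_lhs => rw [show v = (g : M4) *ᵥ (((g⁻¹ : G4) : M4) *ᵥ v) by
    rw [Matrix.mulVec_mulVec, Units.mul_inv, Matrix.one_mulVec]]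
  rw [bb_iso hg]

theorem adj_conj {g : G4} (hg : g ∈ S4) (A : M4) :
    adj ((g : M4) * A * ((g⁻¹ : G4) : M4)) = (g : M4) * adj A * ((g⁻¹ : G4) : M4) := by
  rw [adj_mul, adj_mul, adj_iso hg, adj_iso (inv_mem hg), inv_inv, mul_assoc]

theorem isScal_smul (c : F) : IsScal (c • (1 : M4)) := ⟨c, rfl⟩

theorem one_ne : (1 : M4) ≠ 0 := one_ne_zero

theorem smul_one_inj {a b : F} (h : a • (1 : M4) = b • 1) : a = b := by
  simpa using congrFun (congrFun h (Sum.inl 0)) (Sum.inl 0)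

theorem two_ne [Fintype F] (hodd : Odd (Fintype.card F)) : (2 : F) ≠ 0 :=
  Ring.two_ne_zero (fun h => (Nat.not_even_iff_odd.mpr hodd)
    (by rw [← Nat.card_eq_fintype_card]; exact even_iff_two_dvd.mpr (by
      rw [Nat.card_eq_fintype_card]; exact Nat.dvd_of_mod_eq_zero (FiniteField.even_card_of_char_two h))))

/-- The isometries which are scalar are plus or minus one. -/
theorem scal_iso {g : G4} (hg : g ∈ S4) (h : IsScal (g : M4)) : g = 1 ∨ g = -1 := by
  obtain ⟨c, hc⟩ := h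
  have hh : (g : M4) * adj (g : M4) = 1 := by rw [adj_iso hg, Units.mul_inv]
  rw [hc, adj_smul, adj_one, smul_mul_smul_comm, mul_one, ← one_smul F (1 : M4), smul_smul, mul_one] at hh
  rcases mul_self_eq_one_iff.mp (smul_one_inj hh) with e | e
  · exact Or.inl (Units.ext (by rw [hc, e, one_smul]; rfl))
  · exact Or.inr (Units.ext (by rw [hc, e, neg_one_smul]; rfl))

theorem neg_one_mem_S4 : (-1 : G4) ∈ S4 := mem_S4 fun u v => by
  rw [Units.val_neg, Units.val_one, Matrix.neg_mulVec, Matrix.neg_mulVec, Matrix.one_mulVec, Matrix.one_mulVec,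
    map_neg, map_neg, LinearMap.neg_apply, neg_neg]

theorem S4_perfect [Fintype F] (hodd : Odd (Fintype.card F)) : ⁅S4, S4⁆ = S4 := by
  rw [← Cfsg.Agent.Lib.Classical.spToGL_range, MonoidHom.range_eq_map, ← Subgroup.map_commutator]
  exact congrArg _ (Cfsg.Agent.Lib.Classical.commutator_sp_eq_top (Or.inr (Or.inl ⟨le_rfl, two_ne hodd⟩)))

theorem neg_one_central (g : G4) : g * (-1) = (-1) * g := by simp

theorem neg_one_mem [Fintype F] (hodd : Odd (Fintype.card F)) {H : Subgroup G4}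
    (hH : Cfsg.Geo.IsMaximalIn S4 H) : (-1 : G4) ∈ H := by
  by_contra hn
  let K : Subgroup G4 :=
    { carrier := {g | g ∈ H ∨ -g ∈ H}
      one_mem' := Or.inl H.one_mem
      mul_mem' := by
        rintro a b (ha | ha) (hb | hb)
        · exact Or.inl (H.mul_mem ha hb)
        · exact Or.inr (by simpa using H.mul_mem ha hb)
        · exact Or.inr (by simpa using H.mul_mem ha hb)
        · exact Or.inl (by simpa using H.mul_mem ha hb)
      inv_mem' := by
        rintro a (ha | ha)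
        · exact Or.inl (H.inv_mem ha)
        · exact Or.inr (by simpa [inv_neg] using H.inv_mem ha) }
  have hK : K ≤ S4 := by
    rintro g (hg | hg)
    · exact hH.1.le hg
    · have := Subgroup.mul_mem _ neg_one_mem_S4 (hH.1.le hg)
      simpa using this
  rcases hH.2 K (fun g hg => Or.inl hg) hK with h | h
  · exact hn (h.le (Or.inr (by simpa using H.one_mem)))
  · refine hH.1.ne (le_antisymm hH.1.le ?_)
    rw [← S4_perfect hodd, ← h]
    refine Subgroup.commutator_le.mpr ?_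
    rintro a (ha | ha) b (hb | hb) <;>
      · have := H.mul_mem (H.mul_mem (H.mul_mem ha hb) (H.inv_mem ha)) (H.inv_mem hb)
        simpa [commutatorElement_def, inv_neg] using this

theorem eq_inf {H M : Subgroup G4} (hH : Cfsg.Geo.IsMaximalIn S4 H) (hle : H ≤ M) (hnot : ¬ S4 ≤ M) :
    H = M ⊓ S4 := by
  rcases hH.2 (M ⊓ S4) (le_inf hle hH.1.le) inf_le_right with h | h
  · exact h.symm
  · exact absurd (h ▸ inf_le_left) hnot

theorem trans_mem (w : V) (c : F) : (stdAlt 2 F).trans w c ∈ S4 :=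
  mem_spGL_iff.mpr (AltForm.trans_preserves _ w c)

theorem not_le_subspaceStabilizer {W : Submodule F V} (h0 : W ≠ ⊥) (h1 : W ≠ ⊤) :
    ¬ S4 ≤ Cfsg.Geo.subspaceStabilizer W := by
  intro hle
  obtain ⟨w, hw, hw0⟩ := (Submodule.ne_bot_iff W).mp h0
  obtain ⟨u, hu, hwu⟩ : ∃ u, u ∉ W ∧ bb w u ≠ 0 := by
    obtain ⟨y, hy⟩ : ∃ y, bb w y ≠ 0 := by
      by_contra hc; push Not at hc
      exact hw0 (bb_ext' fun u => by rw [hc, map_zero, LinearMap.zero_apply])
    obtain ⟨z, hz⟩ : ∃ z, z ∉ W := by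
      by_contra hc; push Not at hc
      exact h1 (Submodule.eq_top_iff'.mpr hc)
    by_cases hyW : y ∈ W
    · by_cases hzw : bb w z = 0
      · exact ⟨z + y, fun h => hz ((Submodule.add_mem_iff_left W hyW).mp h), by
          rw [map_add, hzw, zero_add]; exact hy⟩
      · exact ⟨z, hz, hzw⟩
    · exact ⟨y, hyW, hy⟩
  have h := subspaceStabilizer_apply (hle (trans_mem u (bb w u)⁻¹)) hw
  rw [AltForm.trans_mulVec, inv_mul_cancel₀ hwu, one_smul] at h
  exact hu ((Submodule.add_mem_iff_right W hw).mp h)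

theorem map_toLin_mem {g : G4} {A B : Submodule F V} (h : A.map (Matrix.toLin' (g : M4)) = B) {a : V}
    (ha : a ∈ A) : (g : M4) *ᵥ a ∈ B := h ▸ ⟨a, ha, Matrix.toLin'_apply _ _⟩

theorem ncard_le [Fintype F] {A : Submodule F V} (h : Module.finrank F A ≤ 3) :
    (A : Set V).ncard ≤ Fintype.card F ^ 3 := by
  rw [show (A : Set V).ncard = Nat.card A from (Nat.card_coe_set_eq _).symm,
    Module.natCard_eq_pow_finrank (K := F), Nat.card_eq_fintype_card (α := F)]
  exact Nat.pow_le_pow_right Fintype.card_pos h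

/-- Three proper subspaces do not cover. -/
theorem exists_not_mem_three [Fintype F] (hq : 3 ≤ Fintype.card F) {A B C : Submodule F V} (hA : A ≠ ⊤)
    (hB : B ≠ ⊤) (hC : C ≠ ⊤) : ∃ u, u ∉ A ∧ u ∉ B ∧ u ∉ C := by
  classical
  have hf : ∀ {A : Submodule F V}, A ≠ ⊤ → Module.finrank F A ≤ 3 := fun {A} hA => by
    have := Submodule.finrank_lt hA
    rw [Module.finrank_fintype_fun_eq_card] at this
    simp at this; omega
  by_contra hc
  push Not at hc
  have hd : ∀ A : Submodule F V, ((A : Set V) \ {0}).ncard + 1 = (A : Set V).ncard := fun A =>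
    Set.ncard_sdiff_singleton_add_one A.zero_mem (Set.toFinite _)
  have hu : ((Set.univ : Set V) \ {0}) ⊆ ((A : Set V) \ {0}) ∪ (((B : Set V) \ {0}) ∪ ((C : Set V) \ {0})) := by
    rintro x ⟨-, hx⟩
    by_cases hxA : x ∈ A
    · exact Or.inl ⟨hxA, hx⟩
    by_cases hxB : x ∈ B
    · exact Or.inr (Or.inl ⟨hxB, hx⟩)
    exact Or.inr (Or.inr ⟨hc x hxA hxB, hx⟩)
  have h1 := (Set.ncard_le_ncard hu (Set.toFinite _)).trans
    ((Set.ncard_union_le _ _).trans (Nat.add_le_add_left (Set.ncard_union_le _ _) _))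
  have h2 : ((Set.univ : Set V) \ {0}).ncard + 1 = Fintype.card F ^ 4 := by
    rw [Set.ncard_sdiff_singleton_add_one (Set.mem_univ _) (Set.toFinite _), Set.ncard_univ, Nat.card_fun,
      Nat.card_eq_fintype_card]
    simp
  have := hd A; have := hd B; have := hd C
  have := ncard_le (hf hA); have := ncard_le (hf hB); have := ncard_le (hf hC)
  have : 3 * Fintype.card F ^ 3 ≤ Fintype.card F ^ 4 := by
    rw [pow_succ' _ 3]; exact Nat.mul_le_mul_right _ hq
  omega

theorem not_le_decompositionStabilizer [Fintype F] (hodd : Odd (Fintype.card F)) {D : Fin 2 → Submodule F V}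
    (hD : Cfsg.Geo.IsMDecomposition 2 D) : ¬ S4 ≤ Cfsg.Geo.decompositionStabilizer D := by
  intro hle
  have hq : 3 ≤ Fintype.card F := by
    have := Fintype.one_lt_card (α := F)
    obtain ⟨k, hk⟩ := hodd; omega
  have hne : ∀ i, D i ≠ ⊤ := fun i h => by
    have := hD.finrank_eq i
    rw [h, finrank_top, Module.finrank_fintype_fun_eq_card] at this
    simp at this
  obtain ⟨x, hx, hx0⟩ := (Submodule.ne_bot_iff (D 0)).mp fun h => by
    have := hD.finrank_eq 0; rw [h, finrank_bot] at this; omega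
  have hker : LinearMap.ker (bb x) ≠ ⊤ := fun h => hx0 <| bb_ext' fun u => by
    rw [map_zero, LinearMap.zero_apply]; exact LinearMap.mem_ker.mp (h ▸ Submodule.mem_top)
  obtain ⟨w, hw0, hw1, hwx⟩ := exists_not_mem_three hq (hne 0) (hne 1) hker
  rw [LinearMap.mem_ker] at hwx
  have himg : ∀ c : F, x + c • w ∈ D 0 ∨ x + c • w ∈ D 1 := by
    intro c
    obtain ⟨σ, hσ⟩ := hle (trans_mem w (c / bb x w))
    have h := map_toLin_mem (hσ 0) hx
    rw [AltForm.trans_mulVec, div_mul_cancel₀ _ hwx] at h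
    generalize σ 0 = j at h
    fin_cases j
    · exact Or.inl h
    · exact Or.inr h
  have hbad : ∀ c : F, c ≠ 0 → x + c • w ∈ D 1 := fun c hc => (himg c).resolve_left fun h =>
    hw0 ((Submodule.smul_mem_iff _ hc).mp ((Submodule.add_mem_iff_right _ hx).mp h))
  have h1 := hbad 1 one_ne_zero
  have h2 := hbad (-1) (neg_ne_zero.mpr one_ne_zero)
  have h3 := Submodule.sub_mem _ h1 h2
  rw [one_smul, neg_one_smul, show x + w - (x + -w) = (2 : F) • w by rw [two_smul]; abel] at h3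
  exact hw1 ((Submodule.smul_mem_iff _ (two_ne hodd)).mp h3)

theorem not_le_subalgebraNormalizer {K : Subalgebra F M4} (hK : Cfsg.Geo.IsFieldSubalgebra 2 K) :
    ¬ S4 ≤ Cfsg.Geo.subalgebraNormalizer K := by
  intro hle
  obtain ⟨k, hk, hks⟩ : ∃ k ∈ K, ¬ IsScal k := by
    by_contra hc; push Not at hc
    have hle1 : Subalgebra.toSubmodule K ≤ Submodule.span F {(1 : M4)} := fun x hx => by
      obtain ⟨c, rfl⟩ := hc x hx
      exact Submodule.smul_mem _ _ (Submodule.mem_span_singleton_self _)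
    have := (Submodule.finrank_mono hle1).trans (finrank_span_le_card _)
    rw [show Module.finrank F (Subalgebra.toSubmodule K) = 2 from hK.finrank_eq] at this
    simp at this
  have hcomm : ∀ w c, ((stdAlt 2 F).trans w c : M4) * k = k * ((stdAlt 2 F).trans w c : M4) := by
    intro w c
    set t := (stdAlt 2 F).trans w c with ht
    have hm : (t : M4) * k * ((t⁻¹ : G4) : M4) - k ∈ K := K.sub_mem ((hle (trans_mem w c) k).mp hk) hk
    by_contra hne
    obtain ⟨y, hy0, hy⟩ := hK.inv _ hm fun h0 => hne (by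
      have := congrArg (· * (t : M4)) (sub_eq_zero.mp h0)
      simpa [mul_assoc] using this)
    let L : V →ₗ[F] F × F := LinearMap.prod ((bb).flip w) (((bb).flip w).comp (Matrix.toLin' k))
    obtain ⟨x, hx, hx0⟩ := (Submodule.ne_bot_iff (LinearMap.ker L)).mp fun h => by
      have h1 := LinearMap.finrank_le_finrank_of_injective (LinearMap.ker_eq_bot.mp h)
      rw [Module.finrank_fintype_fun_eq_card, Module.finrank_prod] at h1
      simp at h1
    rw [LinearMap.mem_ker] at hx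
    have hx1 : bb x w = 0 := congrArg Prod.fst hx
    have hx2 : bb (k *ᵥ x) w = 0 := congrArg Prod.snd hx
    have htx : (t : M4) *ᵥ x = x := by rw [ht, AltForm.trans_mulVec, hx1, mul_zero, zero_smul, add_zero]
    have hti : ((t⁻¹ : G4) : M4) *ᵥ x = x := by
      conv_lhs => rw [← htx]
      rw [Matrix.mulVec_mulVec, Units.inv_mul, Matrix.one_mulVec]
    have hzero : ((t : M4) * k * ((t⁻¹ : G4) : M4) - k) *ᵥ x = 0 := by
      rw [Matrix.sub_mulVec, ← Matrix.mulVec_mulVec, ← Matrix.mulVec_mulVec, hti, ht, AltForm.trans_mulVec, hx2,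
        mul_zero, zero_smul, add_zero, sub_self]
    refine hx0 ?_
    have := congrArg (y *ᵥ ·) hzero
    simp only [Matrix.mulVec_mulVec, Matrix.mulVec_zero] at this
    rwa [hK.comm y hy0 _ hm, hy, Matrix.one_mulVec] at this
  have heig : ∀ w : V, ∃ a : F, k *ᵥ w = a • w := by
    intro w
    rcases eq_or_ne w 0 with rfl | hw
    · exact ⟨0, by simp⟩
    obtain ⟨x, hx⟩ : ∃ x, bb x w ≠ 0 := by
      by_contra hc; push Not at hc
      exact hw (bb_ext fun u => by rw [hc, map_zero])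
    have h := congrArg (· *ᵥ x) (hcomm w (bb x w)⁻¹)
    simp only [← Matrix.mulVec_mulVec, AltForm.trans_mulVec, inv_mul_cancel₀ hx, one_smul,
      Matrix.mulVec_add] at h
    exact ⟨_, (add_left_cancel h).symm⟩
  obtain ⟨a, ha⟩ := heig (Pi.single (Sum.inl 0) 1)
  have hm : k - a • (1 : M4) ∈ K := K.sub_mem hk (K.smul_mem K.one_mem a)
  obtain ⟨y, hy0, hy⟩ := hK.inv _ hm fun h => hks ⟨a, sub_eq_zero.mp h⟩
  have hz : (k - a • (1 : M4)) *ᵥ (Pi.single (Sum.inl 0) 1 : V) = 0 := by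
    rw [Matrix.sub_mulVec, ha, Matrix.smul_mulVec, Matrix.one_mulVec, sub_self]
  have h2 := congrArg (y *ᵥ ·) hz
  simp only [Matrix.mulVec_mulVec, Matrix.mulVec_zero] at h2
  rw [hK.comm y hy0 _ hm, hy, Matrix.one_mulVec] at h2
  simpa using congrFun h2 (Sum.inl 0)

theorem not_le_subfieldSubgroup {F₀ : Subfield F} (h0 : F₀ ≠ ⊤) (P : G4) :
    ¬ S4 ≤ Cfsg.Geo.subfieldSubgroup F₀ P := by
  intro hle
  have hR : ∀ j, RatVec F₀ P ((P : M4) *ᵥ Pi.single j 1) := fun j => (ratVec_mulVec _).mpr fun l => by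
    rw [Pi.single_apply]; split_ifs; exacts [F₀.one_mem, F₀.zero_mem]
  have hP : Function.Injective ((P : M4) *ᵥ ·) := Matrix.mulVec_injective_iff_isUnit.mpr P.isUnit
  set w : V := (P : M4) *ᵥ Pi.single (Sum.inl 0) 1 with hw
  have hw0 : w ≠ 0 := fun h => by
    have := congrFun (hP (h.trans (Matrix.mulVec_zero _).symm)) (Sum.inl 0)
    simp at this
  obtain ⟨j, hj⟩ : ∃ j, bb ((P : M4) *ᵥ Pi.single j 1) w ≠ 0 := by
    by_contra hc; push Not at hc
    refine hw0 (bb_ext fun u => ?_)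
    rw [map_zero, show u = (P : M4) *ᵥ (((P⁻¹ : G4) : M4) *ᵥ u) by
      rw [Matrix.mulVec_mulVec, Units.mul_inv, Matrix.one_mulVec],
      pi_eq_sum_univ' (((P⁻¹ : G4) : M4) *ᵥ u), Matrix.mulVec_sum, map_sum, LinearMap.sum_apply]
    refine Finset.sum_eq_zero fun l _ => ?_
    rw [Matrix.mulVec_smul, map_smul, LinearMap.smul_apply, hc, smul_zero]
  refine h0 (eq_top_iff.mpr fun a _ => ?_)
  obtain ⟨s, hs, hsy⟩ := subfieldSubgroup_apply (hle (trans_mem w (a / bb ((P : M4) *ᵥ Pi.single j 1) w)))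
  obtain ⟨y, hy, h1⟩ := hsy w (hR _)
  rw [AltForm.trans_mulVec, bb_self, mul_zero, zero_smul, add_zero] at h1
  have hy0 : y ≠ 0 := fun h => hw0 (by rw [h1, h, smul_zero])
  have hsF : s ∈ F₀ := hy.coeff_mem hy0 (h1 ▸ hR _)
  obtain ⟨z, hz, h2⟩ := hsy _ (hR j)
  rw [AltForm.trans_mulVec, div_mul_cancel₀ _ hj] at h2
  have h3 : RatVec F₀ P (a • w) := by
    have := (hz.smul hsF).sub (hR j)
    rwa [← h2, add_sub_cancel_left] at this
  exact (hR _).coeff_mem hw0 h3

end Cfsg.Agent.Lib.SpFourOdd
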