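import Cfsg.Agent.Lib.SpFourOdd.CommAlg
import Cfsg.Agent.Lib.SympTwoPrime.Blocks
import Cfsg.Agent.Lib.TwoPrimeDim.Homogeneous
import Cfsg.Agent.Lib.TwoPrimeDim.Core

/-!
A normal non-scalar subgroup of an irreducible subgroup of `Sp_4(q)`, `q` odd: either a normalised involution or
skew element appears, or the subgroup acts absolutely irreducibly.
-/

set_option autoImplicit false
set_option linter.unusedSimpArgs false
set_option linter.unusedSectionVars false
set_option maxHeartbeats 1000000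

namespace Cfsg.Agent.Lib.SpFourOdd

open Matrix Cfsg.Agent.Lib.MaxSub
open scoped commutatorElement

variable {F : Type*} [Field F] [Fintype F]

local notation "V" => (Fin 2 ⊕ Fin 2 → F)
local notation "M4" => Matrix (Fin 2 ⊕ Fin 2) (Fin 2 ⊕ Fin 2) F
local notation "G4" => GL (Fin 2 ⊕ Fin 2) F
local notation "S4" => Cfsg.spGL 2 F
local notation "bb" => AltForm.B (stdAlt 2 F)
local notation "W2" => (Fin 2 → F)
local notation "M2" => Matrix (Fin 2) (Fin 2) F

/-- Two copies of an absolutely irreducible two-dimensional representation. -/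
theorem two_two (hodd : Odd (Fintype.card F)) {G N : Subgroup (GL (Fin 2 ⊕ Fin 2) F)} (hG : G ≤ S4)
    (hirr : Cfsg.Geo.ActsIrreducibly (Cfsg.Geo.matrixSet G)) (hN : N ≤ G)
    (hn : ∀ g ∈ G, ∀ x ∈ N, g * x * g⁻¹ ∈ N) (hns : ∃ x ∈ N, ¬ IsScal (x : M4))
    (A : N → M2) (f0 f1 : W2 →ₗ[F] V)
    (hbij : Function.Bijective (f0.coprod f1))
    (hAirr : ∀ U : Submodule F W2, (∀ n, ∀ u ∈ U, A n *ᵥ u ∈ U) → U = ⊥ ∨ U = ⊤)
    (hscal : ∀ X : M2, (∀ n, X * A n = A n * X) → ∃ c : F, X = c • 1)
    (he0 : ∀ (n : N) x, ((n : G4) : M4) *ᵥ f0 x = f0 (A n *ᵥ x))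
    (he1 : ∀ (n : N) x, ((n : G4) : M4) *ᵥ f1 x = f1 (A n *ᵥ x)) : HasInv2 G := by
  classical
  have h2 := two_ne hodd
  let Ψ := LinearEquiv.ofBijective (f0.coprod f1) hbij
  have hΨ : ∀ x y : W2, Ψ (x, y) = f0 x + f1 y := fun x y => rfl
  have hsplit : ∀ v : V, ∃ x y : W2, f0 x + f1 y = v := fun v => by
    obtain ⟨⟨x, y⟩, h⟩ := Ψ.surjective v
    exact ⟨x, y, h⟩
  have hinj0 : Function.Injective f0 := fun a b h => by
    have := hbij.1 (a₁ := (a, (0 : W2))) (a₂ := (b, 0)) (by simp [h])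
    exact (Prod.ext_iff.mp this).1
  have hmulA : ∀ n m : N, A (n * m) = A n * A m := fun n m => eq_of_mulVec_eq fun x => hinj0 <| by
    rw [← he0, ← Matrix.mulVec_mulVec, ← he0, ← he0, Subgroup.coe_mul, Units.val_mul, Matrix.mulVec_mulVec]
  have honeA : A 1 = 1 := eq_of_mulVec_eq fun x => hinj0 <| by
    rw [← he0, Subgroup.coe_one, Units.val_one, Matrix.one_mulVec, Matrix.one_mulVec]
  have hinvA : ∀ n : N, A n⁻¹ * A n = 1 := fun n => by rw [← hmulA, inv_mul_cancel, honeA]
  have hinvA' : ∀ n : N, A n * A n⁻¹ = 1 := fun n => by rw [← hmulA, mul_inv_cancel, honeA]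
  have hextA : ∀ n m : N, A n = A m → n = m := fun n m h => Subtype.ext <| Units.ext <| eq_of_mulVec_eq fun v => by
    obtain ⟨x, y, rfl⟩ := hsplit v
    rw [Matrix.mulVec_add, Matrix.mulVec_add, he0, he0, he1, he1, h]
  -- the four forms
  let fs : Fin 2 → (W2 →ₗ[F] V) := ![f0, f1]
  have hfs : ∀ i (n : N) x, ((n : G4) : M4) *ᵥ fs i x = fs i (A n *ᵥ x) := fun i n x => by
    fin_cases i
    · exact he0 n x
    · exact he1 n x
  let Bm : Fin 2 → Fin 2 → M2 := fun i j =>
    Matrix.of fun a b => bb (fs i (Pi.single a 1)) (fs j (Pi.single b 1))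
  have hBm : ∀ i j x y, bb (fs i x) (fs j y) = x ⬝ᵥ (Bm i j *ᵥ y) := by
    intro i j x y
    conv_lhs => rw [pi_eq_sum_univ' x, pi_eq_sum_univ' y]
    simp only [Fin.sum_univ_two, map_add, map_smul, LinearMap.add_apply, LinearMap.smul_apply, smul_eq_mul]
    simp [Bm, Matrix.mulVec, dotProduct, Fin.sum_univ_two]
    ring
  have hBext : ∀ {B B' : M2}, (∀ x y, x ⬝ᵥ (B *ᵥ y) = x ⬝ᵥ (B' *ᵥ y)) → B = B' := by
    intro B B' h
    ext a b
    have := h (Pi.single a 1) (Pi.single b 1)
    simpa using this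
  have hinvB : ∀ i j (n : N), (A n)ᵀ * Bm i j * A n = Bm i j := by
    intro i j n
    refine hBext fun x y => ?_
    rw [← Matrix.mulVec_mulVec, ← Matrix.mulVec_mulVec, Matrix.dotProduct_mulVec, Matrix.vecMul_transpose, ← hBm,
      ← hBm, ← hfs, ← hfs, bb_iso (hG (hN n.2))]
  obtain ⟨i0, j0, hB0⟩ : ∃ i j, Bm i j ≠ 0 := by
    by_contra hc
    push Not at hc
    have hz : ∀ i j x y, bb (fs i x) (fs j y) = 0 := fun i j x y => by
      rw [hBm, hc, Matrix.zero_mulVec, dotProduct_zero]
    have hall : ∀ u v : V, bb u v = 0 := by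
      intro u v
      obtain ⟨x, y, rfl⟩ := hsplit u
      obtain ⟨x', y', rfl⟩ := hsplit v
      simp only [map_add, LinearMap.add_apply, show bb (f0 x) (f0 x') = 0 from hz 0 0 x x',
        show bb (f0 x) (f1 y') = 0 from hz 0 1 x y', show bb (f1 y) (f0 x') = 0 from hz 1 0 y x',
        show bb (f1 y) (f1 y') = 0 from hz 1 1 y y', add_zero]
    have h0 : (Pi.single (Sum.inl 0) 1 : V) = 0 := bb_ext fun u => by rw [hall, map_zero]
    simpa using congrFun h0 (Sum.inl 0)
  set B0 := Bm i0 j0 with hB0def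
  have hcomB : ∀ {B : M2}, (∀ n : N, (A n)ᵀ * B * A n = B) → ∀ n : N, B * A n = (A n⁻¹)ᵀ * B := by
    intro B hB n
    conv_rhs => rw [← hB n, ← mul_assoc, ← mul_assoc, ← Matrix.transpose_mul, hinvA', Matrix.transpose_one,
      one_mul]
  have hdet : IsUnit B0.det := by
    rw [← Matrix.isUnit_iff_isUnit_det, ← Matrix.mulVec_injective_iff_isUnit]
    have hker : LinearMap.ker (Matrix.toLin' B0) = ⊥ := by
      refine (hAirr _ fun n u hu => ?_).resolve_right fun h => hB0 ?_
      · rw [LinearMap.mem_ker, Matrix.toLin'_apply] at hu ⊢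
        rw [Matrix.mulVec_mulVec, hcomB (hinvB i0 j0) n, ← Matrix.mulVec_mulVec, hu, Matrix.mulVec_zero]
      · exact Matrix.toLin'.injective (by rw [map_zero]; exact LinearMap.ker_eq_top.mp h)
    intro a b hab
    exact LinearMap.ker_eq_bot.mp hker (by simpa [Matrix.toLin'_apply] using hab)
  have hprop : ∀ {B : M2}, (∀ n : N, (A n)ᵀ * B * A n = B) → ∃ c : F, B = c • B0 := by
    intro B hB
    obtain ⟨c, hc⟩ := hscal (B0⁻¹ * B) fun n => by
      rw [mul_assoc, hcomB hB, ← mul_assoc]
      have h := hcomB (hinvB i0 j0) n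
      rw [← hB0def] at h
      calc B0⁻¹ * (A n⁻¹)ᵀ * B = B0⁻¹ * ((A n⁻¹)ᵀ * B0) * (B0⁻¹ * B) := by
            simp only [mul_assoc, Matrix.mul_nonsing_inv_cancel_left _ _ hdet]
        _ = A n * (B0⁻¹ * B) := by rw [← h, ← mul_assoc B0⁻¹ B0, Matrix.nonsing_inv_mul _ hdet, one_mul]
    refine ⟨c, ?_⟩
    have := congrArg (B0 * ·) hc
    simpa [Matrix.mul_nonsing_inv_cancel_left _ _ hdet] using this
  obtain ⟨t, ht⟩ := hprop (B := B0ᵀ) fun n => by
    have h := congrArg Matrix.transpose (hinvB i0 j0 n)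
    simpa [Matrix.transpose_mul, mul_assoc] using h
  choose c hc using fun i j => hprop (hinvB i j)
  have hform : ∀ i j x y, bb (fs i x) (fs j y) = c i j * (x ⬝ᵥ (B0 *ᵥ y)) := fun i j x y => by
    rw [hBm, hc, Matrix.smul_mulVec, dotProduct_smul, smul_eq_mul]
  have htB : ∀ x y : W2, x ⬝ᵥ (B0 *ᵥ y) = t * (y ⬝ᵥ (B0 *ᵥ x)) := fun x y => by
    conv_lhs => rw [Matrix.dotProduct_mulVec, ← Matrix.mulVec_transpose, ht, Matrix.smul_mulVec, smul_dotProduct,
      smul_eq_mul, dotProduct_comm]
  have ht2 : t * t = 1 := by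
    by_contra h
    refine hB0 (hBext fun x y => ?_)
    rw [Matrix.zero_mulVec, dotProduct_zero]
    have h' := htB x y
    rw [htB y x] at h'
    exact (mul_eq_zero.mp (show (1 - t * t) * (x ⬝ᵥ (B0 *ᵥ y)) = 0 by linear_combination h')).resolve_left
      (sub_ne_zero.mpr (Ne.symm h))
  rcases mul_self_eq_one_iff.mp ht2 with rfl | rfl
  · -- symmetric form
    rw [one_smul] at ht
    let J : M2 := !![0, 1; -1, 0]
    have hrot : ∀ n : N, (A n).det = 1 → A n ∈ Submodule.span F ({1, B0⁻¹ * J} : Set M2) := by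
      intro n hd
      set a := A n with ha
      have h := hinvB i0 j0 n
      rw [← hB0def, ← ha] at h
      have h' : aᵀ * B0 = B0 * a.adjugate := by
        have := congrArg (· * a.adjugate) h
        simpa [mul_assoc, Matrix.mul_adjugate, hd] using this
      have hs : B0 1 0 = B0 0 1 := congrFun (congrFun ht 0) 1
      have e00 := congrFun (congrFun h' 0) 0
      have e01 := congrFun (congrFun h' 0) 1
      have e11 := congrFun (congrFun h' 1) 1
      simp [Matrix.adjugate_fin_two, Matrix.mul_apply, Fin.sum_univ_two, hs] at e00 e01 e11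
      set M : M2 := B0 * (a - ((a 0 0 + a 1 1) / 2) • (1 : M2)) with hM
      have hMJ : M = M 0 1 • J := by
        ext i j
        fin_cases i <;> fin_cases j <;>
          simp [hM, J, Matrix.mul_apply, Fin.sum_univ_two, Matrix.one_apply, hs] <;>
          field_simp <;>
          first
            | linear_combination e00
            | linear_combination e11
            | linear_combination e01
            | linear_combination -e01
            | linear_combination 2 * e01
            | linear_combination -(2 : F) * e01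
            | linear_combination -e00
            | linear_combination -e11
      rw [Submodule.mem_span_pair]
      refine ⟨(a 0 0 + a 1 1) / 2, M 0 1, ?_⟩
      rw [← Matrix.mul_smul, ← hMJ, hM, Matrix.nonsing_inv_mul_cancel_left _ _ hdet, add_sub_cancel]
    have hrc : ∀ n m : N, (A n).det = 1 → (A m).det = 1 → n * m = m * n := by
      intro n m hd hd'
      refine hextA _ _ ?_
      rw [hmulA, hmulA]
      obtain ⟨p, q, h⟩ := Submodule.mem_span_pair.mp (hrot n hd)
      obtain ⟨p', q', h'⟩ := Submodule.mem_span_pair.mp (hrot m hd')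
      rw [← h, ← h']
      simp only [add_mul, mul_add, smul_mul_smul_comm, one_mul, mul_one]
      rw [mul_comm p p', mul_comm q q', mul_comm p q', mul_comm q p']
      abel
    have hd2 : ∀ n : N, (A n).det * (A n).det = 1 := fun n => by
      have h := congrArg Matrix.det (hinvB i0 j0 n)
      rw [← hB0def, Matrix.det_mul, Matrix.det_mul, Matrix.det_transpose] at h
      exact mul_right_cancel₀ hdet.ne_zero (show (A n).det * (A n).det * B0.det = 1 * B0.det by
        linear_combination h)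
    -- the derived group
    let D0 : Subgroup N :=
      { carrier := {n | (A n).det = 1}
        one_mem' := by show (A 1).det = 1; rw [honeA, Matrix.det_one]
        mul_mem' := fun {a b} ha hb => by
          show (A (a * b)).det = 1
          rw [hmulA, Matrix.det_mul, (show (A a).det = 1 from ha), (show (A b).det = 1 from hb), one_mul]
        inv_mem' := fun {a} ha => by
          show (A a⁻¹).det = 1
          have h := congrArg Matrix.det (hinvA a)
          rwa [Matrix.det_mul, (show (A a).det = 1 from ha), mul_one, Matrix.det_one] at h }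
    have hDle : ⁅N, N⁆ ≤ D0.map N.subtype := by
      refine Subgroup.commutator_le.mpr fun a ha b hb => ⟨⁅(⟨a, ha⟩ : N), ⟨b, hb⟩⁆, ?_, by simp [commutatorElement_def]⟩
      show (A ⁅(⟨a, ha⟩ : N), ⟨b, hb⟩⁆).det = 1
      have k1 := congrArg Matrix.det (hinvA' ⟨a, ha⟩)
      have k2 := congrArg Matrix.det (hinvA' ⟨b, hb⟩)
      rw [Matrix.det_mul, Matrix.det_one] at k1 k2
      rw [commutatorElement_def, hmulA, hmulA, hmulA, Matrix.det_mul, Matrix.det_mul, Matrix.det_mul]
      calc _ = ((A ⟨a, ha⟩).det * (A (⟨a, ha⟩ : N)⁻¹).det) * ((A ⟨b, hb⟩).det * (A (⟨b, hb⟩ : N)⁻¹).det) := by ring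
        _ = 1 := by rw [k1, k2, one_mul]
    by_cases hcl : ∃ x ∈ ⁅N, N⁆, ¬ IsScal (x : M4)
    · refine abelian_case hodd hG hirr ((Subgroup.commutator_le_self N).trans hN) ?_ (fun x hx y hy => ?_) hcl
      · intro g hg x hx
        exact Cfsg.Agent.Lib.TwoPrimeDim.normalisedBy_commutator hn g hg x hx
      · obtain ⟨a, ha, rfl⟩ := hDle hx
        obtain ⟨b, hb, rfl⟩ := hDle hy
        exact congrArg N.subtype (hrc a b ha hb)
    push Not at hcl
    have hpm : ∀ x ∈ N, ∀ y ∈ N, (x : M4) * y = y * x ∨ (x : M4) * y = -((y : M4) * x) := by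
      intro x hx y hy
      have hc' := Subgroup.commutator_mem_commutator hx hy
      have e : x * y = ⁅x, y⁆ * (y * x) := by rw [commutatorElement_def]; group
      rcases scal_iso (hG (hN (Subgroup.commutator_le_self N hc'))) (hcl _ hc') with h | h <;> rw [h] at e
      · rw [one_mul] at e; exact Or.inl (congrArg Units.val e)
      · right; have := congrArg Units.val e; simpa using this
    have hsq : ∀ x ∈ N, (x : M4) * x = 1 ∨ (x : M4) * x = -1 := by
      intro x hx
      obtain ⟨r, hr⟩ := hscal (A (⟨x, hx⟩ * ⟨x, hx⟩)) fun m => by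
        rw [← hmulA, ← hmulA]
        congr 1
        refine Subtype.ext (Units.ext ?_)
        simp only [Subgroup.coe_mul, Units.val_mul]
        rcases hpm x hx m m.2 with h | h
        · rw [mul_assoc, h, ← mul_assoc, h, mul_assoc]
        · rw [mul_assoc, h, mul_neg, ← mul_assoc, h, neg_mul, neg_neg, mul_assoc]
      have hsc : IsScal ((x * x : G4) : M4) := ⟨r, eq_of_mulVec_eq fun v => by
        obtain ⟨a, b, rfl⟩ := hsplit v
        have k0 := he0 (⟨x, hx⟩ * ⟨x, hx⟩) a
        have k1 := he1 (⟨x, hx⟩ * ⟨x, hx⟩) b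
        simp only [Subgroup.coe_mul, hr, Matrix.smul_mulVec, Matrix.one_mulVec, map_smul] at k0 k1
        rw [Matrix.mulVec_add, k0, k1, Matrix.smul_mulVec, Matrix.one_mulVec, smul_add]⟩
      rcases scal_iso (hG (hN (N.mul_mem hx hx))) hsc with h | h
      · exact Or.inl (by rw [← Units.val_mul, h, Units.val_one])
      · exact Or.inr (by rw [← Units.val_mul, h, Units.val_neg, Units.val_one])
    by_cases hT : ∃ x ∈ N, (x : M4) * x = -1
    swap
    · push Not at hT
      refine abelian_case hodd hG hirr hN hn (fun x hx y hy => ?_) hns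
      have hx1 : x * x = 1 := Units.ext (by rw [Units.val_mul]; exact (hsq x hx).resolve_right (hT x hx))
      have hy1 : y * y = 1 := Units.ext (by rw [Units.val_mul]; exact (hsq y hy).resolve_right (hT y hy))
      have hxy : x * y * (x * y) = 1 := Units.ext (by
        rw [Units.val_mul]; exact (hsq _ (N.mul_mem hx hy)).resolve_right (hT _ (N.mul_mem hx hy)))
      calc x * y = (x * y)⁻¹ := eq_inv_of_mul_eq_one_left hxy
        _ = y⁻¹ * x⁻¹ := _root_.mul_inv_rev x y
        _ = y * x := by rw [inv_eq_of_mul_eq_one_right hx1, inv_eq_of_mul_eq_one_right hy1]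
    have hTrot : ∀ x (hx : x ∈ N), (x : M4) * x = -1 → (A ⟨x, hx⟩).det = 1 := by
      intro x hx hxx
      rcases mul_self_eq_one_iff.mp (hd2 ⟨x, hx⟩) with h | h
      · exact h
      exfalso
      set a := A ⟨x, hx⟩ with ha
      have haa : a * a = -1 := eq_of_mulVec_eq fun u => hinj0 <| by
        rw [← Matrix.mulVec_mulVec, ha, ← he0, ← he0, Matrix.mulVec_mulVec, hxx, Matrix.neg_mulVec,
          Matrix.one_mulVec, Matrix.neg_mulVec, Matrix.one_mulVec, map_neg]
      have k00 := congrFun (congrFun haa 0) 0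
      have k01 := congrFun (congrFun haa 0) 1
      have k10 := congrFun (congrFun haa 1) 0
      have k11 := congrFun (congrFun haa 1) 1
      simp [Matrix.mul_apply, Fin.sum_univ_two] at k00 k01 k10 k11
      rw [Matrix.det_fin_two] at h
      set tr := a 0 0 + a 1 1 with htr
      have htr0 : tr ≠ 0 := fun h0 => h2 (by linear_combination k00 + h - a 0 0 * h0)
      have ha01 : a 0 1 = 0 := (mul_eq_zero.mp (show a 0 1 * tr = 0 by linear_combination k01)).resolve_right htr0
      have ha10 : a 1 0 = 0 := (mul_eq_zero.mp (show a 1 0 * tr = 0 by linear_combination k10)).resolve_right htr0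
      have had : a 0 0 = a 1 1 := (sub_eq_zero.mp ((mul_eq_zero.mp (show (a 0 0 - a 1 1) * tr = 0 by
        linear_combination k00 - k11)).resolve_right htr0))
      have hsc : a = a 0 0 • (1 : M2) := by
        ext i j
        fin_cases i <;> fin_cases j <;> simp [ha01, ha10, had]
      have hI := hinvB i0 j0 ⟨x, hx⟩
      rw [← hB0def, ← ha, hsc, Matrix.transpose_smul, Matrix.transpose_one, Matrix.smul_mul, one_mul,
        Matrix.mul_smul, mul_one, smul_smul] at hI
      have hm : a 0 0 * a 0 0 = -1 := by rw [ha01] at k00; linear_combination k00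
      rw [hm, neg_one_smul] at hI
      refine hB0 ((smul_eq_zero.mp (show (2 : F) • B0 = 0 from ?_)).resolve_left h2)
      rw [two_smul]
      exact add_eq_zero_iff_eq_neg.mpr hI.symm
    let T : Set G4 := {x | x ∈ N ∧ (x : M4) * x = -1}
    have hTN : Subgroup.closure T ≤ N := (Subgroup.closure_le _).mpr fun x hx => hx.1
    refine abelian_case hodd hG hirr (hTN.trans hN) (fun g hg x hx => ?_) (fun x hx y hy => ?_) ?_
    · have hle : (Subgroup.closure T).map (MulAut.conj g).toMonoidHom ≤ Subgroup.closure T := by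
        rw [MonoidHom.map_closure]
        refine Subgroup.closure_mono ?_
        rintro _ ⟨u, hu, rfl⟩
        refine ⟨hn g hg u hu.1, ?_⟩
        simp only [MulEquiv.coe_toMonoidHom, MulAut.conj_apply, Units.val_mul]
        rw [conj_mul, hu.2, mul_neg, mul_one, neg_mul, Units.mul_inv]
      exact hle ⟨x, hx, rfl⟩
    · have hgen : ∀ u ∈ T, ∀ v ∈ T, u * v = v * u := fun u hu v hv =>
        congrArg N.subtype (hrc ⟨u, hu.1⟩ ⟨v, hv.1⟩ (hTrot u hu.1 hu.2) (hTrot v hv.1 hv.2))
      have hle : Subgroup.closure T ≤ Subgroup.centralizer (Subgroup.closure T : Set G4) := by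
        rw [Subgroup.centralizer_closure, Subgroup.closure_le]
        exact fun u hu => Subgroup.mem_centralizer_iff.mpr fun v hv => hgen v hv u hu
      exact (Subgroup.mem_centralizer_iff.mp (hle hx) y hy).symm
    · obtain ⟨x, hx, hxx⟩ := hT
      refine ⟨x, Subgroup.subset_closure ⟨hx, hxx⟩, fun hs => ?_⟩
      rcases scal_iso (hG (hN hx)) hs with h | h <;> rw [h] at hxx <;> simp at hxx
      all_goals
        have := congrFun (congrFun hxx (Sum.inl 0)) (Sum.inl 0)
        simp at this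
        exact h2 (by linear_combination this)
  · -- alternating form
    have hβ0 : ∃ x y : W2, x ⬝ᵥ (B0 *ᵥ y) ≠ 0 := by
      by_contra h
      push Not at h
      exact hB0 (hBext fun x y => by rw [h, Matrix.zero_mulVec, dotProduct_zero])
    obtain ⟨x0, y0, hxy0⟩ := hβ0
    have hsym : c 1 0 = c 0 1 := by
      have h := bb_swap (fs 1 y0) (fs 0 x0)
      rw [hform, hform, htB y0 x0] at h
      exact mul_right_cancel₀ hxy0 (by linear_combination -h)
    set p := c 0 0 with hp
    set q := c 0 1 with hq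
    set r := c 1 1 with hr
    have hbb : ∀ x y x' y' : W2, bb (f0 x + f1 y) (f0 x' + f1 y') = p * (x ⬝ᵥ (B0 *ᵥ x')) +
        q * (x ⬝ᵥ (B0 *ᵥ y')) + q * (y ⬝ᵥ (B0 *ᵥ x')) + r * (y ⬝ᵥ (B0 *ᵥ y')) := by
      intro x y x' y'
      simp only [map_add, LinearMap.add_apply]
      rw [show bb (f0 x) (f0 x') = _ from hform 0 0 x x', show bb (f0 x) (f1 y') = _ from hform 0 1 x y',
        show bb (f1 y) (f0 x') = _ from hform 1 0 y x', show bb (f1 y) (f1 y') = _ from hform 1 1 y y', hsym]
      ring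
    have hD : q * q - p * r ≠ 0 := by
      intro hD
      have key : ∃ a b : F, (a ≠ 0 ∨ b ≠ 0) ∧ p * a + q * b = 0 ∧ q * a + r * b = 0 := by
        rcases eq_or_ne p 0 with h | h
        · exact ⟨1, 0, Or.inl one_ne_zero, by rw [h]; ring,
            by rw [h, zero_mul, sub_zero] at hD; rw [(mul_self_eq_zero.mp hD)]; ring⟩
        · exact ⟨q, -p, Or.inr (neg_ne_zero.mpr h), by ring, by linear_combination hD⟩
      obtain ⟨a, b, hab, k1, k2⟩ := key
      have hz : f0 (a • y0) + f1 (b • y0) = 0 := bb_ext fun u => by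
        obtain ⟨x, y, rfl⟩ := hsplit u
        rw [map_zero, hbb]
        simp only [Matrix.mulVec_smul, dotProduct_smul, smul_eq_mul]
        linear_combination (x ⬝ᵥ (B0 *ᵥ y0)) * k1 + (y ⬝ᵥ (B0 *ᵥ y0)) * k2
      have h0 := hbij.1 (a₁ := (a • y0, b • y0)) (a₂ := (0, 0)) (by simpa using hz)
      have hy0 : y0 ≠ 0 := fun h => hxy0 (by rw [h, Matrix.mulVec_zero, dotProduct_zero])
      simp only [Prod.mk.injEq, smul_eq_zero, hy0, or_false] at h0
      rcases hab with h | h
      · exact h h0.1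
      · exact h h0.2
    let op : F → F → F → F → M4 := fun a b c' d => LinearMap.toMatrix'
      (Ψ.toLinearMap ∘ₗ ((a • LinearMap.fst F W2 W2 + b • LinearMap.snd F W2 W2).prod
        (c' • LinearMap.fst F W2 W2 + d • LinearMap.snd F W2 W2)) ∘ₗ Ψ.symm.toLinearMap)
    have hop : ∀ a b c' d x y, op a b c' d *ᵥ (f0 x + f1 y) = f0 (a • x + b • y) + f1 (c' • x + d • y) := by
      intro a b c' d x y
      rw [← Matrix.toLin'_apply, Matrix.toLin'_toMatrix', ← hΨ, ← hΨ]
      simp
    have hrep : ∀ X : M4, (∀ n : N, ((n : G4) : M4) * X = X * ((n : G4) : M4)) →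
        ∃ a b c' d, X = op a b c' d := by
      intro X hX
      have hblock : ∀ f : W2 →ₗ[F] V, (∀ (n : N) x, ((n : G4) : M4) *ᵥ f x = f (A n *ᵥ x)) →
          ∃ a c' : F, ∀ x, X *ᵥ f x = f0 (a • x) + f1 (c' • x) := by
        intro f hf
        let L : W2 →ₗ[F] W2 × W2 := Ψ.symm.toLinearMap ∘ₗ Matrix.toLin' X ∘ₗ f
        have hL : ∀ x, X *ᵥ f x = f0 (L x).1 + f1 (L x).2 := fun x => by
          rw [← hΨ]; simp [L]
        have hLe : ∀ (n : N) x, L (A n *ᵥ x) = (A n *ᵥ (L x).1, A n *ᵥ (L x).2) := fun n x => by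
          refine Ψ.injective ?_
          rw [hΨ, ← hL, hΨ, ← he0, ← he1, ← Matrix.mulVec_add, ← hL, ← hf, Matrix.mulVec_mulVec, Matrix.mulVec_mulVec, hX]
        obtain ⟨a, ha⟩ := hscal (LinearMap.toMatrix' (LinearMap.fst F W2 W2 ∘ₗ L)) fun n => eq_of_mulVec_eq fun x => by
          rw [← Matrix.mulVec_mulVec, ← Matrix.mulVec_mulVec, LinearMap.toMatrix'_mulVec, LinearMap.toMatrix'_mulVec]
          simp only [LinearMap.comp_apply, LinearMap.fst_apply, LinearMap.snd_apply, hLe]
        obtain ⟨c', hc'⟩ := hscal (LinearMap.toMatrix' (LinearMap.snd F W2 W2 ∘ₗ L)) fun n => eq_of_mulVec_eq fun x => by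
          rw [← Matrix.mulVec_mulVec, ← Matrix.mulVec_mulVec, LinearMap.toMatrix'_mulVec, LinearMap.toMatrix'_mulVec]
          simp only [LinearMap.comp_apply, LinearMap.fst_apply, LinearMap.snd_apply, hLe]
        refine ⟨a, c', fun x => ?_⟩
        have k1 := congrArg (· *ᵥ x) ha
        have k2 := congrArg (· *ᵥ x) hc'
        simp only [LinearMap.toMatrix'_mulVec, LinearMap.comp_apply, LinearMap.fst_apply, LinearMap.snd_apply,
          Matrix.smul_mulVec, Matrix.one_mulVec] at k1 k2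
        rw [hL, k1, k2]
      obtain ⟨a, c', h0⟩ := hblock f0 he0
      obtain ⟨b, d, h1⟩ := hblock f1 he1
      refine ⟨a, b, c', d, eq_of_mulVec_eq fun v => ?_⟩
      obtain ⟨x, y, rfl⟩ := hsplit v
      rw [hop, Matrix.mulVec_add, h0, h1, map_add, map_add]
      abel
    set z := op q r (-p) (-q) with hz
    have hzc : ∀ n : N, ((n : G4) : M4) * z = z * ((n : G4) : M4) := fun n => eq_of_mulVec_eq fun v => by
      obtain ⟨x, y, rfl⟩ := hsplit v
      rw [← Matrix.mulVec_mulVec, ← Matrix.mulVec_mulVec, hz, hop, Matrix.mulVec_add, Matrix.mulVec_add,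
        he0, he1, he0, he1, hop, Matrix.mulVec_add, Matrix.mulVec_add, Matrix.mulVec_smul, Matrix.mulVec_smul,
        Matrix.mulVec_smul, Matrix.mulVec_smul]
    have hza : adj z = -z := adj_eq fun u v => by
      obtain ⟨x, y, rfl⟩ := hsplit u
      obtain ⟨x', y', rfl⟩ := hsplit v
      rw [Matrix.neg_mulVec, map_neg, hz, hop, hop, hbb, hbb]
      simp only [add_dotProduct, smul_dotProduct, Matrix.mulVec_add, Matrix.mulVec_smul, dotProduct_add,
        dotProduct_smul, smul_eq_mul]
      ring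
    have hzz : z * z = (q * q - p * r) • (1 : M4) := eq_of_mulVec_eq fun v => by
      obtain ⟨x, y, rfl⟩ := hsplit v
      rw [← Matrix.mulVec_mulVec, hz, hop, hop, Matrix.smul_mulVec, Matrix.one_mulVec]
      simp only [map_add, map_smul]
      module
    have hz0 : z ≠ 0 := fun h => by
      rw [h, zero_mul] at hzz
      exact hD ((smul_eq_zero.mp hzz.symm).resolve_right one_ne)
    have hzs : ¬ IsScal z := by
      rintro ⟨s, hs⟩
      rw [hs, adj_smul, adj_one, ← neg_smul] at hza
      have : (2 : F) * s = 0 := by linear_combination smul_one_inj hza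
      exact hz0 (by rw [hs, (mul_eq_zero.mp this).resolve_left h2, zero_smul])
    have huniq : ∀ X : M4, (∀ n : N, ((n : G4) : M4) * X = X * ((n : G4) : M4)) → adj X = -X →
        ∃ s : F, X = s • z := by
      intro X hX haX
      obtain ⟨a, b, c', d, rfl⟩ := hrep X hX
      have hE : ∀ x y x' y' : W2, bb (op a b c' d *ᵥ (f0 x + f1 y)) (f0 x' + f1 y') =
          -bb (f0 x + f1 y) (op a b c' d *ᵥ (f0 x' + f1 y')) := fun x y x' y' => by
        rw [adj_spec, haX, Matrix.neg_mulVec, map_neg]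
      have e1 := hE x0 0 y0 0
      have e2 := hE 0 x0 0 y0
      have e3 := hE x0 0 0 y0
      simp only [hop, hbb, smul_zero, add_zero, zero_add, Matrix.mulVec_zero, dotProduct_zero, zero_dotProduct,
        mul_zero, smul_dotProduct, Matrix.mulVec_smul, dotProduct_smul, smul_eq_mul] at e1 e2 e3
      have f1' : p * a + q * c' = 0 := (mul_eq_zero.mp (show (2 * (x0 ⬝ᵥ (B0 *ᵥ y0))) * (p * a + q * c') = 0 by
        linear_combination e1)).resolve_left (mul_ne_zero h2 hxy0)
      have f2' : q * b + r * d = 0 := (mul_eq_zero.mp (show (2 * (x0 ⬝ᵥ (B0 *ᵥ y0))) * (q * b + r * d) = 0 by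
        linear_combination e2)).resolve_left (mul_ne_zero h2 hxy0)
      have f3' : q * a + r * c' + (p * b + q * d) = 0 := (mul_eq_zero.mp (show
        (x0 ⬝ᵥ (B0 *ᵥ y0)) * (q * a + r * c' + (p * b + q * d)) = 0 by
          linear_combination e3)).resolve_left hxy0
      set s := -(p * b + q * d) / (q * q - p * r) with hs
      have hsD : s * (q * q - p * r) = -(p * b + q * d) := div_mul_cancel₀ _ hD
      refine ⟨s, eq_of_mulVec_eq fun v => ?_⟩
      obtain ⟨x, y, rfl⟩ := hsplit v
      have ka : a = s * q := mul_right_cancel₀ hD (by linear_combination (-r) * f1' + q * f3' - q * hsD)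
      have kb : b = s * r := mul_right_cancel₀ hD (by linear_combination q * f2' - r * hsD)
      have kc : c' = s * -p := mul_right_cancel₀ hD (by linear_combination q * f1' - p * f3' + p * hsD)
      have kd : d = s * -q := mul_right_cancel₀ hD (by linear_combination (-p) * f2' + q * hsD)
      rw [Matrix.smul_mulVec, hz, hop, hop, ka, kb, kc, kd]
      simp only [map_add, map_smul]
      module
    refine ⟨z, hzs, ⟨_, hD, hzz⟩, Or.inr hza, fun g hg => conj_sign ?_⟩
    obtain ⟨s, hs⟩ := huniq ((g : M4) * z * ((g⁻¹ : G4) : M4)) (fun n => by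
      have h := hzc ⟨g⁻¹ * n * g, by simpa using hn g⁻¹ (G.inv_mem hg) n n.2⟩
      have := congrArg (fun M : M4 => (g : M4) * M * ((g⁻¹ : G4) : M4)) h
      simpa [mul_assoc] using this) (by rw [adj_conj (hG hg), hza, Matrix.mul_neg, Matrix.neg_mul])
    have hsq : (s • z) * (s • z) = z * z := by
      rw [← hs, conj_mul, hzz, Matrix.mul_smul, Matrix.smul_mul, mul_one, Units.mul_inv]
    rw [smul_mul_smul_comm, hzz, smul_smul] at hsq
    rcases mul_self_eq_one_iff.mp (mul_right_cancel₀ hD ((smul_one_inj hsq).trans (one_mul _).symm)) with h | h <;>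
      rw [h] at hs
    · exact Or.inl (by rw [hs, one_smul])
    · exact Or.inr (by rw [hs, neg_one_smul])

/-- Clifford theory in degree four. -/
theorem clifford (hodd : Odd (Fintype.card F)) {G N : Subgroup (GL (Fin 2 ⊕ Fin 2) F)} (hG : G ≤ S4)
    (hirr : Cfsg.Geo.ActsIrreducibly (Cfsg.Geo.matrixSet G)) (hN : N ≤ G)
    (hn : ∀ g ∈ G, ∀ x ∈ N, g * x * g⁻¹ ∈ N) (hns : ∃ x ∈ N, ¬ IsScal (x : M4)) :
    HasInv2 G ∨ Cfsg.Geo.ActsAbsolutelyIrreducibly (Cfsg.Geo.matrixSet N) := by
  classical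
  by_cases hcn : ∃ a ∈ Cfsg.Agent.Lib.TwoPrimeDim.centre N, ¬ IsScal a
  · refine Or.inl (comm_case hodd hG hirr (Cfsg.Agent.Lib.TwoPrimeDim.centre N)
      (fun a ha b hb => Cfsg.Agent.Lib.TwoPrimeDim.centre_comm ha hb)
      (fun a ha => Cfsg.Agent.Lib.SympTwoPrime.centre_adjoint (hN.trans hG) ha fun u v => adj_spec a u v)
      (fun g hg a ha => ?_) hcn)
    exact (Cfsg.Agent.Lib.TwoPrimeDim.centre_normalized hn hg a).mp ha
  push Not at hcn
  obtain ⟨d, k, A, φ, hdk, hd, hk, hAirr, hAscal, hφ, hbij⟩ :=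
    Cfsg.Agent.Lib.TwoPrimeDim.homogeneous hirr hn hcn
  have h4 : d * k = 4 := by rw [hdk]; rfl
  have hd4 : d ≤ 4 := Nat.le_of_dvd (by norm_num) ⟨k, h4.symm⟩
  have hcases : d = 1 ∨ (d = 2 ∧ k = 2) ∨ k = 1 := by
    interval_cases d <;> omega
  rcases hcases with rfl | ⟨rfl, rfl⟩ | rfl
  · exfalso
    obtain ⟨x, hx, hxs⟩ := hns
    refine hxs ⟨A ⟨x, hx⟩ 0 0, eq_of_mulVec_eq fun v => ?_⟩
    obtain ⟨u, rfl⟩ := hbij.2 v
    have hA1 : ∀ y : Fin 1 → F, A ⟨x, hx⟩ *ᵥ y = A ⟨x, hx⟩ 0 0 • y := fun y => by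
      funext i
      obtain rfl : i = 0 := Subsingleton.elim _ _
      simp [Matrix.mulVec, dotProduct]
    simp only [Cfsg.Agent.Lib.MaxTensor.assemble, LinearMap.coe_mk, AddHom.coe_mk, Matrix.mulVec_sum,
      Matrix.smul_mulVec, Matrix.one_mulVec, Finset.smul_sum]
    exact Finset.sum_congr rfl fun j _ => by rw [hφ j ⟨x, hx⟩, hA1, map_smul]
  · left
    refine two_two hodd hG hirr hN hn hns A (φ 0) (φ 1) ⟨?_, ?_⟩ hAirr hAscal (hφ 0) (hφ 1)
    · rintro ⟨a, b⟩ ⟨a', b'⟩ h
      have h' := hbij.1 (a₁ := ![a, b]) (a₂ := ![a', b']) (by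
        simpa [Cfsg.Agent.Lib.MaxTensor.assemble, Fin.sum_univ_two] using h)
      exact Prod.ext (congrFun h' 0) (congrFun h' 1)
    · intro v
      obtain ⟨u, rfl⟩ := hbij.2 v
      exact ⟨(u 0, u 1), by simp [Cfsg.Agent.Lib.MaxTensor.assemble, Fin.sum_univ_two]⟩
  · right
    have hval : ∀ u, Cfsg.Agent.Lib.MaxTensor.assemble φ u = φ 0 (u 0) := fun u => by
      simp [Cfsg.Agent.Lib.MaxTensor.assemble]
    have h0 : Function.Bijective (φ 0) := by
      refine ⟨fun a b hab => ?_, fun v => ?_⟩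
      · exact congrFun (hbij.1 (a₁ := fun _ => a) (a₂ := fun _ => b) (by rw [hval, hval, hab])) 0
      · obtain ⟨u, rfl⟩ := hbij.2 v
        exact ⟨u 0, (hval u).symm⟩
    let Φ := LinearEquiv.ofBijective (φ 0) h0
    refine ⟨(Cfsg.Agent.Lib.TwoPrimeDim.actsIrreducibly_iff N).mpr fun U hU => ?_, fun M hM => ?_⟩
    · rcases hAirr (U.comap (φ 0)) fun n u hu => by
          rw [Submodule.mem_comap] at hu ⊢
          rw [← hφ]
          exact hU n n.2 _ hu with h | h
      · left
        rw [← Submodule.map_comap_eq_of_surjective h0.2 U, h, Submodule.map_bot]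
      · right
        rw [← Submodule.map_comap_eq_of_surjective h0.2 U, h, Submodule.map_top, LinearMap.range_eq_top.mpr h0.2]
    · let X := LinearMap.toMatrix' (Φ.symm.toLinearMap ∘ₗ Matrix.toLin' M ∘ₗ Φ.toLinearMap)
      have hX : ∀ y, φ 0 (X *ᵥ y) = M *ᵥ φ 0 y := fun y => by
        rw [← Matrix.toLin'_apply X, Matrix.toLin'_toMatrix']
        simp only [LinearMap.comp_apply, LinearEquiv.coe_coe, Matrix.toLin'_apply]
        exact Φ.apply_symm_apply _
      obtain ⟨c, hcX⟩ := hAscal X fun n => eq_of_mulVec_eq fun y => h0.1 (by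
        rw [← Matrix.mulVec_mulVec, ← Matrix.mulVec_mulVec, hX, ← hφ, ← hφ, hX, Matrix.mulVec_mulVec,
          Matrix.mulVec_mulVec, hM _ ⟨n, n.2, rfl⟩])
      refine ⟨c, eq_of_mulVec_eq fun v => ?_⟩
      obtain ⟨y, rfl⟩ := h0.2 v
      rw [← hX, hcX, Matrix.smul_mulVec, Matrix.one_mulVec, map_smul, Matrix.smul_mulVec, Matrix.one_mulVec]

end Cfsg.Agent.Lib.SpFourOdd
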