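import Cfsg.Agent.Lib.SpFourOdd.Invol

/-!
A normalised commutative algebra closed under adjoints gives a normalised involution or skew element.
-/

set_option autoImplicit false

namespace Cfsg.Agent.Lib.SpFourOdd

open Matrix Cfsg.Agent.Lib.MaxSub

variable {F : Type*} [Field F]

local notation "V" => (Fin 2 ⊕ Fin 2 → F)
local notation "M4" => Matrix (Fin 2 ⊕ Fin 2) (Fin 2 ⊕ Fin 2) F
local notation "G4" => GL (Fin 2 ⊕ Fin 2) F
local notation "S4" => Cfsg.spGL 2 F
local notation "bb" => AltForm.B (stdAlt 2 F)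

/-- Invariance of a subspace under a group of matrices. -/
theorem irr_cases {G : Subgroup G4} (hirr : Cfsg.Geo.ActsIrreducibly (Cfsg.Geo.matrixSet G))
    (W : Submodule F V) (h : ∀ g ∈ G, ∀ w ∈ W, (g : M4) *ᵥ w ∈ W) : W = ⊥ ∨ W = ⊤ := by
  refine hirr W ?_
  rintro _ ⟨g, hg, rfl⟩ _ ⟨w, hw, rfl⟩
  rw [Matrix.toLin'_apply]
  exact h g hg w hw

theorem conj_mul (g : G4) (a b : M4) :
    ((g : M4) * a * ((g⁻¹ : G4) : M4)) * ((g : M4) * b * ((g⁻¹ : G4) : M4)) =
      (g : M4) * (a * b) * ((g⁻¹ : G4) : M4) := by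
  simp [mul_assoc]

theorem conj_sign {g : G4} {s : M4} (h : (g : M4) * s * ((g⁻¹ : G4) : M4) = s ∨
    (g : M4) * s * ((g⁻¹ : G4) : M4) = -s) : (g : M4) * s = s * g ∨ (g : M4) * s = -(s * g) := by
  rcases h with h | h
  · left
    have := congrArg (· * (g : M4)) h
    simpa [mul_assoc] using this
  · right
    have := congrArg (· * (g : M4)) h
    simpa [mul_assoc] using this

theorem pow_idem [Finite F] (x : M4) : ∃ m : ℕ, 0 < m ∧ x ^ m * x ^ m = x ^ m := by
  obtain ⟨a, b, hlt, hab⟩ : ∃ a b : ℕ, a < b ∧ x ^ a = x ^ b := by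
    obtain ⟨a, b, hne, hab⟩ := Finite.exists_ne_map_eq_of_infinite fun n : ℕ => x ^ n
    rcases Nat.lt_or_gt_of_ne hne with h | h
    exacts [⟨a, b, h, hab⟩, ⟨b, a, h, hab.symm⟩]
  obtain ⟨d, rfl⟩ : ∃ d, b = a + (d + 1) := ⟨b - a - 1, by omega⟩
  have hper : ∀ n, a ≤ n → x ^ (n + (d + 1)) = x ^ n := fun n hn => by
    obtain ⟨k, rfl⟩ := Nat.exists_eq_add_of_le hn
    rw [show a + k + (d + 1) = a + (d + 1) + k by ring, pow_add _ (a + (d + 1)), ← hab, ← pow_add]
  have hk : ∀ k n, a ≤ n → x ^ (n + k * (d + 1)) = x ^ n := fun k => by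
    induction k with
    | zero => simp
    | succ k ih =>
      intro n hn
      rw [show n + (k + 1) * (d + 1) = n + k * (d + 1) + (d + 1) by ring, hper _ (by omega), ih n hn]
  refine ⟨(a + 1) * (d + 1), by positivity, ?_⟩
  rw [← pow_add, hk _ _ (le_trans (Nat.le_succ a) (Nat.le_mul_of_pos_right _ (Nat.succ_pos d)))]

theorem finrank_ti_le {W : Submodule F V} (h : ∀ u ∈ W, ∀ v ∈ W, bb u v = 0) : Module.finrank F W ≤ 2 := by
  have hnd : LinearMap.BilinForm.Nondegenerate (bb : LinearMap.BilinForm F V) :=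
    ⟨fun x hx => bb_ext' fun u => by rw [hx, map_zero, LinearMap.zero_apply],
      fun y hy => bb_ext fun u => by rw [hy, map_zero]⟩
  have hr : LinearMap.BilinForm.IsRefl (bb : LinearMap.BilinForm F V) := fun u v huv => by
    rw [bb_swap, huv, neg_zero]
  have hle : W ≤ LinearMap.BilinForm.orthogonal (bb : LinearMap.BilinForm F V) W :=
    fun v hv u hu => h u hu v hv
  have h1 := Submodule.finrank_mono hle
  rw [LinearMap.BilinForm.finrank_orthogonal hnd, finrank_V] at h1
  omega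

/-- The main lemma on normalised commutative algebras. -/
theorem comm_case [Fintype F] (hodd : Odd (Fintype.card F)) {G : Subgroup G4} (hG : G ≤ S4)
    (hirr : Cfsg.Geo.ActsIrreducibly (Cfsg.Geo.matrixSet G)) (E : Subalgebra F M4)
    (hcomm : ∀ a ∈ E, ∀ b ∈ E, a * b = b * a) (hadj : ∀ a ∈ E, adj a ∈ E)
    (hnorm : ∀ g ∈ G, ∀ a ∈ E, (g : M4) * a * ((g⁻¹ : G4) : M4) ∈ E) (hns : ∃ a ∈ E, ¬ IsScal a) :
    HasInv2 G := by
  classical
  have h2 := two_ne hodd
  -- reduced
  obtain ⟨W, ⟨hW0, hWE⟩, hWmin⟩ := (IsWellFounded.wf (r := fun A B : Submodule F V => A < B)).has_min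
    {W | W ≠ ⊥ ∧ ∀ a ∈ E, ∀ w ∈ W, a *ᵥ w ∈ W}
    ⟨⊤, fun h => by
      have := finrank_V (F := F); rw [← finrank_top F V, h, finrank_bot] at this; omega,
      fun _ _ _ _ => Submodule.mem_top⟩
  have hnilW : ∀ x ∈ E, IsNilpotent x → ∀ w ∈ W, x *ᵥ w = 0 := by
    intro x hx ⟨k, hk⟩ w hw
    set W' := W.map (Matrix.toLin' x)
    have hle : W' ≤ W := by
      rintro _ ⟨u, hu, rfl⟩
      rw [Matrix.toLin'_apply]; exact hWE x hx u hu
    by_cases h0 : W' = ⊥
    · have : x *ᵥ w ∈ W' := ⟨w, hw, Matrix.toLin'_apply _ _⟩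
      rwa [h0, Submodule.mem_bot] at this
    have heq : W' = W := by
      by_contra hne
      refine hWmin W' ⟨h0, ?_⟩ (lt_of_le_of_ne hle hne)
      rintro a ha _ ⟨u, hu, rfl⟩
      exact ⟨a *ᵥ u, hWE a ha u hu, by
        simp only [Matrix.toLin'_apply, Matrix.mulVec_mulVec, hcomm a ha x hx]⟩
    have hiter : ∀ j, ∀ u ∈ W, ∃ u' ∈ W, x ^ j *ᵥ u' = u := by
      intro j
      induction j with
      | zero => exact fun u hu => ⟨u, hu, by rw [pow_zero, Matrix.one_mulVec]⟩
      | succ j ih =>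
        intro u hu
        obtain ⟨u₁, hu₁, rfl⟩ := ih u hu
        obtain ⟨u₂, hu₂, h⟩ : u₁ ∈ W' := heq.symm ▸ hu₁
        exact ⟨u₂, hu₂, by rw [pow_succ, ← Matrix.mulVec_mulVec, ← Matrix.toLin'_apply x, h]⟩
    obtain ⟨w', -, hw'⟩ := hiter k w hw
    rw [hk, Matrix.zero_mulVec] at hw'
    rw [← hw', Matrix.mulVec_zero]
  have hred : ∀ x ∈ E, IsNilpotent x → x = 0 := by
    let V0 : Submodule F V :=
      { carrier := {v | ∀ x ∈ E, IsNilpotent x → x *ᵥ v = 0}
        add_mem' := fun {a b} ha hb x hx hn => by rw [Matrix.mulVec_add, ha x hx hn, hb x hx hn, add_zero]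
        zero_mem' := fun x _ _ => Matrix.mulVec_zero x
        smul_mem' := fun c a ha x hx hn => by rw [Matrix.mulVec_smul, ha x hx hn, smul_zero] }
    have htop : V0 = ⊤ := by
      refine (irr_cases hirr V0 fun g hg v hv x hx hn => ?_).resolve_left fun h => hW0 ?_
      · have hy : ((g⁻¹ : G4) : M4) * x * (g : M4) ∈ E := by
          simpa using hnorm g⁻¹ (G.inv_mem hg) x hx
        have hyn : IsNilpotent (((g⁻¹ : G4) : M4) * x * (g : M4)) := by
          obtain ⟨k, hk⟩ := hn
          refine ⟨k, ?_⟩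
          rw [Units.conj_pow' g x k, hk, mul_zero, zero_mul]
        have h1 := congrArg ((g : M4) *ᵥ ·) (hv _ hy hyn)
        simpa [Matrix.mulVec_mulVec, mul_assoc] using h1
      · exact eq_bot_iff.mpr (h ▸ fun w hw x hx hn => hnilW x hx hn w hw)
    intro x hx hn
    refine eq_of_mulVec_eq fun v => ?_
    rw [Matrix.zero_mulVec]
    exact (htop ▸ Submodule.mem_top : v ∈ V0) x hx hn
  have hsqne : ∀ x ∈ E, x ≠ 0 → x * x ≠ 0 := fun x hx h0 h =>
    h0 (hred x hx ⟨2, by rw [pow_two, h]⟩)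
  by_cases hinv : ∃ x ∈ E, adj x = x ∧ x * x = 1 ∧ ¬ IsScal x
  · obtain ⟨x, hx, hax, hx1, hxns⟩ := hinv
    refine ⟨x, hxns, ⟨1, one_ne_zero, by rw [hx1, one_smul]⟩, Or.inl hax, fun g hg => conj_sign ?_⟩
    have hy := hnorm g hg x hx
    rcases invol_cases h2 hx1 (y := (g : M4) * x * ((g⁻¹ : G4) : M4))
      (by rw [conj_mul, hx1, mul_one, Units.mul_inv]) hax (by rw [adj_conj (hG hg), hax])
      (hcomm x hx _ hy) hxns with h | h | h | h
    · exfalso
      refine hxns ⟨1, ?_⟩
      have := congrArg (fun M => ((g⁻¹ : G4) : M4) * M * (g : M4)) h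
      simpa [mul_assoc] using this
    · exfalso
      refine hxns ⟨-1, ?_⟩
      have := congrArg (fun M => ((g⁻¹ : G4) : M4) * M * (g : M4)) h
      simpa [mul_assoc] using this
    · exact Or.inl h
    · exact Or.inr h
  push Not at hinv
  -- no idempotents: the self-adjoint part is a field
  have hunit : ∀ x ∈ E, adj x = x → x ≠ 0 → ∀ v : V, x *ᵥ v = 0 → v = 0 := by
    intro x hx hax h0 v hv
    obtain ⟨m, hm, hmm⟩ := pow_idem x
    have hne : x ^ m ≠ 0 := fun h => h0 (hred x hx ⟨m, h⟩)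
    have hax' : adj (x ^ m) = x ^ m := by
      clear hm hmm hne
      induction m with
      | zero => rw [pow_zero, adj_one]
      | succ m ih => rw [pow_succ, adj_mul, ih, hax, ← pow_succ', pow_succ]
    set e := x ^ m with he
    have hi : ((2 : F) • e - 1) * ((2 : F) • e - 1) = 1 := by
      simp only [sub_mul, mul_sub, smul_mul_smul_comm, hmm, mul_one, one_mul]
      module
    obtain ⟨c, hc⟩ := hinv _ (E.sub_mem (E.smul_mem (E.pow_mem hx m) 2) E.one_mem)
      (by rw [adj_sub, adj_smul, adj_one, hax']) hi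
    have he' : e = ((c + 1) / 2) • (1 : M4) := by
      have h' : (2 : F) • e = (c + 1) • (1 : M4) := by rw [add_smul, one_smul, ← hc, sub_add_cancel]
      rw [div_eq_inv_mul, ← smul_smul, ← h', inv_smul_smul₀ h2]
    rw [he', smul_mul_smul_comm, one_mul] at hmm
    have hk : (c + 1) / 2 = 1 := by
      have := smul_one_inj hmm
      rcases eq_or_ne ((c + 1) / 2) 0 with h | h
      · exact absurd (by rw [he', h, zero_smul]) hne
      · exact mul_left_cancel₀ h (this.trans (mul_one _).symm)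
    rw [hk, one_smul] at he'
    have hxm : x ^ m *ᵥ v = 0 := by
      obtain ⟨j, rfl⟩ := Nat.exists_eq_add_of_le hm
      rw [add_comm, pow_succ, ← Matrix.mulVec_mulVec, hv, Matrix.mulVec_zero]
    rwa [← he, he', Matrix.one_mulVec] at hxm
  let Plus : Submodule F M4 :=
    { carrier := {x | x ∈ E ∧ adj x = x}
      add_mem' := fun {a b} ha hb => ⟨E.add_mem ha.1 hb.1, by rw [adj_add, ha.2, hb.2]⟩
      zero_mem' := ⟨E.zero_mem, adj_zero⟩
      smul_mem' := fun c a ha => ⟨E.smul_mem ha.1 c, by rw [adj_smul, ha.2]⟩ }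
  by_cases hplus : ∃ x ∈ Plus, ¬ IsScal x
  · obtain ⟨x, ⟨hx, hax⟩, hxns⟩ := hplus
    set v0 : V := Pi.single (Sum.inl 0) 1 with hv0def
    have hv0 : v0 ≠ 0 := fun h => by simpa [hv0def] using congrFun h (Sum.inl 0)
    let L : Plus →ₗ[F] V :=
      { toFun := fun y => (y : M4) *ᵥ v0
        map_add' := fun a b => Matrix.add_mulVec _ _ _
        map_smul' := fun c a => Matrix.smul_mulVec _ _ _ }
    have hLinj : Function.Injective L := by
      refine (injective_iff_map_eq_zero L).mpr fun y hy => ?_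
      by_contra h0
      exact hv0 (hunit _ y.2.1 y.2.2 (fun h => h0 (Subtype.ext h)) v0 hy)
    have hti : ∀ u ∈ LinearMap.range L, ∀ v ∈ LinearMap.range L, bb u v = 0 := by
      rintro _ ⟨⟨a, ha, haa⟩, rfl⟩ _ ⟨⟨b, hb, hbb⟩, rfl⟩
      show bb (a *ᵥ v0) (b *ᵥ v0) = 0
      rw [adj_spec, haa, Matrix.mulVec_mulVec]
      have hz : adj (a * b) = a * b := by rw [adj_mul, haa, hbb, hcomm a ha b hb]
      have h' : bb v0 ((a * b) *ᵥ v0) = -bb v0 ((a * b) *ᵥ v0) := by
        conv_lhs => rw [adj_spec', hz, bb_swap]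
      have : (2 : F) * bb v0 ((a * b) *ᵥ v0) = 0 := by linear_combination h'
      exact (mul_eq_zero.mp this).resolve_left h2
    have hdim : Module.finrank F Plus ≤ 2 := by
      rw [← LinearMap.finrank_range_of_inj hLinj]; exact finrank_ti_le hti
    have hspan : Plus = Submodule.span F {(1 : M4), x} := by
      have hle : Submodule.span F {(1 : M4), x} ≤ Plus := Submodule.span_le.mpr (by
        rintro _ (rfl | rfl)
        exacts [⟨E.one_mem, adj_one⟩, ⟨hx, hax⟩])
      refine (Submodule.eq_of_le_of_finrank_le hle (hdim.trans ?_)).symm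
      have hli : LinearIndependent F ![(1 : M4), x] := by
        rw [LinearIndependent.pair_iff]
        intro a b hab
        rcases eq_or_ne b 0 with rfl | hb
        · rw [zero_smul, add_zero] at hab
          exact ⟨(smul_eq_zero.mp hab).resolve_right one_ne_zero, rfl⟩
        · exact absurd ⟨-a / b, by
            rw [div_eq_inv_mul, ← smul_smul, eq_inv_smul_iff₀ hb, neg_smul, eq_neg_iff_add_eq_zero, add_comm, hab]⟩ hxns
      have := finrank_span_eq_card hli
      rw [Matrix.range_cons, Matrix.range_cons, Matrix.range_empty, Set.union_empty, Set.singleton_union] at this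
      simp [this]
    have hmem : ∀ z ∈ Plus, ∃ a b : F, z = a • (1 : M4) + b • x := fun z hz => by
      rw [hspan, Submodule.mem_span_pair] at hz
      obtain ⟨a, b, h⟩ := hz; exact ⟨a, b, h.symm⟩
    obtain ⟨a, b, hab⟩ := hmem (x * x) ⟨E.mul_mem hx hx, by rw [adj_mul, hax]⟩
    set k : M4 := x - (b / 2) • 1 with hk
    have hkP : k ∈ Plus := Plus.sub_mem ⟨hx, hax⟩ (Plus.smul_mem _ ⟨E.one_mem, adj_one⟩)
    have hkns : ¬ IsScal k := fun ⟨c, hc⟩ => hxns ⟨c + b / 2, by rw [add_smul, ← hc, hk, sub_add_cancel]⟩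
    have hkk : k * k = (a + b * b / 4) • (1 : M4) := by
      rw [hk, sub_mul, mul_sub, mul_sub, hab, Matrix.smul_mul, one_mul, Matrix.mul_smul, mul_one, Matrix.mul_smul,
        Matrix.smul_mul, one_mul, smul_smul]
      have h4 : (4 : F) ≠ 0 := by rw [show (4 : F) = 2 * 2 by norm_num]; exact mul_ne_zero h2 h2
      match_scalars <;> field_simp <;> ring
    have hc0 : a + b * b / 4 ≠ 0 := fun h => hsqne k hkP.1
      (fun h' => hkns ⟨0, by rw [h', zero_smul]⟩) (by rw [hkk, h, zero_smul])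
    refine ⟨k, hkns, ⟨_, hc0, hkk⟩, Or.inl hkP.2, fun g hg => conj_sign ?_⟩
    set k' := (g : M4) * k * ((g⁻¹ : G4) : M4) with hk'
    obtain ⟨α, β, hαβ⟩ := hmem k' ⟨hnorm g hg k hkP.1, by rw [hk', adj_conj (hG hg), hkP.2]⟩
    have hxk : x = k + (b / 2) • (1 : M4) := by rw [hk, sub_add_cancel]
    rw [hxk, smul_add, smul_smul, ← add_assoc] at hαβ
    set γ := α + β * (b / 2) with hγ
    replace hαβ : k' = γ • (1 : M4) + β • k := by rw [hαβ, hγ]; module
    have hsq : k' * k' = k * k := by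
      rw [hk', conj_mul, hkk, Matrix.mul_smul, Matrix.smul_mul, mul_one, Units.mul_inv]
    rw [hαβ, add_mul, mul_add, mul_add, smul_mul_smul_comm, smul_mul_smul_comm, smul_mul_smul_comm,
      smul_mul_smul_comm, one_mul, one_mul, mul_one, hkk] at hsq
    have hlin : (2 * γ * β) • k = ((a + b * b / 4) - γ * γ - β * β * (a + b * b / 4)) • (1 : M4) := by
      rw [smul_smul] at hsq
      linear_combination (norm := module) hsq
    have hgb : 2 * γ * β = 0 := by
      by_contra hne
      exact hkns ⟨(2 * γ * β)⁻¹ * ((a + b * b / 4) - γ * γ - β * β * (a + b * b / 4)), by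
        rw [← smul_smul, ← hlin, inv_smul_smul₀ hne]⟩
    have hβ : β ≠ 0 := by
      intro hb0
      apply hkns
      refine ⟨γ, ?_⟩
      rw [hb0, zero_smul, add_zero] at hαβ
      have := congrArg (fun M => ((g⁻¹ : G4) : M4) * M * (g : M4)) (hk'.symm.trans hαβ)
      simpa [mul_assoc] using this
    have hγ0 : γ = 0 := (mul_eq_zero.mp ((mul_eq_zero.mp hgb).resolve_right hβ)).resolve_left h2
    rw [hgb, zero_smul, hγ0] at hlin
    have hb2 : β * β = 1 := by
      have : (0 : F) • (1 : M4) = ((a + b * b / 4) * (1 - β * β)) • 1 := by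
        rw [zero_smul]
        convert hlin using 2
        ring
      have := smul_one_inj this
      have := (mul_eq_zero.mp this.symm).resolve_left hc0
      linear_combination -this
    rw [hγ0, zero_smul, zero_add] at hαβ
    rcases mul_self_eq_one_iff.mp hb2 with h | h <;> rw [h] at hαβ
    · exact Or.inl (by rw [hαβ, one_smul])
    · exact Or.inr (by rw [hαβ, neg_one_smul])
  · push Not at hplus
    obtain ⟨x, hx, hxns⟩ := hns
    set s : M4 := x - adj x with hs
    have hsE : s ∈ E := E.sub_mem hx (hadj x hx)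
    have hsa : adj s = -s := by rw [hs, adj_sub, adj_adj, neg_sub]
    have hs0 : s ≠ 0 := fun h => hxns (hplus x ⟨hx, (sub_eq_zero.mp h).symm⟩)
    obtain ⟨c, hc⟩ := hplus (s * s) ⟨E.mul_mem hsE hsE, by rw [adj_mul, hsa, neg_mul_neg]⟩
    have hc0 : c ≠ 0 := fun h => hsqne s hsE hs0 (by rw [hc, h, zero_smul])
    have hsns : ¬ IsScal s := by
      rintro ⟨d, hd⟩
      rw [hd, adj_smul, adj_one, ← neg_smul] at hsa
      have h' := smul_one_inj hsa
      have : (2 : F) * d = 0 := by linear_combination h'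
      exact hs0 (by rw [hd, (mul_eq_zero.mp this).resolve_left h2, zero_smul])
    refine ⟨s, hsns, ⟨c, hc0, hc⟩, Or.inr hsa, fun g hg => conj_sign ?_⟩
    set s' := (g : M4) * s * ((g⁻¹ : G4) : M4) with hs'
    have hs'E : s' ∈ E := hnorm g hg s hsE
    have hs'a : adj s' = -s' := by rw [hs', adj_conj (hG hg), hsa, Matrix.mul_neg, Matrix.neg_mul]
    obtain ⟨d, hd⟩ := hplus (s' * s) ⟨E.mul_mem hs'E hsE, by
      rw [adj_mul, hsa, hs'a, neg_mul_neg, hcomm s hsE s' hs'E]⟩
    have h1 : s' = (d / c) • s := by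
      have h := congrArg (· * s) hd
      simp only [mul_assoc, hc, Matrix.mul_smul, mul_one, Matrix.smul_mul, one_mul] at h
      rw [div_eq_inv_mul, ← smul_smul, ← h, inv_smul_smul₀ hc0]
    have hsq : s' * s' = s * s := by
      rw [hs', conj_mul, hc, Matrix.mul_smul, Matrix.smul_mul, mul_one, Units.mul_inv]
    rw [h1, smul_mul_smul_comm, hc, smul_smul] at hsq
    have h2' := smul_one_inj hsq
    rcases mul_self_eq_one_iff.mp (mul_right_cancel₀ hc0 (h2'.trans (one_mul c).symm)) with h | h <;> rw [h] at h1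
    · exact Or.inl (by rw [h1, one_smul])
    · exact Or.inr (by rw [h1, neg_one_smul])

/-- A normal abelian non-scalar subgroup. -/
theorem abelian_case [Fintype F] (hodd : Odd (Fintype.card F)) {G A : Subgroup G4} (hG : G ≤ S4)
    (hirr : Cfsg.Geo.ActsIrreducibly (Cfsg.Geo.matrixSet G)) (hA : A ≤ G)
    (hn : ∀ g ∈ G, ∀ x ∈ A, g * x * g⁻¹ ∈ A) (hc : ∀ x ∈ A, ∀ y ∈ A, x * y = y * x)
    (hns : ∃ x ∈ A, ¬ IsScal (x : M4)) : HasInv2 G := by
  obtain ⟨x, hx, hxns⟩ := hns
  refine comm_case hodd hG hirr (Algebra.adjoin F (Cfsg.Geo.matrixSet A)) ?_ ?_ ?_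
    ⟨x, Algebra.subset_adjoin ⟨x, hx, rfl⟩, hxns⟩
  · intro a ha b hb
    refine Algebra.commute_of_mem_adjoin_of_forall_mem_commute hb fun c hc' => ?_
    refine (Algebra.commute_of_mem_adjoin_of_forall_mem_commute ha fun d hd => ?_).symm
    obtain ⟨u, hu, rfl⟩ := hc'; obtain ⟨w, hw, rfl⟩ := hd
    show (u : M4) * w = w * u
    rw [← Units.val_mul, hc u hu w hw, Units.val_mul]
  · intro a ha
    induction ha using Algebra.adjoin_induction with
    | mem z hz =>
      obtain ⟨u, hu, rfl⟩ := hz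
      rw [adj_iso (hG (hA hu))]
      exact Algebra.subset_adjoin ⟨u⁻¹, A.inv_mem hu, rfl⟩
    | algebraMap r =>
      rw [Algebra.algebraMap_eq_smul_one, adj_smul, adj_one]
      exact Subalgebra.smul_mem _ (Subalgebra.one_mem _) r
    | add a b _ _ iha ihb => rw [adj_add]; exact add_mem iha ihb
    | mul a b _ _ iha ihb => rw [adj_mul]; exact mul_mem ihb iha
  · intro g hg a ha
    induction ha using Algebra.adjoin_induction with
    | mem z hz =>
      obtain ⟨u, hu, rfl⟩ := hz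
      exact Algebra.subset_adjoin ⟨g * u * g⁻¹, hn g hg u hu, by simp⟩
    | algebraMap r =>
      rw [Algebra.algebraMap_eq_smul_one, Matrix.mul_smul, Matrix.smul_mul, mul_one, Units.mul_inv]
      exact Subalgebra.smul_mem _ (Subalgebra.one_mem _) r
    | add a b _ _ iha ihb => rw [mul_add, add_mul]; exact add_mem iha ihb
    | mul a b _ _ iha ihb => rw [← conj_mul]; exact mul_mem iha ihb

end Cfsg.Agent.Lib.SpFourOdd
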