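import Cfsg.Agent.Lib.SpFourOdd.Basic

/-!
Self-adjoint involutions of a four-dimensional symplectic space in odd characteristic.
-/

set_option autoImplicit false

namespace Cfsg.Agent.Lib.SpFourOdd

open Matrix Cfsg.Agent.Lib.MaxSub

variable {F : Type*} [Field F]

local notation "V" => (Fin 2 ⊕ Fin 2 → F)
local notation "M4" => Matrix (Fin 2 ⊕ Fin 2) (Fin 2 ⊕ Fin 2) F
local notation "G4" => GL (Fin 2 ⊕ Fin 2) F
local notation "S4" => Cfsg.spGL 2 F
local notation "bb" => AltForm.B (stdAlt 2 F)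

theorem finrank_V : Module.finrank F V = 4 := by
  rw [Module.finrank_fintype_fun_eq_card]; simp

/-- The range of a non-zero self-adjoint idempotent has dimension at least two. -/
theorem two_le_range {e : M4} (he : e * e = e) (hadj : adj e = e) (h0 : e ≠ 0) :
    2 ≤ Module.finrank F (LinearMap.range (Matrix.toLin' e)) := by
  by_contra hlt
  set W := LinearMap.range (Matrix.toLin' e) with hW
  obtain ⟨u, hu⟩ : ∃ u, e *ᵥ u ≠ 0 := by
    by_contra hc; push Not at hc
    exact h0 (eq_of_mulVec_eq fun x => by rw [hc, Matrix.zero_mulVec])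
  set v := e *ᵥ u with hv
  have hvW : v ∈ W := ⟨u, Matrix.toLin'_apply _ _⟩
  have hev : e *ᵥ v = v := by rw [hv, Matrix.mulVec_mulVec, he]
  have hspan : W = Submodule.span F {v} := by
    refine (Submodule.eq_of_le_of_finrank_le ((Submodule.span_singleton_le_iff_mem _ _).mpr hvW) ?_).symm
    rw [finrank_span_singleton hu]; omega
  refine hu (bb_ext' fun x => ?_)
  have hx : e *ᵥ x ∈ W := ⟨x, Matrix.toLin'_apply _ _⟩
  rw [hspan] at hx
  obtain ⟨a, ha⟩ := Submodule.mem_span_singleton.mp hx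
  rw [map_zero, LinearMap.zero_apply]
  conv_lhs => rw [← hev]
  rw [adj_spec, hadj, ← ha, map_smul, bb_self, smul_zero]

/-- There are no three orthogonal self-adjoint idempotents. -/
theorem no_three {e₁ e₂ e₃ : M4} (h₁ : e₁ * e₁ = e₁) (h₂ : e₂ * e₂ = e₂) (h₃ : e₃ * e₃ = e₃)
    (a₁ : adj e₁ = e₁) (a₂ : adj e₂ = e₂) (a₃ : adj e₃ = e₃)
    (h12 : e₁ * e₂ = 0) (h21 : e₂ * e₁ = 0) (h13 : e₁ * e₃ = 0) (h31 : e₃ * e₁ = 0) (h23 : e₂ * e₃ = 0)
    (h32 : e₃ * e₂ = 0) (n₁ : e₁ ≠ 0) (n₂ : e₂ ≠ 0) (n₃ : e₃ ≠ 0) : False := by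
  let W₁ := LinearMap.range (Matrix.toLin' e₁)
  let W₂ := LinearMap.range (Matrix.toLin' e₂)
  let W₃ := LinearMap.range (Matrix.toLin' e₃)
  let L : W₁ × W₂ × W₃ →ₗ[F] V :=
    LinearMap.coprod W₁.subtype (LinearMap.coprod W₂.subtype W₃.subtype)
  have hinj : Function.Injective L := by
    refine (injective_iff_map_eq_zero L).mpr ?_
    rintro ⟨⟨_, x, rfl⟩, ⟨_, y, rfl⟩, ⟨_, z, rfl⟩⟩ h
    simp only [L, LinearMap.coprod_apply, Submodule.subtype_apply, Matrix.toLin'_apply] at h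
    have k₁ := congrArg (e₁ *ᵥ ·) h
    have k₂ := congrArg (e₂ *ᵥ ·) h
    have k₃ := congrArg (e₃ *ᵥ ·) h
    simp only [Matrix.mulVec_add, Matrix.mulVec_mulVec, h₁, h₂, h₃, h12, h21, h13, h31, h23, h32,
      Matrix.zero_mulVec, Matrix.mulVec_zero, add_zero, zero_add] at k₁ k₂ k₃
    simp only [Prod.mk_eq_zero]
    exact ⟨Subtype.ext (by simpa using k₁), Subtype.ext (by simpa using k₂), Subtype.ext (by simpa using k₃)⟩
  have h := LinearMap.finrank_le_finrank_of_injective hinj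
  rw [Module.finrank_prod, Module.finrank_prod, finrank_V] at h
  have b₁ : 2 ≤ Module.finrank F W₁ := two_le_range h₁ a₁ n₁
  have b₂ : 2 ≤ Module.finrank F W₂ := two_le_range h₂ a₂ n₂
  have b₃ : 2 ≤ Module.finrank F W₃ := two_le_range h₃ a₃ n₃
  omega

/-- Commuting self-adjoint idempotents. -/
theorem idem_cases {e f : M4} (he : e * e = e) (hf : f * f = f) (ae : adj e = e) (af : adj f = f)
    (hc : e * f = f * e) (he0 : e ≠ 0) (he1 : e ≠ 1) : f = 0 ∨ f = 1 ∨ f = e ∨ f = 1 - e := by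
  -- the four products
  have key : ∀ a b : M4, a * a = a → b * b = b → adj a = a → adj b = b → a * b = b * a →
      a ≠ 0 → a ≠ 1 → a * b = 0 ∨ a * b = a := by
    intro a b ha hb aa ab hab ha0 ha1
    by_contra hne
    push Not at hne
    have n3 : 1 - a ≠ 0 := sub_ne_zero.mpr (Ne.symm ha1)
    have n2 : a - a * b ≠ 0 := sub_ne_zero.mpr (Ne.symm hne.2)
    have hx : a * (a * b) = a * b := by rw [← mul_assoc, ha]
    have hy : a * b * a = a * b := by rw [mul_assoc, ← hab, hx]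
    have hz : a * b * (a * b) = a * b := by rw [← mul_assoc, hy, mul_assoc, hb]
    refine no_three (e₁ := a * b) (e₂ := a - a * b) (e₃ := 1 - a) hz ?_ ?_ ?_ ?_ ?_ ?_ ?_ ?_ ?_ ?_ ?_ hne.1 n2 n3
    · simp only [sub_mul, mul_sub, ha, hx, hy, hz]; abel
    · simp only [sub_mul, mul_sub, one_mul, mul_one, ha]; abel
    · rw [adj_mul, aa, ab, hab]
    · rw [adj_sub, adj_mul, aa, ab, hab]
    · rw [adj_sub, adj_one, aa]
    · rw [mul_sub, hy, hz, sub_self]
    · rw [sub_mul, hx, hz, sub_self]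
    · rw [mul_sub, mul_one, hy, sub_self]
    · rw [sub_mul, one_mul, hx, sub_self]
    · simp only [sub_mul, mul_sub, mul_one, ha, hy]; abel
    · simp only [sub_mul, mul_sub, one_mul, ha, hx]; abel
  have ha1 : (1 - e) * (1 - e) = 1 - e := by simp only [sub_mul, mul_sub, one_mul, mul_one, he]; abel
  have aa1 : adj (1 - e) = 1 - e := by rw [adj_sub, adj_one, ae]
  have hc1 : (1 - e) * f = f * (1 - e) := by rw [sub_mul, mul_sub, one_mul, mul_one, hc]
  have h1 := key e f he hf ae af hc he0 he1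
  have h2 := key (1 - e) f ha1 hf aa1 af hc1 (sub_ne_zero.mpr (Ne.symm he1))
    (fun h => he0 (sub_eq_self.mp h))
  rw [sub_mul, one_mul] at h2
  rcases h1 with h1 | h1 <;> rcases h2 with h2 | h2 <;> rw [h1] at h2
  · exact Or.inl (by simpa using h2)
  · exact Or.inr (Or.inr (Or.inr (by simpa using h2)))
  · exact Or.inr (Or.inr (Or.inl (sub_eq_zero.mp h2)))
  · exact Or.inr (Or.inl (sub_left_inj.mp h2))

theorem half_add_half (h2 : (2 : F) ≠ 0) : (2⁻¹ : F) + 2⁻¹ = 1 := by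
  rw [← two_mul, mul_inv_cancel₀ h2]

/-- Commuting self-adjoint involutions. -/
theorem invol_cases (h2 : (2 : F) ≠ 0) {x y : M4} (hx : x * x = 1) (hy : y * y = 1) (ax : adj x = x)
    (ay : adj y = y) (hc : x * y = y * x) (hns : ¬ IsScal x) : y = 1 ∨ y = -1 ∨ y = x ∨ y = -x := by
  have hid : ∀ z : M4, z * z = 1 → ((2⁻¹ : F) • (1 + z)) * ((2⁻¹ : F) • (1 + z)) = (2⁻¹ : F) • (1 + z) := by
    intro z hz
    rw [smul_mul_smul_comm, add_mul, mul_add, mul_add, one_mul, one_mul, mul_one, hz]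
    rw [show (1 : M4) + z + (z + 1) = (2 : F) • (1 + z) by rw [two_smul]; abel, smul_smul, mul_assoc,
      inv_mul_cancel₀ h2, mul_one]
  have hback : ∀ z e : M4, (2⁻¹ : F) • (1 + z) = e → z = (2 : F) • e - 1 := by
    rintro z e rfl
    rw [smul_smul, mul_inv_cancel₀ h2, one_smul, add_sub_cancel_left]
  rcases idem_cases (hid x hx) (hid y hy) (by rw [adj_smul, adj_add, adj_one, ax])
      (by rw [adj_smul, adj_add, adj_one, ay])
      (by simp only [smul_mul_smul_comm, add_mul, mul_add, one_mul, mul_one, hc]; module)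
      (fun h => hns ⟨-1, by rw [hback x 0 h, smul_zero, zero_sub, neg_one_smul]⟩)
      (fun h => hns ⟨1, by rw [hback x 1 h, one_smul, two_smul, add_sub_cancel_right]⟩) with h | h | h | h
  · exact Or.inr (Or.inl (by rw [hback y _ h, smul_zero, zero_sub]))
  · exact Or.inl (by rw [hback y _ h, two_smul, add_sub_cancel_right])
  · exact Or.inr (Or.inr (Or.inl (by rw [hback y _ h, smul_smul, mul_inv_cancel₀ h2, one_smul,
      add_sub_cancel_left])))
  · refine Or.inr (Or.inr (Or.inr ?_))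
    rw [hback y _ h, smul_sub, smul_smul, mul_inv_cancel₀ h2, one_smul, two_smul]
    abel

end Cfsg.Agent.Lib.SpFourOdd
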