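import Cfsg.Agent.Lib.SpFourOdd.Skew

/-!
The member of the list attached to a normalised involution, skew element, or invariant subspace.
-/

set_option autoImplicit false
set_option maxHeartbeats 4000000
set_option linter.unusedSimpArgs false

namespace Cfsg.Agent.Lib.SpFourOdd

open Matrix Cfsg.Agent.Lib.MaxSub Cfsg.Agent.Lib.SympFour

variable {F : Type*} [Field F] [Fintype F]

local notation "V" => (Fin 2 ⊕ Fin 2 → F)
local notation "M4" => Matrix (Fin 2 ⊕ Fin 2) (Fin 2 ⊕ Fin 2) F
local notation "G4" => GL (Fin 2 ⊕ Fin 2) F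
local notation "S4" => Cfsg.spGL 2 F
local notation "bb" => AltForm.B (stdAlt 2 F)

omit [Fintype F] in
theorem mem_S4_of_adj {g : G4} (h : adj (g : M4) * (g : M4) = 1) : g ∈ S4 :=
  mem_S4 fun u v => by rw [adj_spec, Matrix.mulVec_mulVec, h, Matrix.one_mulVec]

/-- The skew element with square minus one over the field with three elements. -/
theorem quaternion_three (hodd : Odd (Fintype.card F)) (h3 : Fintype.card F = 3) {H : Subgroup G4}
    (hH : Cfsg.Geo.IsMaximalIn S4 H) {s : M4} (hs : s * s = -1) (ha : adj s = -s)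
    (hconj : ∀ h ∈ H, (h : M4) * s = s * h ∨ (h : M4) * s = -(s * h)) : Concl H := by
  have h2 := two_ne hodd
  have h30 : (3 : F) = 0 := by
    have h := Nat.cast_card_eq_zero F
    rw [h3] at h
    exact_mod_cast h
  have hss : ∀ v : V, s *ᵥ (s *ᵥ v) = -v := fun v => by
    rw [Matrix.mulVec_mulVec, hs, Matrix.neg_mulVec, Matrix.one_mulVec]
  have hsk : ∀ u v : V, bb (s *ᵥ u) v = -bb u (s *ᵥ v) := fun u v => by
    rw [adj_spec, ha, Matrix.neg_mulVec, map_neg]
  -- vectors representing one
  have hrep : ∀ v : V, bb v (s *ᵥ v) ≠ 0 → ∃ a b : F, bb (a • v + b • (s *ᵥ v)) (s *ᵥ (a • v + b • (s *ᵥ v))) = 1 := by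
    intro v hv
    rcases three_units h3 hv with h | h
    · exact ⟨1, 0, by simpa using h⟩
    · refine ⟨1, 1, ?_⟩
      rw [one_smul, one_smul, Matrix.mulVec_add, hss]
      simp only [map_add, map_neg, LinearMap.add_apply, bb_self, hsk v v, h]
      linear_combination (-1 : F) * h30
  have hpol : ∀ (π : V → V), (∀ u v, π (u + v) = π u + π v) → (∀ v, bb (π v) (s *ᵥ π v) = 0) →
      ∀ u v, bb (π u) (s *ᵥ π v) = 0 := by
    intro π hadd hq u v
    have h := hq (u + v)
    rw [hadd, Matrix.mulVec_add] at h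
    simp only [map_add, LinearMap.add_apply, hq u, hq v, zero_add, add_zero] at h
    have h' : bb (π v) (s *ᵥ π u) = bb (π u) (s *ᵥ π v) := by rw [bb_swap, hsk, neg_neg]
    exact (mul_eq_zero.mp (show (2 : F) * bb (π u) (s *ᵥ π v) = 0 by linear_combination h - h')).resolve_left h2
  have hs0 : s ≠ 0 := fun h => by rw [h, zero_mul] at hs; exact one_ne (neg_eq_zero.mp hs.symm)
  obtain ⟨e₁, he1⟩ : ∃ e₁ : V, bb e₁ (s *ᵥ e₁) = 1 := by
    by_contra hc
    push Not at hc
    have hz := hpol id (fun _ _ => rfl) fun v => by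
      by_contra h
      obtain ⟨a, b, hab⟩ := hrep v h
      exact hc _ hab
    exact hs0 (eq_of_mulVec_eq fun v => by
      rw [Matrix.zero_mulVec]; exact bb_ext fun u => (hz u v).trans (map_zero _).symm)
  set f₁ := s *ᵥ e₁ with hf₁
  set π : V → V := fun u => u - bb u f₁ • e₁ + bb u e₁ • f₁ with hπ
  have hef : bb e₁ f₁ = 1 := he1
  have hfe : bb f₁ e₁ = -1 := by rw [bb_swap, hef]
  have hπadd : ∀ u v, π (u + v) = π u + π v := fun u v => by
    simp only [hπ, map_add, LinearMap.add_apply]; module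
  have hπe : ∀ u, bb (π u) e₁ = 0 := fun u => by
    simp [hπ, map_sub, map_add, map_smul, bb_self, hfe]
  have hπf : ∀ u, bb (π u) f₁ = 0 := fun u => by
    simp [hπ, map_sub, map_add, map_smul, bb_self, hef]
  have hsπ : ∀ u, bb (s *ᵥ π u) e₁ = 0 ∧ bb (s *ᵥ π u) f₁ = 0 := fun u => by
    refine ⟨by rw [hsk, ← hf₁, hπf, neg_zero], ?_⟩
    rw [hsk, hf₁, hss, map_neg, hπe, neg_zero, neg_zero]
  obtain ⟨e₂, he2, h2e, h2f⟩ : ∃ e₂ : V, bb e₂ (s *ᵥ e₂) = 1 ∧ bb e₂ e₁ = 0 ∧ bb e₂ f₁ = 0 := by
    by_contra hc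
    push Not at hc
    have hz := hpol π hπadd fun v => by
      by_contra h
      obtain ⟨a, b, hab⟩ := hrep _ h
      refine hc _ hab ?_ ?_
      · simp [map_add, map_smul, hπe, (hsπ v).1]
      · simp [map_add, map_smul, hπf, (hsπ v).2]
    have hzero : ∀ u, π u = 0 := fun u => by
      have hsu : s *ᵥ π u = 0 := bb_ext fun x => by
        rw [map_zero]
        have hx : x = π x + bb x f₁ • e₁ - bb x e₁ • f₁ := by simp only [hπ]; module
        rw [hx]
        simp only [map_add, map_sub, map_smul, LinearMap.add_apply, LinearMap.sub_apply, LinearMap.smul_apply,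
          hz x u, bb_swap e₁, bb_swap f₁, (hsπ u).1, (hsπ u).2, neg_zero, smul_zero, add_zero, sub_zero]
      have := congrArg (s *ᵥ ·) hsu
      simpa [hss] using this
    have hle : (⊤ : Submodule F V) ≤ Submodule.span F ({e₁, f₁} : Set V) := fun u _ => by
      have h := hzero u
      simp only [hπ] at h
      refine Submodule.mem_span_pair.mpr ⟨bb u f₁, -bb u e₁, ?_⟩
      rw [← sub_eq_zero, ← neg_eq_zero, ← h]
      module
    classical
    have h := Submodule.finrank_mono hle
    rw [finrank_top, finrank_V] at h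
    have h' := finrank_span_finset_le_card (R := F) ({e₁, f₁} : Finset V)
    simp only [Finset.coe_insert, Finset.coe_singleton] at h'
    have : 4 ≤ 2 := (h.trans h').trans Finset.card_le_two
    omega
  set f₂ := s *ᵥ e₂ with hf₂
  have hef2 : bb e₂ f₂ = 1 := he2
  have hfe2 : bb f₂ e₂ = -1 := by rw [bb_swap, hef2]
  have h12 : bb e₁ e₂ = 0 := by rw [bb_swap, h2e, neg_zero]
  have hf1e2 : bb f₁ e₂ = 0 := by rw [bb_swap, h2f, neg_zero]
  have he1f2 : bb e₁ f₂ = 0 := by rw [hf₂, adj_spec', ha, Matrix.neg_mulVec, map_neg, LinearMap.neg_apply, ← hf₁, hf1e2, neg_zero]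
  have hf2e1 : bb f₂ e₁ = 0 := by rw [bb_swap, he1f2, neg_zero]
  have hf12 : bb f₁ f₂ = 0 := by rw [hf₁, hsk, hf₂, hss, map_neg, h12, neg_zero, neg_zero]
  have hf21 : bb f₂ f₁ = 0 := by rw [bb_swap, hf12, neg_zero]
  have hli : LinearIndependent F ![e₁, f₁, e₂, f₂] := by
    rw [Fintype.linearIndependent_iff]
    intro g hg i
    simp only [Fin.sum_univ_four, Matrix.cons_val_zero, Matrix.cons_val_one, Matrix.cons_val] at hg
    have k1 := congrArg (fun x => bb x f₁) hg
    have k2 := congrArg (fun x => bb x e₁) hg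
    have k3 := congrArg (fun x => bb x f₂) hg
    have k4 := congrArg (fun x => bb x e₂) hg
    simp [map_add, map_smul, bb_self, hef, hfe, hef2, hfe2, h2e, h2f, h12, hf1e2, he1f2, hf2e1, hf12, hf21]
      at k1 k2 k3 k4
    fin_cases i <;> simp [k1, k2, k3, k4]
  have hspan : ∀ v : V, v ∈ Submodule.span F (Set.range ![e₁, f₁, e₂, f₂]) := fun v => by
    rw [hli.span_eq_top_of_card_eq_finrank (by rw [finrank_V]; rfl)]
    trivial
  have hext : ∀ {A B : M4}, A *ᵥ e₁ = B *ᵥ e₁ → A *ᵥ f₁ = B *ᵥ f₁ → A *ᵥ e₂ = B *ᵥ e₂ → A *ᵥ f₂ = B *ᵥ f₂ →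
      A = B := by
    intro A B a1 a2 a3 a4
    refine eq_of_mulVec_eq fun v => ?_
    have hv := hspan v
    induction hv using Submodule.span_induction with
    | mem x hx => obtain ⟨i, rfl⟩ := hx; fin_cases i <;> assumption
    | zero => simp
    | add a b _ _ iha ihb => rw [Matrix.mulVec_add, Matrix.mulVec_add, iha, ihb]
    | smul c a _ iha => rw [Matrix.mulVec_smul, Matrix.mulVec_smul, iha]
  have hsep : ∀ {a b : V}, bb a f₁ = bb b f₁ → bb a e₁ = bb b e₁ → bb a f₂ = bb b f₂ → bb a e₂ = bb b e₂ →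
      a = b := by
    intro a b a1 a2 a3 a4
    refine bb_ext' fun u => ?_
    have hv := hspan u
    induction hv using Submodule.span_induction with
    | mem x hx => obtain ⟨i, rfl⟩ := hx; fin_cases i <;> assumption
    | zero => simp
    | add a b _ _ iha ihb => rw [map_add, map_add, iha, ihb]
    | smul c a _ iha => rw [map_smul, map_smul, iha]
  -- maps given by their values
  let mk : V → V → V → V → M4 := fun A B C D => LinearMap.toMatrix'
    (((bb).flip f₁).smulRight A - ((bb).flip e₁).smulRight B + ((bb).flip f₂).smulRight C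
      - ((bb).flip e₂).smulRight D)
  have hmk : ∀ A B C D v, mk A B C D *ᵥ v = bb v f₁ • A - bb v e₁ • B + bb v f₂ • C - bb v e₂ • D :=
    fun A B C D v => by rw [← Matrix.toLin'_apply, Matrix.toLin'_toMatrix']; rfl
  have hv1 : ∀ A B C D, mk A B C D *ᵥ e₁ = A := fun A B C D => by simp [hmk, hef, bb_self, he1f2, h12]
  have hv2 : ∀ A B C D, mk A B C D *ᵥ f₁ = B := fun A B C D => by simp [hmk, hfe, bb_self, hf12, hf1e2]
  have hv3 : ∀ A B C D, mk A B C D *ᵥ e₂ = C := fun A B C D => by simp [hmk, hef2, bb_self, h2f, h2e]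
  have hv4 : ∀ A B C D, mk A B C D *ᵥ f₂ = D := fun A B C D => by simp [hmk, hfe2, bb_self, hf21, hf2e1]
  have hsf1 : s *ᵥ f₁ = -e₁ := by rw [hf₁, hss]
  have hsf2 : s *ᵥ f₂ = -e₂ := by rw [hf₂, hss]
  have hse1 : s *ᵥ e₁ = f₁ := hf₁.symm
  have hse2 : s *ᵥ e₂ = f₂ := hf₂.symm
  set I : M4 := mk f₁ (-e₁) (-f₂) e₂ with hI
  set J : M4 := mk e₂ f₂ (-e₁) (-f₁) with hJ
  set T : M4 := mk (e₂ + f₂) (e₂ - f₂) (-e₁ - f₁) (-e₁ + f₁) with hT
  have hadjI : adj I = -I := adj_eq fun u v => by
    rw [Matrix.neg_mulVec, hI, hmk, hmk]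
    simp only [map_sub, map_add, map_smul, map_neg, LinearMap.sub_apply, LinearMap.add_apply, LinearMap.smul_apply,
      LinearMap.neg_apply, smul_eq_mul]
    rw [bb_swap f₁ v, bb_swap e₁ v, bb_swap f₂ v, bb_swap e₂ v]; ring
  have hadjJ : adj J = -J := adj_eq fun u v => by
    rw [Matrix.neg_mulVec, hJ, hmk, hmk]
    simp only [map_sub, map_add, map_smul, map_neg, LinearMap.sub_apply, LinearMap.add_apply, LinearMap.smul_apply,
      LinearMap.neg_apply, smul_eq_mul]
    rw [bb_swap f₁ v, bb_swap e₁ v, bb_swap f₂ v, bb_swap e₂ v]; ring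
  have hadjT : adj T = T := adj_eq fun u v => by
    rw [hT, hmk, hmk]
    simp only [map_sub, map_add, map_smul, map_neg, LinearMap.sub_apply, LinearMap.add_apply, LinearMap.smul_apply,
      LinearMap.neg_apply, smul_eq_mul]
    rw [bb_swap f₁ v, bb_swap e₁ v, bb_swap f₂ v, bb_swap e₂ v]; ring
  have hII : I * I = -1 := by
    apply hext <;> simp [← Matrix.mulVec_mulVec, hI, hv1, hv2, hv3, hv4, Matrix.mulVec_neg, Matrix.neg_mulVec]
  have hJJ : J * J = -1 := by
    apply hext <;> simp [← Matrix.mulVec_mulVec, hJ, hv1, hv2, hv3, hv4, Matrix.mulVec_neg, Matrix.neg_mulVec]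
  have h3v : ∀ v : V, (3 : F) • v = 0 := fun v => by rw [h30, zero_smul]
  have hTT : T * T = 1 := by
    apply hext <;> simp [← Matrix.mulVec_mulVec, hT, hv1, hv2, hv3, hv4, Matrix.mulVec_neg, Matrix.mulVec_add,
      Matrix.mulVec_sub] <;>
      first
        | linear_combination (norm := module) -(h3v e₁)
        | linear_combination (norm := module) -(h3v f₁)
        | linear_combination (norm := module) -(h3v e₂)
        | linear_combination (norm := module) -(h3v f₂)
        | linear_combination (norm := module) (h3v e₁)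
        | linear_combination (norm := module) (h3v f₁)
        | linear_combination (norm := module) (h3v e₂)
        | linear_combination (norm := module) (h3v f₂)
  have hIs : Com I s := by
    apply hext <;> simp [← Matrix.mulVec_mulVec, hI, hv1, hv2, hv3, hv4, hse1, hse2, hsf1, hsf2, Matrix.mulVec_neg]
  have hJs : Com J s := by
    apply hext <;> simp [← Matrix.mulVec_mulVec, hJ, hv1, hv2, hv3, hv4, hse1, hse2, hsf1, hsf2, Matrix.mulVec_neg]
  have hTs : Anti T s := by
    apply hext <;> simp [← Matrix.mulVec_mulVec, hT, hv1, hv2, hv3, hv4, hse1, hse2, hsf1, hsf2, Matrix.mulVec_neg,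
      Matrix.mulVec_add, Matrix.mulVec_sub, Matrix.neg_mulVec] <;> module
  have hIJ : Anti I J := by
    apply hext <;> simp [← Matrix.mulVec_mulVec, hI, hJ, hv1, hv2, hv3, hv4, Matrix.mulVec_neg, Matrix.neg_mulVec]
  have hIT : Com I T := by
    apply hext <;> simp [← Matrix.mulVec_mulVec, hI, hT, hv1, hv2, hv3, hv4, Matrix.mulVec_neg,
      Matrix.mulVec_add, Matrix.mulVec_sub] <;> module
  have hJT : Com J T := by
    apply hext <;> simp [← Matrix.mulVec_mulVec, hJ, hT, hv1, hv2, hv3, hv4, Matrix.mulVec_neg,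
      Matrix.mulVec_add, Matrix.mulVec_sub] <;> module
  -- the group
  let us : G4 := ⟨s, -s, by rw [mul_neg, hs, neg_neg], by rw [neg_mul, hs, neg_neg]⟩
  let uI : G4 := ⟨I, -I, by rw [mul_neg, hII, neg_neg], by rw [neg_mul, hII, neg_neg]⟩
  let uJ : G4 := ⟨J, -J, by rw [mul_neg, hJJ, neg_neg], by rw [neg_mul, hJJ, neg_neg]⟩
  let uT : G4 := ⟨T, T, hTT, hTT⟩
  let gens : Set G4 := {us, uI, uJ, uT}
  set R : Subgroup G4 := Subgroup.closure gens with hR'
  have hsub : R ≤ S4 := (Subgroup.closure_le _).mpr (by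
    rintro _ (rfl | rfl | rfl | rfl) <;> refine mem_S4_of_adj ?_
    · show adj s * s = 1; rw [ha, neg_mul, hs, neg_neg]
    · show adj I * I = 1; rw [hadjI, neg_mul, hII, neg_neg]
    · show adj J * J = 1; rw [hadjJ, neg_mul, hJJ, neg_neg]
    · show adj T * T = 1; rw [hadjT, hTT])
  let CA : M4 → M4 → Prop := fun a b => Com a b ∨ Anti a b
  have hCAsymm : ∀ {a b}, CA a b → CA b a := fun h => h.elim (fun h => Or.inl h.symm) (fun h => Or.inr (anti_symm h))
  have hgCA : ∀ g ∈ gens, ∀ g' ∈ gens, CA (g : M4) g' := by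
    rintro _ (rfl | rfl | rfl | rfl) _ (rfl | rfl | rfl | rfl)
    · exact Or.inl rfl
    · exact Or.inl hIs.symm
    · exact Or.inl hJs.symm
    · exact Or.inr (anti_symm hTs)
    · exact Or.inl hIs
    · exact Or.inl rfl
    · exact Or.inr hIJ
    · exact Or.inl hIT
    · exact Or.inl hJs
    · exact Or.inr (anti_symm hIJ)
    · exact Or.inl rfl
    · exact Or.inl hJT
    · exact Or.inr hTs
    · exact Or.inl hIT.symm
    · exact Or.inl hJT.symm
    · exact Or.inl rfl
  have hCAmul : ∀ {a b c : M4}, CA a c → CA b c → CA (a * b) c := fun h h' => by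
    rcases h with h | h <;> rcases h' with h' | h'
    exacts [Or.inl (com_mul h h'), Or.inr (com_mul_anti h h'), Or.inr (anti_mul_com h h'), Or.inl (anti_mul_anti h h')]
  have hclos : ∀ (c : M4), (∀ g ∈ gens, CA (g : M4) c) → ∀ r ∈ R, CA (r : M4) c := by
    intro c hc r hr
    induction hr using Subgroup.closure_induction with
    | mem g hg => exact hc g hg
    | one => exact Or.inl (by unfold Com; rw [Units.val_one, one_mul, mul_one])
    | mul a b _ _ iha ihb => rw [Units.val_mul]; exact hCAmul iha ihb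
    | inv a _ iha =>
      rcases iha with h | h
      · left
        have := congrArg (fun M : M4 => ((a⁻¹ : G4) : M4) * M * ((a⁻¹ : G4) : M4)) h
        simpa [Com, mul_assoc] using this.symm
      · right
        have := congrArg (fun M : M4 => ((a⁻¹ : G4) : M4) * M * ((a⁻¹ : G4) : M4)) h
        simp [mul_assoc] at this
        unfold Anti
        simp only [Matrix.coe_units_inv]
        rw [this, neg_neg]
  have hRR : ∀ r ∈ R, ∀ r' ∈ R, CA (r : M4) r' := fun r hr r' hr' =>
    hclos _ (fun g hg => hCAsymm (hclos (g : M4) (fun g' hg' => hgCA g' hg' g hg) r' hr')) r hr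
  have hsq : ∀ r ∈ R, (r : M4) * r = 1 ∨ (r : M4) * r = -1 := by
    intro r hr
    induction hr using Subgroup.closure_induction with
    | mem g hg => rcases hg with rfl | rfl | rfl | rfl; exacts [Or.inr hs, Or.inr hII, Or.inr hJJ, Or.inl hTT]
    | one => exact Or.inl (by simp)
    | mul a b ha' hb' iha ihb =>
      rcases hRR a ha' b hb' with h | h
      · rw [Units.val_mul, mul_assoc, ← mul_assoc (b : M4), ← h, mul_assoc, ← mul_assoc (a : M4)]
        rcases iha with e | e <;> rcases ihb with e' | e' <;> simp [e, e']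
      · rw [Units.val_mul, mul_assoc, ← mul_assoc (b : M4), show (b : M4) * a = -((a : M4) * b) from anti_symm h,
          neg_mul, mul_neg, mul_assoc, ← mul_assoc (a : M4)]
        rcases iha with e | e <;> rcases ihb with e' | e' <;> simp [e, e']
    | inv a _ iha =>
      rcases iha with e | e
      · left
        have : (a * a)⁻¹ = (1 : G4) := inv_eq_one.mpr (Units.ext (by rw [Units.val_mul, e]; rfl))
        rw [← Units.val_mul, ← _root_.mul_inv_rev, this]; rfl
      · right
        have : (a * a)⁻¹ = (-1 : G4) := inv_eq_of_mul_eq_one_right (Units.ext (by simp [e]))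
        rw [← Units.val_mul, ← _root_.mul_inv_rev, this]; rfl
  have habs : ∀ X : M4, (∀ r ∈ R, X * r = (r : M4) * X) → ∃ c : F, X = c • 1 := by
    intro X hX
    have gs : Com X s := hX us (Subgroup.subset_closure (Or.inl rfl))
    have gI : Com X I := hX uI (Subgroup.subset_closure (Or.inr (Or.inl rfl)))
    have gJ : Com X J := hX uJ (Subgroup.subset_closure (Or.inr (Or.inr (Or.inl rfl))))
    have gT : Com X T := hX uT (Subgroup.subset_closure (Or.inr (Or.inr (Or.inr rfl))))
    unfold Com at gs gI gJ gT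
    have gsv := fun v => congrArg (· *ᵥ v) gs
    have gIv := fun v => congrArg (· *ᵥ v) gI
    have gJv := fun v => congrArg (· *ᵥ v) gJ
    simp only [← Matrix.mulVec_mulVec] at gsv gIv gJv
    set a := bb (X *ᵥ e₁) f₁ with hadef
    set b := -bb (X *ᵥ e₁) e₁ with hbdef
    set c := bb (X *ᵥ e₁) f₂ with hcdef
    set d := -bb (X *ᵥ e₁) e₂ with hddef
    have hX1 : X *ᵥ e₁ = a • e₁ + b • f₁ + c • e₂ + d • f₂ := by
      apply hsep <;> simp [map_add, map_smul, bb_self, hef, hfe, hef2, hfe2, h2e, h2f, h12, hf1e2, he1f2, hf2e1,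
        hf12, hf21, hadef, hbdef, hcdef, hddef]
    have hXf1 : X *ᵥ f₁ = a • f₁ - b • e₁ + c • f₂ - d • e₂ := by
      rw [← hse1, gsv, hX1]
      simp [Matrix.mulVec_add, Matrix.mulVec_smul, hse1, hse2, hsf1, hsf2]
      module
    have hi := gIv e₁
    rw [show I *ᵥ e₁ = f₁ from hv1 _ _ _ _, hXf1, hX1] at hi
    simp only [hI, hv1, hv2, hv3, hv4, Matrix.mulVec_add, Matrix.mulVec_smul] at hi
    have hc0 := congrArg (fun z => bb z e₂) hi
    have hd0 := congrArg (fun z => bb z f₂) hi
    simp [map_add, map_smul, bb_self, hef, hfe, hef2, hfe2, h2e, h2f, h12, hf1e2, he1f2, hf2e1, hf12, hf21]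
      at hc0 hd0
    have hc' : c = 0 := (mul_eq_zero.mp (show (2 : F) * c = 0 by
      first | linear_combination hc0 | linear_combination -hc0)).resolve_left h2
    have hd' : d = 0 := (mul_eq_zero.mp (show (2 : F) * d = 0 by
      first | linear_combination hd0 | linear_combination -hd0)).resolve_left h2
    rw [hc', hd', zero_smul, zero_smul, add_zero, add_zero] at hX1
    rw [hc', hd', zero_smul, zero_smul, add_zero, sub_zero] at hXf1
    have hXe2 : X *ᵥ e₂ = a • e₂ + b • f₂ := by
      rw [show e₂ = J *ᵥ e₁ from (hv1 _ _ _ _).symm, gJv, hX1]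
      simp [hJ, Matrix.mulVec_add, Matrix.mulVec_smul, hv1, hv2]
    have hXf2 : X *ᵥ f₂ = a • f₂ - b • e₂ := by
      rw [← hse2, gsv, hXe2]
      simp [Matrix.mulVec_add, Matrix.mulVec_smul, hse2, hsf2]
      module
    have ht := congrArg (fun M : M4 => bb (M *ᵥ e₁) f₂) gT
    simp [← Matrix.mulVec_mulVec, hT, hv1, hv2, Matrix.mulVec_add, Matrix.mulVec_smul, hX1, hXe2, hXf2,
      map_add, map_sub, map_smul, bb_self, hef2, hfe2] at ht
    have hb' : b = 0 := (mul_eq_zero.mp (show (2 : F) * b = 0 by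
      first | linear_combination ht | linear_combination -ht)).resolve_left h2
    refine ⟨a, ?_⟩
    apply hext <;> simp [hX1, hXf1, hXe2, hXf2, hb', Matrix.smul_mulVec]
  have hP : Pauli R := pauli_of_sq hsq habs
  -- the classification of skew and self-adjoint elements
  have h01 : ∀ x : F, x = 0 ∨ x = 1 ∨ x = -1 := fun x => by
    rcases eq_or_ne x 0 with h | h
    exacts [Or.inl h, Or.inr (three_units h3 h)]
  have hmem : ∀ g : G4, g ∈ gens → g ∈ R ∧ -g ∈ R := fun g hg =>
    ⟨Subgroup.subset_closure hg, hP.neg_mem (Subgroup.subset_closure hg)⟩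
  have hskew : ∀ x : G4, adj (x : M4) = -(x : M4) → Com (x : M4) s → (x : M4) * x = -1 → x ∈ R := by
    intro x hax hxs hxx
    have hxs' : ∀ v, (x : M4) *ᵥ (s *ᵥ v) = s *ᵥ ((x : M4) *ᵥ v) := fun v => by
      rw [Matrix.mulVec_mulVec, Matrix.mulVec_mulVec, hxs]
    have hxk : ∀ u v : V, bb ((x : M4) *ᵥ u) v = -bb u ((x : M4) *ᵥ v) := fun u v => by
      rw [adj_spec, hax, Matrix.neg_mulVec, map_neg]
    have hdiag : ∀ v : V, bb ((x : M4) *ᵥ v) (s *ᵥ v) = 0 := fun v => by
      have h := hxk v (s *ᵥ v)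
      rw [hxs', bb_swap v, hsk, neg_neg] at h
      have h' := bb_swap ((x : M4) *ᵥ v) (s *ᵥ v)
      exact (mul_eq_zero.mp (show (2 : F) * bb ((x : M4) *ᵥ v) (s *ᵥ v) = 0 by
        linear_combination h + h' - h')).resolve_left h2
    set a := -bb ((x : M4) *ᵥ e₁) e₁ with hadef
    set b := bb ((x : M4) *ᵥ e₁) f₂ with hbdef
    set c := -bb ((x : M4) *ᵥ e₁) e₂ with hcdef
    set a' := -bb ((x : M4) *ᵥ e₂) e₂ with ha'def
    have x1 : (x : M4) *ᵥ e₁ = a • f₁ + b • e₂ + c • f₂ := by
      apply hsep <;> simp [map_add, map_smul, bb_self, hef, hfe, hef2, hfe2, h2e, h2f, h12, hf1e2, he1f2, hf2e1,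
        hf12, hf21, hadef, hbdef, hcdef, show bb ((x : M4) *ᵥ e₁) f₁ = 0 from hdiag e₁]
    have xb : bb ((x : M4) *ᵥ e₂) f₁ = -b := by
      rw [hxk, hf₁, hxs', x1]
      simp [Matrix.mulVec_add, Matrix.mulVec_smul, hse1, hse2, hsf1, hsf2, map_add, map_smul, map_neg, bb_self, hef2,
        h2e, h2f]
    have xc : bb ((x : M4) *ᵥ e₂) e₁ = -c := by
      rw [hxk, x1]
      simp [map_add, map_smul, bb_self, hef2, h2e, h2f]
    have x2 : (x : M4) *ᵥ e₂ = (-b) • e₁ + c • f₁ + a' • f₂ := by
      apply hsep <;> simp [map_add, map_smul, bb_self, hef, hfe, hef2, hfe2, h2e, h2f, h12, hf1e2, he1f2, hf2e1,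
        hf12, hf21, ha'def, xb, xc, show bb ((x : M4) *ᵥ e₂) f₂ = 0 from hdiag e₂]
    have xf1 : (x : M4) *ᵥ f₁ = (-a) • e₁ + b • f₂ + (-c) • e₂ := by
      rw [hf₁, hxs', x1]
      simp [Matrix.mulVec_add, Matrix.mulVec_smul, Matrix.mulVec_neg, hse1, hse2, hsf1, hsf2]
    have xf2 : (x : M4) *ᵥ f₂ = (-b) • f₁ + (-c) • e₁ + (-a') • e₂ := by
      rw [hf₂, hxs', x2]
      simp [Matrix.mulVec_add, Matrix.mulVec_smul, Matrix.mulVec_neg, hse1, hse2, hsf1, hsf2]
    have hq : ∀ v : V, (x : M4) *ᵥ ((x : M4) *ᵥ v) = -v := fun v => by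
      rw [Matrix.mulVec_mulVec, hxx, Matrix.neg_mulVec, Matrix.one_mulVec]
    have q1 := hq e₁
    have q2 := hq e₂
    simp only [x1, x2, xf1, xf2, Matrix.mulVec_add, Matrix.mulVec_smul] at q1 q2
    have r1 := congrArg (fun z => bb z f₁) q1
    have r2 := congrArg (fun z => bb z f₂) q1
    have r3 := congrArg (fun z => bb z e₂) q1
    have r4 := congrArg (fun z => bb z f₂) q2
    simp [map_add, map_smul, bb_self, hef, hfe, hef2, hfe2, h2e, h2f, h12, hf1e2, he1f2, hf2e1, hf12, hf21]
      at r1 r2 r3 r4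
    have hfin : ∀ y : M4, y *ᵥ e₁ = a • f₁ + b • e₂ + c • f₂ → y *ᵥ e₂ = (-b) • e₁ + c • f₁ + a' • f₂ →
        Com y s → (x : M4) = y := by
      intro y y1 y2 hys
      have hys' : ∀ v, y *ᵥ (s *ᵥ v) = s *ᵥ (y *ᵥ v) := fun v => by
        rw [Matrix.mulVec_mulVec, Matrix.mulVec_mulVec, hys]
      apply hext
      · rw [x1, y1]
      · rw [hf₁, hxs', hys', x1, y1]
      · rw [x2, y2]
      · rw [hf₂, hxs', hys', x2, y2]
    by_cases hbc : b = 0 ∧ c = 0
    · obtain ⟨hb, hc⟩ := hbc
      rw [hb, hc] at r1 r4 hfin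
      have haa : a = 1 ∨ a = -1 := mul_self_eq_one_iff.mp (by linear_combination -r1)
      have haa' : a' = 1 ∨ a' = -1 := mul_self_eq_one_iff.mp (by linear_combination -r4)
      rcases haa with hA | hA <;> rcases haa' with hA' | hA' <;> rw [hA, hA'] at hfin
      · rw [show x = us from Units.ext (hfin s (by simp [hse1]) (by simp [hse2]) rfl)]
        exact (hmem us (Or.inl rfl)).1
      · rw [show x = uI from Units.ext (hfin I (by simp [hI, hv1]) (by simp [hI, hv3]) hIs)]
        exact (hmem uI (Or.inr (Or.inl rfl))).1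
      · rw [show x = -uI from Units.ext (hfin (-I) (by simp [hI, hv1, Matrix.neg_mulVec])
          (by simp [hI, hv3, Matrix.neg_mulVec]) (by unfold Com at *; rw [neg_mul, mul_neg, hIs]))]
        exact (hmem uI (Or.inr (Or.inl rfl))).2
      · rw [show x = -us from Units.ext (hfin (-s) (by simp [hse1, Matrix.neg_mulVec])
          (by simp [hse2, Matrix.neg_mulVec]) (by unfold Com; rw [neg_mul, mul_neg]))]
        exact (hmem us (Or.inl rfl)).2
    · have hsum : a' = -a := by
        rcases not_and_or.mp hbc with hb | hc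
        · have : b * (a + a') = 0 := by
            first | linear_combination r2 | linear_combination -r2 | linear_combination r3 | linear_combination -r3
          linear_combination (mul_eq_zero.mp this).resolve_left hb
        · have : c * (a + a') = 0 := by
            first | linear_combination r2 | linear_combination -r2 | linear_combination r3 | linear_combination -r3
          linear_combination (mul_eq_zero.mp this).resolve_left hc
      have hnorm : a * a + b * b + c * c = 1 := by
        first | linear_combination -r1 | linear_combination r1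
      have h21 : (1 : F) + 1 ≠ 1 := fun h => one_ne_zero (α := F) (by linear_combination h)
      have h31 : (1 : F) + 1 + 1 ≠ 1 := fun h => h2 (by linear_combination h)
      have hc3 : a = 0 ∧ ((c = 0 ∧ (b = 1 ∨ b = -1)) ∨ (b = 0 ∧ (c = 1 ∨ c = -1))) := by
        rcases h01 a with hA | hA | hA <;> rcases h01 b with hB | hB | hB <;> rcases h01 c with hC | hC | hC <;>
          simp [hA, hB, hC, h21, h31] at hnorm hbc ⊢
      obtain ⟨hA, hcase⟩ := hc3
      rw [hsum, hA] at hfin
      rcases hcase with ⟨hc, hb | hb⟩ | ⟨hb, hc | hc⟩ <;> rw [hb, hc] at hfin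
      · rw [show x = uJ from Units.ext (hfin J (by simp [hJ, hv1]) (by simp [hJ, hv3]) hJs)]
        exact (hmem uJ (Or.inr (Or.inr (Or.inl rfl)))).1
      · rw [show x = -uJ from Units.ext (hfin (-J) (by simp [hJ, hv1, Matrix.neg_mulVec])
          (by simp [hJ, hv3, Matrix.neg_mulVec]) (by unfold Com at *; rw [neg_mul, mul_neg, hJs]))]
        exact (hmem uJ (Or.inr (Or.inr (Or.inl rfl)))).2
      · rw [show x = uJ * uI from Units.ext (hfin (J * I)
          (by simp [← Matrix.mulVec_mulVec, hJ, hI, hv1, hv2])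
          (by simp [← Matrix.mulVec_mulVec, hJ, hI, hv3, hv4, Matrix.mulVec_neg]) (com_mul hJs hIs))]
        exact R.mul_mem (hmem uJ (Or.inr (Or.inr (Or.inl rfl)))).1 (hmem uI (Or.inr (Or.inl rfl))).1
      · rw [show x = -(uJ * uI) from Units.ext (hfin (-(J * I))
          (by simp [← Matrix.mulVec_mulVec, hJ, hI, hv1, hv2, Matrix.neg_mulVec])
          (by simp [← Matrix.mulVec_mulVec, hJ, hI, hv3, hv4, Matrix.mulVec_neg, Matrix.neg_mulVec])
          (by have := com_mul hJs hIs; unfold Com at *; rw [neg_mul, mul_neg, this]))]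
        exact hP.neg_mem (R.mul_mem (hmem uJ (Or.inr (Or.inr (Or.inl rfl)))).1 (hmem uI (Or.inr (Or.inl rfl))).1)
  have hsymm : ∀ x : G4, adj (x : M4) = (x : M4) → Anti (x : M4) s → (x : M4) * x = 1 → x ∈ R := by
    intro x hax hxs hxx
    have hxs' : ∀ v, (x : M4) *ᵥ (s *ᵥ v) = -(s *ᵥ ((x : M4) *ᵥ v)) := fun v => by
      rw [Matrix.mulVec_mulVec, Matrix.mulVec_mulVec, hxs, Matrix.neg_mulVec]
    have hself : ∀ v : V, bb ((x : M4) *ᵥ v) v = 0 := fun v => by
      have h := bb_swap ((x : M4) *ᵥ v) v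
      conv_rhs at h => rw [adj_spec', hax]
      exact (mul_eq_zero.mp (show (2 : F) * bb ((x : M4) *ᵥ v) v = 0 by linear_combination h)).resolve_left h2
    have hdiag : ∀ v : V, bb ((x : M4) *ᵥ v) (s *ᵥ v) = 0 := fun v => by
      have h : bb ((x : M4) *ᵥ v) (s *ᵥ v) = bb v ((x : M4) *ᵥ (s *ᵥ v)) := by rw [adj_spec, hax]
      rw [hxs', map_neg, bb_swap v, hsk, neg_neg] at h
      exact (mul_eq_zero.mp (show (2 : F) * bb ((x : M4) *ᵥ v) (s *ᵥ v) = 0 by
        linear_combination h)).resolve_left h2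
    set p := bb ((x : M4) *ᵥ e₁) f₂ with hpdef
    set y := -bb ((x : M4) *ᵥ e₁) e₂ with hydef
    have x1 : (x : M4) *ᵥ e₁ = p • e₂ + y • f₂ := by
      apply hsep <;> simp [map_add, map_smul, bb_self, hef2, hfe2, h2e, h2f, hf2e1, hf21, hpdef, hydef,
        show bb ((x : M4) *ᵥ e₁) f₁ = 0 from hdiag e₁, hself e₁]
    have k1 : bb ((x : M4) *ᵥ e₂) e₁ = y := by
      rw [adj_spec, hax, x1]
      simp [map_add, map_smul, bb_self, hef2]
    have k2 : bb ((x : M4) *ᵥ e₂) f₁ = -p := by
      rw [adj_spec, hax, hf₁, hxs', x1]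
      simp [Matrix.mulVec_add, Matrix.mulVec_smul, hse2, hsf2, map_add, map_neg, map_smul, bb_self, hef2]
    have x2 : (x : M4) *ᵥ e₂ = (-p) • e₁ + (-y) • f₁ := by
      apply hsep <;> simp [map_add, map_smul, bb_self, hef, hfe, h12, he1f2, hf1e2, hf12, k1, k2,
        show bb ((x : M4) *ᵥ e₂) f₂ = 0 from hdiag e₂, hself e₂]
    have xf2 : (x : M4) *ᵥ f₂ = p • f₁ + (-y) • e₁ := by
      rw [hf₂, hxs', x2]
      simp [Matrix.mulVec_add, Matrix.mulVec_smul, Matrix.mulVec_neg, hse1, hsf1]

      module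
    have hq : (x : M4) *ᵥ ((x : M4) *ᵥ e₁) = e₁ := by rw [Matrix.mulVec_mulVec, hxx, Matrix.one_mulVec]
    simp only [x1, x2, xf2, Matrix.mulVec_add, Matrix.mulVec_smul] at hq
    have r1 := congrArg (fun z => bb z f₁) hq
    simp [map_add, map_smul, bb_self, hef, hfe] at r1
    have hfin : ∀ w : M4, w *ᵥ e₁ = p • e₂ + y • f₂ → w *ᵥ e₂ = (-p) • e₁ + (-y) • f₁ →
        Anti w s → (x : M4) = w := by
      intro w y1 y2 hys
      have hys' : ∀ v, w *ᵥ (s *ᵥ v) = -(s *ᵥ (w *ᵥ v)) := fun v => by
        rw [Matrix.mulVec_mulVec, Matrix.mulVec_mulVec, hys, Matrix.neg_mulVec]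
      apply hext
      · rw [x1, y1]
      · rw [hf₁, hxs', hys', x1, y1]
      · rw [x2, y2]
      · rw [hf₂, hxs', hys', x2, y2]
    have hpy : p * p + y * y = -1 := by first | linear_combination r1 | linear_combination -r1
    have h11 : (1 : F) ≠ -1 := fun h => h2 (by linear_combination h)
    have hcases : (p = 1 ∨ p = -1) ∧ (y = 1 ∨ y = -1) := by
      rcases h01 p with hp | hp | hp <;> rcases h01 y with hy | hy | hy <;>
        simp [hp, hy, h11, h11.symm] at hpy ⊢
    rcases hcases with ⟨hp | hp, hy | hy⟩ <;> rw [hp, hy] at hfin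
    · rw [show x = uT from Units.ext (hfin T (by simp [hT, hv1]) (by simp [hT, hv3]; module) hTs)]
      exact (hmem uT (Or.inr (Or.inr (Or.inr rfl)))).1
    · rw [show x = -(us * uT) from Units.ext (hfin (-(s * T))
        (by simp [← Matrix.mulVec_mulVec, hT, hv1, Matrix.neg_mulVec, Matrix.mulVec_add, hse2, hsf2])
        (by simp [← Matrix.mulVec_mulVec, hT, hv3, Matrix.neg_mulVec, Matrix.mulVec_add, Matrix.mulVec_sub,
          Matrix.mulVec_neg, hse1, hsf1])
        (by unfold Anti at *; simp only [neg_mul, mul_neg, mul_assoc]; rw [hTs]; simp [mul_assoc]; done))]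
      exact hP.neg_mem (R.mul_mem (hmem us (Or.inl rfl)).1 (hmem uT (Or.inr (Or.inr (Or.inr rfl)))).1)
    · rw [show x = us * uT from Units.ext (hfin (s * T)
        (by simp [← Matrix.mulVec_mulVec, hT, hv1, Matrix.mulVec_add, hse2, hsf2]; module)
        (by simp [← Matrix.mulVec_mulVec, hT, hv3, Matrix.mulVec_add, Matrix.mulVec_sub,
          Matrix.mulVec_neg, hse1, hsf1]; module)
        (by unfold Anti at *; simp only [mul_assoc]; rw [hTs]; simp [mul_assoc]; done))]
      exact R.mul_mem (hmem us (Or.inl rfl)).1 (hmem uT (Or.inr (Or.inr (Or.inr rfl)))).1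
    · rw [show x = -uT from Units.ext (hfin (-T) (by simp [hT, hv1, Matrix.neg_mulVec]; module)
        (by simp [hT, hv3, Matrix.neg_mulVec]; module)
        (by unfold Anti at *; rw [neg_mul, hTs, mul_neg]))]
      exact (hmem uT (Or.inr (Or.inr (Or.inr rfl)))).2
  refine pauli_concl hodd hH hsub hP fun h hh x hx => ?_
  have hle : R.map (MulAut.conj h).toMonoidHom ≤ R := by
    rw [hR', MonoidHom.map_closure, Subgroup.closure_le]
    rintro _ ⟨g, hg, rfl⟩
    have hhS := hH.1.le hh
    simp only [MulEquiv.coe_toMonoidHom, MulAut.conj_apply]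
    have hcs : ∀ {A : M4}, Com A s → Com ((h : M4) * A * ((h⁻¹ : G4) : M4)) s := by
      intro A hA
      unfold Com at *
      rcases hconj h hh with e | e <;> rcases hconj h⁻¹ (H.inv_mem hh) with e' | e'
      all_goals
        first
          | (rw [mul_assoc, e', ← mul_assoc, mul_assoc (h : M4), hA, ← mul_assoc, e]; simp [mul_assoc]; done)
          | (rw [mul_assoc, e', mul_neg, ← mul_assoc, mul_assoc (h : M4), hA, ← mul_assoc, e]; simp [mul_assoc]; done)
          | (exfalso
             have h' := congrArg (fun M : M4 => (h : M4) * M * (h : M4)) e'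
             simp [mul_assoc, e] at h'
             have : (2 : F) • (s * (h : M4)) = 0 := by rw [two_smul]; exact eq_neg_iff_add_eq_zero.mp h'
             rcases smul_eq_zero.mp this with h'' | h''
             · exact h2 h''
             · have := congrArg (fun M : M4 => s * M * ((h⁻¹ : G4) : M4)) h''
               simp [← mul_assoc, hs] at this)
    rcases hg with rfl | rfl | rfl | rfl
    · refine hskew _ (by simp only [Units.val_mul]; rw [adj_conj hhS]; show _ * adj s * _ = _; rw [ha]; simp [us]) ?_ ?_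
      · simp only [Units.val_mul]; exact hcs (show Com (us : M4) s from rfl)
      · simp only [Units.val_mul]; rw [conj_mul]; show _ * (s * s) * _ = _; rw [hs]; simp
    · refine hskew _ (by simp only [Units.val_mul]; rw [adj_conj hhS]; show _ * adj I * _ = _; rw [hadjI]; simp [uI]) ?_ ?_
      · simp only [Units.val_mul]; exact hcs (show Com (uI : M4) s from hIs)
      · simp only [Units.val_mul]; rw [conj_mul]; show _ * (I * I) * _ = _; rw [hII]; simp
    · refine hskew _ (by simp only [Units.val_mul]; rw [adj_conj hhS]; show _ * adj J * _ = _; rw [hadjJ]; simp [uJ]) ?_ ?_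
      · simp only [Units.val_mul]; exact hcs (show Com (uJ : M4) s from hJs)
      · simp only [Units.val_mul]; rw [conj_mul]; show _ * (J * J) * _ = _; rw [hJJ]; simp
    · refine hsymm _ (by simp only [Units.val_mul]; rw [adj_conj hhS]; show _ * adj T * _ = _; rw [hadjT]) ?_ ?_
      · simp only [Units.val_mul]
        show Anti ((h : M4) * T * ((h⁻¹ : G4) : M4)) s
        unfold Anti at *
        rcases hconj h hh with e | e <;> rcases hconj h⁻¹ (H.inv_mem hh) with e' | e'
        all_goals
          first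
            | (rw [mul_assoc, e', ← mul_assoc, mul_assoc (h : M4), hTs, mul_neg, neg_mul, ← mul_assoc, e]
               simp [mul_assoc]; done)
            | (rw [mul_assoc, e', mul_neg, ← mul_assoc, mul_assoc (h : M4), hTs, mul_neg, neg_mul, neg_neg,
                 ← mul_assoc, e]
               simp [mul_assoc]; done)
            | (exfalso
               have h' := congrArg (fun M : M4 => (h : M4) * M * (h : M4)) e'
               simp [mul_assoc, e] at h'
               have : (2 : F) • (s * (h : M4)) = 0 := by rw [two_smul]; exact eq_neg_iff_add_eq_zero.mp h'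
               rcases smul_eq_zero.mp this with h'' | h''
               · exact h2 h''
               · have := congrArg (fun M : M4 => s * M * ((h⁻¹ : G4) : M4)) h''
                 simp [← mul_assoc, hs] at this)
      · simp only [Units.val_mul]; rw [conj_mul]; show _ * (T * T) * _ = _; rw [hTT]; simp
  exact hle ⟨x, hx, rfl⟩

/-- The member attached to a normalised involution or skew element. -/
theorem outcome (hodd : Odd (Fintype.card F)) {H : Subgroup G4} (hH : Cfsg.Geo.IsMaximalIn S4 H)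
    (hinv : HasInv2 H) : Concl H := by
  obtain ⟨s, hns, ⟨c, hc0, hsc⟩, hadj, hconj⟩ := hinv
  have h2 := two_ne hodd
  have hq3 : 5 ≤ Fintype.card F ∨ Fintype.card F = 3 := by
    have := Fintype.one_lt_card (α := F)
    obtain ⟨k, hk⟩ := hodd; omega
  by_cases hsq : IsSquare c
  · obtain ⟨r, rfl⟩ := hsq
    have hr : r ≠ 0 := fun h => hc0 (by rw [h, mul_zero])
    set s' : M4 := r⁻¹ • s with hs'
    have h11 : s' * s' = 1 := by
      rw [hs', smul_mul_smul_comm, hsc, smul_smul, show r⁻¹ * r⁻¹ * (r * r) = (r⁻¹ * r) * (r⁻¹ * r) by ring,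
        inv_mul_cancel₀ hr, one_mul, one_smul]
    have hns' : ¬ IsScal s' := fun ⟨d, hd⟩ => hns ⟨r * d, by
      rw [← smul_smul, ← hd, hs', smul_inv_smul₀ hr]⟩
    have hconj' : ∀ h ∈ H, (h : M4) * s' = s' * h ∨ (h : M4) * s' = -(s' * h) := fun h hh => by
      rcases hconj h hh with e | e
      · exact Or.inl (by rw [hs', Matrix.mul_smul, Matrix.smul_mul, e])
      · exact Or.inr (by rw [hs', Matrix.mul_smul, Matrix.smul_mul, e, smul_neg])
    rcases hadj with ha | ha
    · exact sym_square hodd hH h11 hns' (by rw [hs', adj_smul, ha]) hconj'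
    have ha' : adj s' = -s' := by rw [hs', adj_smul, ha, smul_neg]
    have hti : ∀ i, ∀ u ∈ pair s' i, ∀ v ∈ pair s' i, bb u v = 0 := by
      intro i u hu v hv
      have h := adj_spec s' u v
      rw [ha', Matrix.neg_mulVec, map_neg] at h
      fin_cases i
      · change u ∈ eig s' 1 at hu
        change v ∈ eig s' 1 at hv
        rw [mem_eig, one_smul] at hu hv
        rw [hu, hv] at h
        exact (mul_eq_zero.mp (show (2 : F) * bb u v = 0 by linear_combination h)).resolve_left h2
      · change u ∈ eig s' (-1) at hu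
        change v ∈ eig s' (-1) at hv
        rw [mem_eig, neg_one_smul] at hu hv
        rw [hu, hv, map_neg, map_neg, LinearMap.neg_apply, neg_neg] at h
        exact (mul_eq_zero.mp (show (2 : F) * bb u v = 0 by linear_combination -h)).resolve_left h2
    have hd : ∀ i, Module.finrank F (pair s' i) = 2 := by
      have h0 : Module.finrank F (eig s' 1) ≤ 2 := finrank_ti_le (hti 0)
      have h1 : Module.finrank F (eig s' (-1)) ≤ 2 := finrank_ti_le (hti 1)
      have := finrank_eig_add h2 h11
      intro i; fin_cases i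
      · show Module.finrank F (eig s' 1) = 2; omega
      · show Module.finrank F (eig s' (-1)) = 2; omega
    rcases hq3 with h5 | h3
    · refine Or.inr (Or.inr (Or.inl ⟨h5, pair s', pair_isMDecomposition h2 h11 hd, fun i u hu v hv => ?_,
        eq_inf hH (le_decompositionStabilizer hd hconj')
          (not_le_decompositionStabilizer hodd (pair_isMDecomposition h2 h11 hd))⟩))
      rw [← bb_apply]; exact hti i u hu v hv
    · exact isotropic_three hodd h3 hH h11 ha' hd hti hconj'
  · have hK := quadAlg_field h2 hsc hns hsq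
    rcases hadj with ha | ha
    · have hk : ∀ k ∈ quadAlg s c hsc, adj k = k := by
        rintro _ ⟨a, b, rfl⟩
        rw [adj_add, adj_smul, adj_smul, adj_one, ha]
      refine Or.inr (Or.inr (Or.inr (Or.inl ⟨quadAlg s c hsc, hK, ?_, ?_,
        eq_inf hH (le_quadAlg_normalizer hsc hconj) (not_le_subalgebraNormalizer hK)⟩)))
      · intro k hk' u v
        rw [← bb_apply, ← bb_apply, adj_spec, hk k hk']
      · intro k hk' v
        rw [← bb_apply]
        have h := bb_swap (k *ᵥ v) v
        conv_rhs at h => rw [adj_spec', hk k hk']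
        exact (mul_eq_zero.mp (show (2 : F) * bb (k *ᵥ v) v = 0 by linear_combination h)).resolve_left h2
    · rcases hq3 with h5 | h3
      · refine Or.inr (Or.inr (Or.inr (Or.inr (Or.inl ⟨h5, quadAlg s c hsc, hK, ?_, ?_,
          eq_inf hH (le_quadAlg_normalizer hsc hconj) (not_le_subalgebraNormalizer hK)⟩))))
        · rintro _ ⟨a, b, rfl⟩
          refine ⟨a • 1 + (-b) • s, ⟨a, -b, rfl⟩, fun u v => ?_⟩
          rw [← bb_apply, ← bb_apply, adj_spec, adj_add, adj_smul, adj_smul, adj_one, ha, smul_neg, ← neg_smul]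
        · intro hsa
          apply hns
          refine ⟨0, ?_⟩
          have hs : adj s = s := adj_eq fun u v => by
            rw [bb_apply, bb_apply]
            exact hsa s ⟨0, 1, by simp⟩ u v
          rw [zero_smul]
          refine (smul_eq_zero.mp (show (2 : F) • s = 0 from ?_)).resolve_left h2
          rw [two_smul]
          exact eq_neg_iff_add_eq_zero.mp (hs.symm.trans ha)
      · rcases three_units h3 hc0 with rfl | rfl
        · exact absurd IsSquare.one hsq
        · exact quaternion_three hodd h3 hH (by rw [hsc, neg_one_smul]) ha hconj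

theorem reducible (hodd : Odd (Fintype.card F)) {H : Subgroup G4} (hH : Cfsg.Geo.IsMaximalIn S4 H)
    (W : Submodule F V) (hinv : ∀ h ∈ H, ∀ w ∈ W, (h : M4) *ᵥ w ∈ W) (h0 : W ≠ ⊥) (h1 : W ≠ ⊤) : Concl H := by
  have h2 := two_ne hodd
  let B : LinearMap.BilinForm F V := bb
  have hr : B.IsRefl := fun u v huv => by
    show bb v u = 0
    rw [bb_swap, show bb u v = 0 from huv, neg_zero]
  set W' := B.orthogonal W with hW'
  have hmem' : ∀ {v}, v ∈ W' ↔ ∀ w ∈ W, bb w v = 0 := fun {v} => Iff.rfl
  have hinv' : ∀ h ∈ H, ∀ w ∈ W', (h : M4) *ᵥ w ∈ W' := by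
    intro h hh v hv w hw
    show bb w ((h : M4) *ᵥ v) = 0
    rw [adj_spec', adj_iso (hH.1.le hh)]
    exact hmem'.mp hv _ (hinv _ (H.inv_mem hh) w hw)
  by_cases hd : W ⊓ W' = ⊥
  · have hnd : LinearMap.BilinForm.Nondegenerate B :=
      ⟨fun x hx => bb_ext' fun u => by rw [map_zero, LinearMap.zero_apply]; exact hx u,
        fun y hy => bb_ext fun u => by rw [map_zero]; exact hy u⟩
    have hc : IsCompl W W' := by
      refine ⟨disjoint_iff.mpr hd, codisjoint_iff.mpr (Submodule.eq_top_of_finrank_eq ?_)⟩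
      have h := Submodule.finrank_sup_add_finrank_inf_eq W W'
      rw [hd, finrank_bot, add_zero, hW', LinearMap.BilinForm.finrank_orthogonal hnd] at h
      have := Submodule.finrank_le W
      rw [← hW'] at h
      rw [finrank_V] at h this ⊢
      omega
    let π : V →ₗ[F] V := W.subtype ∘ₗ Submodule.projectionOnto W W' hc
    set e : M4 := LinearMap.toMatrix' π with he
    have hev : ∀ a ∈ W, ∀ b ∈ W', e *ᵥ (a + b) = a := by
      intro a ha b hb
      rw [he, ← Matrix.toLin'_apply, Matrix.toLin'_toMatrix']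
      simp [π, map_add, Submodule.projectionOnto_apply_left hc ⟨a, ha⟩,
        Submodule.projectionOnto_apply_right hc ⟨b, hb⟩]
    have hsplit : ∀ v : V, ∃ a ∈ W, ∃ b ∈ W', a + b = v := fun v =>
      Submodule.mem_sup.mp (hc.sup_eq_top ▸ Submodule.mem_top)
    have hae : adj e = e := adj_eq fun u v => by
      obtain ⟨a, ha, b, hb, rfl⟩ := hsplit u
      obtain ⟨a', ha', b', hb', rfl⟩ := hsplit v
      rw [hev a ha b hb, hev a' ha' b' hb']
      simp only [map_add, LinearMap.add_apply]
      rw [hmem'.mp hb' a ha, bb_swap b a', hmem'.mp hb a' ha', neg_zero]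
    have hcomm : ∀ h ∈ H, (h : M4) * e = e * h := fun h hh => eq_of_mulVec_eq fun v => by
      obtain ⟨a, ha, b, hb, rfl⟩ := hsplit v
      rw [← Matrix.mulVec_mulVec, ← Matrix.mulVec_mulVec, hev a ha b hb, Matrix.mulVec_add,
        hev _ (hinv h hh a ha) _ (hinv' h hh b hb)]
    set s : M4 := (2 : F) • e - 1 with hs
    have hee : e * e = e := eq_of_mulVec_eq fun v => by
      obtain ⟨a, ha, b, hb, rfl⟩ := hsplit v
      have := hev a ha 0 W'.zero_mem
      rw [add_zero] at this
      rw [← Matrix.mulVec_mulVec, hev a ha b hb, this]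
    refine sym_square hodd hH (s := s) ?_ ?_ (by rw [hs, adj_sub, adj_smul, adj_one, hae]) fun h hh => Or.inl ?_
    · rw [hs]; simp only [sub_mul, mul_sub, smul_mul_smul_comm, hee, mul_one, one_mul]; module
    · rintro ⟨d, hd'⟩
      have he' : (2 : F) • e = (d + 1) • (1 : M4) := by rw [add_smul, one_smul, ← hd', hs, sub_add_cancel]
      obtain ⟨a, ha, ha0⟩ := (Submodule.ne_bot_iff W).mp h0
      have ka := congrArg (· *ᵥ a) he'
      have := hev a ha 0 W'.zero_mem
      rw [add_zero] at this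
      simp only [Matrix.smul_mulVec, Matrix.one_mulVec, this] at ka
      have hd1 : d + 1 = 2 := (smul_left_injective F ha0 ka).symm
      refine h1 (Submodule.eq_top_iff'.mpr fun v => ?_)
      obtain ⟨a', ha', b, hb, rfl⟩ := hsplit v
      have kb := congrArg (· *ᵥ (a' + b)) he'
      simp only [Matrix.smul_mulVec, Matrix.one_mulVec, hev a' ha' b hb, hd1] at kb
      rw [← IsUnit.smul_left_cancel (IsUnit.mk0 _ h2) |>.mp kb]
      exact ha'
    · rw [hs, mul_sub, sub_mul, Matrix.mul_smul, Matrix.smul_mul, hcomm h hh, mul_one, one_mul]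
  · refine Or.inl ⟨W ⊓ W', hd, fun u hu v hv => ?_, eq_inf hH ?_ (not_le_subspaceStabilizer hd fun h =>
      h1 (eq_top_iff.mpr (h ▸ inf_le_left)))⟩
    · rw [← bb_apply]; exact hmem'.mp hv.2 u hu.1
    · intro g hg
      exact mem_subspaceStabilizer fun w hw => ⟨hinv g hg w hw.1, hinv' g hg w hw.2⟩

end Cfsg.Agent.Lib.SpFourOdd
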