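import Cfsg.Agent.Lib.SpFourOdd.Pauli

/-!
The members of the list obtained from an absolutely irreducible group of order 32 or from a group realisable over
a proper subfield.
-/

set_option autoImplicit false

namespace Cfsg.Agent.Lib.SpFourOdd

open Matrix Cfsg.Agent.Lib.MaxSub Cfsg.Agent.Lib.SympFour

variable {F : Type*} [Field F] [Fintype F]

local notation "V" => (Fin 2 ⊕ Fin 2 → F)
local notation "M4" => Matrix (Fin 2 ⊕ Fin 2) (Fin 2 ⊕ Fin 2) F
local notation "G4" => GL (Fin 2 ⊕ Fin 2) F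
local notation "S4" => Cfsg.spGL 2 F
local notation "bb" => AltForm.B (stdAlt 2 F)

variable {R : Subgroup (GL (Fin 2 ⊕ Fin 2) F)}

/-- Every subfield carries a realisation. -/
theorem realisable (h2 : (2 : F) ≠ 0) (hsub : R ≤ S4) (hR : Pauli R) (F₀ : Subfield F) :
    Cfsg.Geo.RealisableOver F₀ (Cfsg.Geo.matrixSet R) := by
  classical
  haveI := hR.fin
  obtain ⟨x, hx, hxns, hx1⟩ := exists_involution h2 hsub hR
  have hax := adj_of_sq_one hsub hx hx1
  obtain ⟨y, hy, hxy⟩ := hR.exists_anti hx hxns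
  have hyx := anti_symm hxy
  have hC : ∀ z ∈ R, Com (z : M4) x → (z : M4) * z = 1 → z = 1 ∨ z = -1 ∨ z = x ∨ z = -x := by
    intro z hz hzx hz1
    rcases invol_cases h2 hx1 hz1 hax (adj_of_sq_one hsub hz hz1) hzx.symm hxns with h | h | h | h
    · exact Or.inl (Units.ext h)
    · exact Or.inr (Or.inl (Units.ext h))
    · exact Or.inr (Or.inr (Or.inl (Units.ext h)))
    · exact Or.inr (Or.inr (Or.inr (Units.ext h)))
  -- an element of the centraliser outside the four trivial ones
  obtain ⟨a, ha, hax', hane⟩ : ∃ a ∈ R, Com (a : M4) x ∧ a ∉ ({1, -1, x, -x} : Finset G4) := by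
    by_contra hc
    push Not at hc
    have hle : (R : Set G4) ⊆ (({1, -1, x, -x} : Finset G4) : Set G4) ∪
        (fun r => r * y⁻¹) '' (({1, -1, x, -x} : Finset G4) : Set G4) := by
      intro r hr
      rcases hR.comm r hr x hx with h | h
      · exact Or.inl (hc r hr h)
      · exact Or.inr ⟨r * y, hc _ (R.mul_mem hr hy) (by rw [Units.val_mul]; exact anti_mul_anti h hyx),
          mul_inv_cancel_right r y⟩
    have h := (Set.ncard_le_ncard hle (Set.toFinite _)).trans (Set.ncard_union_le _ _)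
    have i1 := Set.ncard_image_le (f := fun r => r * y⁻¹)
      (Set.toFinite (({1, -1, x, -x} : Finset G4) : Set G4))
    have i2 : (({1, -1, x, -x} : Finset G4) : Set G4).ncard ≤ 4 := by
      rw [Set.ncard_coe_finset]; exact Finset.card_le_four
    have h32 : (R : Set G4).ncard = 32 := (Nat.card_coe_set_eq _).symm.trans (card_eq h2 hsub hR)
    omega
  simp only [Finset.mem_insert, Finset.mem_singleton] at hane
  have ha1 : (a : M4) * a = -1 := (hR.sq a ha).resolve_left fun h => hane (hC a ha hax' h)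
  have hans : ¬ IsScal (a : M4) := fun hs => hane ((isScal_pm hsub ha hs).elim Or.inl (Or.inr ∘ Or.inl))
  -- an element of the centraliser anticommuting with it
  obtain ⟨b, hb, hbx, hba⟩ : ∃ b ∈ R, Com (b : M4) x ∧ Anti (b : M4) a := by
    by_contra hc
    push Not at hc
    have hCa : ∀ r ∈ R, Com (r : M4) x → Com (r : M4) a := fun r hr hrx =>
      (hR.comm r hr a ha).resolve_right (hc r hr hrx)
    have hgen : ∀ z : G4, z ∈ R → (∀ r ∈ R, Com (r : M4) x → Com (r : M4) z) → Com (y : M4) z →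
        IsScal (z : M4) := by
      intro z hz h1 hy'
      refine hR.abs _ fun r hr => ?_
      rcases hR.comm r hr x hx with h | h
      · exact (h1 r hr h).symm
      · have h3 := com_mul (h1 (r * y) (R.mul_mem hr hy) (by rw [Units.val_mul]; exact anti_mul_anti h hyx))
          (show Com ((y⁻¹ : G4) : M4) z from by
            rcases hR.inv_eq hy with e | e <;> rw [e]
            · exact hy'
            · unfold Com at hy' ⊢; rw [Units.val_neg, neg_mul, mul_neg, hy'])
        rw [← Units.val_mul, mul_inv_cancel_right] at h3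
        exact h3.symm
    rcases hR.comm y hy a ha with hya | hya
    · exact hans (hgen a ha hCa hya)
    · have hxa := hgen (x * a) (R.mul_mem hx ha) (fun r hr hrx => by
        rw [Units.val_mul]; exact (com_mul (Eq.symm hrx) (Eq.symm (hCa r hr hrx))).symm) (by
        rw [Units.val_mul]; exact (anti_mul_anti hxy (anti_symm hya)).symm)
      rcases isScal_pm hsub (R.mul_mem hx ha) hxa with h | h
      · refine hane (Or.inr (Or.inr (Or.inl ?_)))
        have hxinv : x⁻¹ = x := inv_eq_of_mul_eq_one_right (Units.ext (by rw [Units.val_mul, hx1]; rfl))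
        rw [eq_inv_of_mul_eq_one_right h, hxinv]
      · refine hane (Or.inr (Or.inr (Or.inr ?_)))
        have hxinv : x⁻¹ = x := inv_eq_of_mul_eq_one_right (Units.ext (by rw [Units.val_mul, hx1]; rfl))
        rw [show a = x⁻¹ * (x * a) from (inv_mul_cancel_left x a).symm, h, hxinv]; simp
  have hb1 : (b : M4) * b = -1 := (hR.sq b hb).resolve_left fun h => by
    rcases hC b hb hbx h with e | e | e | e
    all_goals subst e
    · exact not_both h2 (show Com ((1 : G4) : M4) a by simp [Com]) hba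
    · exact not_both h2 (show Com ((-1 : G4) : M4) a by simp [Com]) hba
    · exact not_both h2 hax'.symm hba
    · refine not_both h2 (show Com ((-x : G4) : M4) a from ?_) hba
      unfold Com at *; rw [Units.val_neg, neg_mul, mul_neg, hax']
  have hab := anti_symm hba
  -- the classification of the centraliser
  have hz4 : ∀ z ∈ R, Com (z : M4) x → Com (z : M4) a → Com (z : M4) b →
      z = 1 ∨ z = -1 ∨ z = x ∨ z = -x := by
    intro z hz hzx hza hzb
    rcases hR.sq z hz with h | h
    · exact hC z hz hzx h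
    exfalso
    have h1 : ((z * a : G4) : M4) * (z * a : G4) = 1 := by
      rw [Units.val_mul, mul_assoc, ← mul_assoc (a : M4), ← hza, mul_assoc, ← mul_assoc (z : M4), h, ha1]; simp
    have hanti : Anti ((z * a : G4) : M4) b := by rw [Units.val_mul]; exact com_mul_anti hzb hab
    rcases hC _ (R.mul_mem hz ha) (by rw [Units.val_mul]; exact com_mul hzx hax') h1 with e | e | e | e <;>
      rw [e] at hanti
    · exact not_both h2 (show Com ((1 : G4) : M4) b by simp [Com]) hanti
    · exact not_both h2 (show Com ((-1 : G4) : M4) b by simp [Com]) hanti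
    · exact not_both h2 hbx.symm hanti
    · refine not_both h2 (show Com ((-x : G4) : M4) b from ?_) hanti
      unfold Com at *; rw [Units.val_neg, neg_mul, mul_neg, hbx]
  -- the rational idempotent
  obtain ⟨p, hp⟩ := CharP.exists F
  haveI := hp
  haveI : NeZero p := ⟨(CharP.char_is_prime F p).ne_zero⟩
  obtain ⟨α, β, hαβ⟩ := CharP.sq_add_sq F p (-1)
  simp only [Int.cast_neg, Int.cast_one] at hαβ
  have hαF : (α : F) ∈ F₀ := natCast_mem F₀ α
  have hβF : (β : F) ∈ F₀ := natCast_mem F₀ β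
  set t : M4 := (α : F) • (a : M4) + (β : F) • (b : M4) with ht
  have hba' : (b : M4) * a = -((a : M4) * b) := hba
  have htt : t * t = 1 := by
    rw [ht, add_mul, mul_add, mul_add, smul_mul_smul_comm, smul_mul_smul_comm, smul_mul_smul_comm,
      smul_mul_smul_comm, ha1, hb1, hba']
    rw [mul_comm (β : F) (α : F), smul_neg, smul_neg, smul_neg]
    rw [show -(((α : F) * α) • (1 : M4)) + ((α : F) * β) • ((a : M4) * b) + (-(((α : F) * β) • ((a : M4) * b)) +
      -(((β : F) * β) • (1 : M4))) = (-((α : F) ^ 2 + (β : F) ^ 2)) • (1 : M4) by module, hαβ, neg_neg, one_smul]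
  have htx : Com t (x : M4) := by
    unfold Com at *
    rw [ht, add_mul, mul_add, Matrix.smul_mul, Matrix.smul_mul, Matrix.mul_smul, Matrix.mul_smul, hax', hbx]
  have htab : t * ((a : M4) * b) = -((a : M4) * b * t) := by
    rw [ht, add_mul, mul_add, Matrix.smul_mul, Matrix.smul_mul, Matrix.mul_smul, Matrix.mul_smul]
    rw [show (a : M4) * b * a = -((a : M4) * ((a : M4) * b)) by rw [mul_assoc, hba', mul_neg],
      show (b : M4) * ((a : M4) * b) = -((a : M4) * b * b) by rw [← mul_assoc, hba', neg_mul],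
      smul_neg, smul_neg, neg_add, neg_neg]
  have hxab : Com ((a : M4) * (b : M4)) (x : M4) := com_mul hax' hbx
  -- the common eigenspace is a line
  let W : F → Submodule F V := fun ε =>
    LinearMap.ker (Matrix.toLin' ((x : M4) - 1)) ⊓ LinearMap.ker (Matrix.toLin' (t - ε • 1))
  have hW : ∀ ε u, u ∈ W ε ↔ (x : M4) *ᵥ u = u ∧ t *ᵥ u = ε • u := by
    intro ε u
    simp only [W, Submodule.mem_inf, LinearMap.mem_ker, Matrix.toLin'_apply, Matrix.sub_mulVec,
      Matrix.one_mulVec, Matrix.smul_mulVec, sub_eq_zero]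
  have hswap : ∀ ε u, u ∈ W ε → ((a : M4) * (b : M4)) *ᵥ u ∈ W (-ε) := by
    intro ε u hu
    rw [hW] at hu ⊢
    refine ⟨?_, ?_⟩
    · rw [Matrix.mulVec_mulVec, ← hxab, ← Matrix.mulVec_mulVec, hu.1]
    · rw [Matrix.mulVec_mulVec, htab, Matrix.neg_mulVec, ← Matrix.mulVec_mulVec, hu.2, Matrix.mulVec_smul, neg_smul]
  have habu : ∀ u : V, ((a : M4) * (b : M4)) *ᵥ u = 0 → u = 0 := fun u hu => by
    have := congrArg ((((a * b)⁻¹ : G4) : M4) *ᵥ ·) hu
    simpa [Matrix.mulVec_mulVec, mul_assoc] using this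
  obtain ⟨v, hv, hv0⟩ : ∃ v ∈ W 1, v ≠ 0 := by
    obtain ⟨u, hu⟩ : ∃ u, u + (x : M4) *ᵥ u ≠ 0 := by
      by_contra hc
      push Not at hc
      exact hxns ⟨-1, eq_of_mulVec_eq fun u => by
        rw [Matrix.smul_mulVec, Matrix.one_mulVec, neg_one_smul, eq_neg_iff_add_eq_zero, add_comm, hc]⟩
    set w := u + (x : M4) *ᵥ u
    have hxw : (x : M4) *ᵥ w = w := by
      rw [Matrix.mulVec_add, Matrix.mulVec_mulVec, hx1, Matrix.one_mulVec, add_comm]
    have hxtw : (x : M4) *ᵥ (t *ᵥ w) = t *ᵥ w := by rw [Matrix.mulVec_mulVec, ← htx, ← Matrix.mulVec_mulVec, hxw]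
    have h1 : w + t *ᵥ w ∈ W 1 := (hW _ _).mpr
      ⟨by rw [Matrix.mulVec_add, hxw, hxtw],
        by rw [Matrix.mulVec_add, Matrix.mulVec_mulVec, htt, Matrix.one_mulVec, one_smul, add_comm]⟩
    have h2' : w - t *ᵥ w ∈ W (-1) := (hW _ _).mpr
      ⟨by rw [Matrix.mulVec_sub, hxw, hxtw],
        by rw [Matrix.mulVec_sub, Matrix.mulVec_mulVec, htt, Matrix.one_mulVec, neg_one_smul, neg_sub]⟩
    by_cases h0 : w + t *ᵥ w = 0
    · refine ⟨_, by simpa using hswap _ _ h2', fun h => hu ?_⟩
      have h3 := habu _ h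
      have h4 : (2 : F) • w = 0 := by
        rw [two_smul]
        calc w + w = (w + t *ᵥ w) + (w - t *ᵥ w) := by abel
          _ = 0 := by rw [h0, h3, add_zero]
      exact (smul_eq_zero.mp h4).resolve_left h2
    · exact ⟨_, h1, h0⟩
  obtain ⟨hvx, hvt⟩ := (hW 1 v).mp hv
  rw [one_smul] at hvt
  -- the functional on the orbit
  set e : M4 := (1 + (x : M4)) * (1 + t) with he
  have hev : e *ᵥ v = (4 : F) • v := by
    simp only [he, ← Matrix.mulVec_mulVec, Matrix.add_mulVec, Matrix.one_mulVec, hvt, Matrix.mulVec_add, hvx]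

    module
  have hval : ∀ r ∈ R, ∃ g ∈ F₀, e *ᵥ ((r : M4) *ᵥ v) = g • v := by
    intro r hr
    rcases hR.comm r hr x hx with hrx | hrx
    · -- `r` is a product of a trivial element and one of `1, a, b, a b`
      have hq : ∀ (q : M4) (g : F), g ∈ F₀ → e *ᵥ (q *ᵥ v) = g • v → ∀ z : G4,
          (z = 1 ∨ z = -1 ∨ z = x ∨ z = -x) → Com q (x : M4) →
          ∃ g ∈ F₀, e *ᵥ ((q * (z : M4)) *ᵥ v) = g • v := by
        intro q g hg hqv z hz _
        rcases hz with rfl | rfl | rfl | rfl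
        · exact ⟨g, hg, by simpa using hqv⟩
        · exact ⟨-g, F₀.neg_mem hg, by simp [Matrix.neg_mulVec, Matrix.mulVec_neg, hqv]⟩
        · exact ⟨g, hg, by rw [← Matrix.mulVec_mulVec v q, hvx, hqv]⟩
        · exact ⟨-g, F₀.neg_mem hg, by
            rw [← Matrix.mulVec_mulVec v q, Units.val_neg, Matrix.neg_mulVec, hvx, Matrix.mulVec_neg,
              Matrix.mulVec_neg, hqv, neg_smul]⟩
      have he1 : ∀ q : M4, Com q (x : M4) → e *ᵥ (q *ᵥ v) = (2 : F) • (q *ᵥ v + t *ᵥ (q *ᵥ v)) := by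
        intro q hq'
        have hx' : (x : M4) *ᵥ (q *ᵥ v) = q *ᵥ v := by
          rw [Matrix.mulVec_mulVec, ← hq', ← Matrix.mulVec_mulVec, hvx]
        rw [he, ← Matrix.mulVec_mulVec, Matrix.add_mulVec, Matrix.one_mulVec, Matrix.add_mulVec 1 t,
          Matrix.one_mulVec, Matrix.mulVec_add, hx', Matrix.mulVec_mulVec (q *ᵥ v) _ t, ← htx,
          ← Matrix.mulVec_mulVec, hx']
        module
      have hva : e *ᵥ ((a : M4) *ᵥ v) = (-4 * (α : F)) • v := by
        have h1 : t * (a : M4) + (a : M4) * t = (-2 * (α : F)) • 1 := by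
          rw [ht, add_mul, mul_add, Matrix.smul_mul, Matrix.smul_mul, Matrix.mul_smul, Matrix.mul_smul, ha1, hba']
          module
        have h2' := congrArg (· *ᵥ v) h1
        simp only [Matrix.add_mulVec, ← Matrix.mulVec_mulVec, hvt, Matrix.smul_mulVec, Matrix.one_mulVec] at h2'
        rw [he1 _ hax', add_comm, h2', smul_smul]
        congr 1; ring
      have hvb : e *ᵥ ((b : M4) *ᵥ v) = (-4 * (β : F)) • v := by
        have h1 : t * (b : M4) + (b : M4) * t = (-2 * (β : F)) • 1 := by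
          rw [ht, add_mul, mul_add, Matrix.smul_mul, Matrix.smul_mul, Matrix.mul_smul, Matrix.mul_smul, hb1, hba']
          module
        have h2' := congrArg (· *ᵥ v) h1
        simp only [Matrix.add_mulVec, ← Matrix.mulVec_mulVec, hvt, Matrix.smul_mulVec, Matrix.one_mulVec] at h2'
        rw [he1 _ hbx, add_comm, h2', smul_smul]
        congr 1; ring
      have hvab : e *ᵥ (((a : M4) * (b : M4)) *ᵥ v) = (0 : F) • v := by
        have h2' := congrArg (· *ᵥ v) htab
        simp only [← Matrix.mulVec_mulVec, Matrix.neg_mulVec, hvt] at h2'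
        rw [he1 _ hxab, ← Matrix.mulVec_mulVec, h2', add_neg_cancel, smul_zero, zero_smul]
      have h4F : (4 : F) ∈ F₀ := natCast_mem F₀ 4
      have hmk : ∀ q : G4, q ∈ R → Com (q : M4) x → Com ((q⁻¹ * r : G4) : M4) a → Com ((q⁻¹ * r : G4) : M4) b →
          ∀ g : F, g ∈ F₀ → e *ᵥ ((q : M4) *ᵥ v) = g • v → ∃ g ∈ F₀, e *ᵥ ((r : M4) *ᵥ v) = g • v := by
        intro q hqR hqx hza hzb g hg hqv
        have hqi : Com ((q⁻¹ : G4) : M4) x := by
          rcases hR.inv_eq hqR with e' | e' <;> rw [e']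
          · exact hqx
          · unfold Com at *; rw [Units.val_neg, neg_mul, mul_neg, hqx]
        have := hq (q : M4) g hg hqv _
          (hz4 _ (R.mul_mem (R.inv_mem hqR) hr) (by rw [Units.val_mul]; exact com_mul hqi hrx) hza hzb) hqx
        rwa [← Units.val_mul, mul_inv_cancel_left] at this
      have hiv : ∀ {q c : G4}, q ∈ R → Anti (q : M4) c → Anti ((q⁻¹ : G4) : M4) c := by
        intro q c hqR hqc
        rcases hR.inv_eq hqR with e' | e' <;> rw [e']
        · exact hqc
        · unfold Anti at *; rw [Units.val_neg, neg_mul, mul_neg, hqc]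
      have hic : ∀ {q c : G4}, q ∈ R → Com (q : M4) c → Com ((q⁻¹ : G4) : M4) c := by
        intro q c hqR hqc
        rcases hR.inv_eq hqR with e' | e' <;> rw [e']
        · exact hqc
        · unfold Com at *; rw [Units.val_neg, neg_mul, mul_neg, hqc]
      have haa : Com (a : M4) a := rfl
      have hbb' : Com (b : M4) b := rfl
      rcases hR.comm r hr a ha with hra | hra <;> rcases hR.comm r hr b hb with hrb | hrb
      · exact hmk 1 R.one_mem (by simp [Com]) (by rw [inv_one, one_mul]; exact hra) (by rw [inv_one, one_mul]; exact hrb) 4 h4F (by simpa using hev)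
      · refine hmk a ha hax' ?_ ?_ _ (F₀.mul_mem (F₀.neg_mem h4F) hαF) hva
        · rw [Units.val_mul]; exact com_mul (hic ha haa) hra
        · rw [Units.val_mul]; exact anti_mul_anti (hiv ha hab) hrb
      · refine hmk b hb hbx ?_ ?_ _ (F₀.mul_mem (F₀.neg_mem h4F) hβF) hvb
        · rw [Units.val_mul]; exact anti_mul_anti (hiv hb hba) hra
        · rw [Units.val_mul]; exact com_mul (hic hb hbb') hrb
      · refine hmk (a * b) (R.mul_mem ha hb) (by rw [Units.val_mul]; exact hxab) ?_ ?_ 0 F₀.zero_mem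
          (by rw [Units.val_mul]; exact hvab)
        · rw [Units.val_mul]
          exact anti_mul_anti (hiv (R.mul_mem ha hb) (by rw [Units.val_mul]; exact com_mul_anti haa hba)) hra
        · rw [Units.val_mul]
          exact anti_mul_anti (hiv (R.mul_mem ha hb) (by rw [Units.val_mul]; exact anti_mul_com hab hbb')) hrb
    · refine ⟨0, F₀.zero_mem, ?_⟩
      have hxr : (x : M4) *ᵥ ((r : M4) *ᵥ v) = -((r : M4) *ᵥ v) := by
        rw [Matrix.mulVec_mulVec, show (x : M4) * r = -((r : M4) * x) from anti_symm hrx, Matrix.neg_mulVec,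
          ← Matrix.mulVec_mulVec, hvx]
      rw [he, ← Matrix.mulVec_mulVec, Matrix.add_mulVec, Matrix.one_mulVec, Matrix.add_mulVec 1 t,
        Matrix.one_mulVec, Matrix.mulVec_add, hxr, Matrix.mulVec_mulVec ((r : M4) *ᵥ v) _ t, ← htx,
        ← Matrix.mulVec_mulVec, hxr, Matrix.mulVec_neg, zero_smul]
      abel
  have habs' := hR.abs
  -- a vector killed by all the functionals vanishes
  have hsep : ∀ w : V, (∀ r ∈ R, e *ᵥ ((r : M4) *ᵥ w) = 0) → w = 0 := by
    intro w hw
    by_contra hw0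
    obtain ⟨l, hl⟩ : ∃ l, w l ≠ 0 := Function.ne_iff.mp hw0
    have hall : ∀ X : M4, e *ᵥ (X *ᵥ w) = 0 := fun X => by
      have hX := mem_span h2 hR X
      induction hX using Submodule.span_induction with
      | mem x hx => obtain ⟨s, hs, rfl⟩ := hx; exact hw s hs
      | zero => simp
      | add a b _ _ iha ihb => rw [Matrix.add_mulVec, Matrix.mulVec_add, iha, ihb, add_zero]
      | smul c a _ iha => rw [Matrix.smul_mulVec, Matrix.mulVec_smul, iha, smul_zero]
    have := hall (Matrix.vecMulVec v (Pi.single l (w l)⁻¹))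
    rw [Matrix.vecMulVec_mulVec, single_dotProduct, inv_mul_cancel₀ hl, MulOpposite.op_one, one_smul, hev] at this
    exact hv0 ((smul_eq_zero.mp this).resolve_left (four_ne h2))
  -- a basis in the orbit
  have htop : ⊤ ≤ Submodule.span F ((fun r : G4 => (r : M4) *ᵥ v) '' (R : Set G4)) := by
    intro u _
    obtain ⟨l, hl⟩ : ∃ l, v l ≠ 0 := Function.ne_iff.mp hv0
    have hall : ∀ X : M4, X *ᵥ v ∈ Submodule.span F ((fun r : G4 => (r : M4) *ᵥ v) '' (R : Set G4)) := fun X => by
      have hX := mem_span h2 hR X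
      induction hX using Submodule.span_induction with
      | mem x hx => obtain ⟨s, hs, rfl⟩ := hx; exact Submodule.subset_span ⟨s, hs, rfl⟩
      | zero => simp
      | add a b _ _ iha ihb => rw [Matrix.add_mulVec]; exact add_mem iha ihb
      | smul c a _ iha => rw [Matrix.smul_mulVec]; exact Submodule.smul_mem _ _ iha
    have := hall (Matrix.vecMulVec u (Pi.single l (v l)⁻¹))
    rwa [Matrix.vecMulVec_mulVec, single_dotProduct, inv_mul_cancel₀ hl, MulOpposite.op_one, one_smul] at this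
  obtain ⟨B, hB, hspan, hli⟩ := exists_linearIndependent F ((fun r : G4 => (r : M4) *ᵥ v) '' (R : Set G4))
  let bB : Module.Basis B F V := Module.Basis.mk hli (by
    rw [Subtype.range_coe_subtype, Set.ofPred_mem_eq, hspan]; exact htop)
  let bs : Module.Basis (Fin 2 ⊕ Fin 2) F V := bB.reindex (bB.indexEquiv (Pi.basisFun F _))
  have hbs : ∀ k, ∃ r ∈ R, (r : M4) *ᵥ v = bs k := by
    intro k
    obtain ⟨r, hr, hrv⟩ := hB ((bB.indexEquiv (Pi.basisFun F _)).symm k).2
    exact ⟨r, hr, hrv.trans (by simp [bs, bB])⟩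
  choose rk hrk hrkv using hbs
  set P : M4 := Matrix.of fun i k => bs k i with hP
  have hPu : IsUnit P := Matrix.linearIndependent_cols_iff_isUnit.mp bs.linearIndependent
  obtain ⟨U, hU⟩ := hPu
  have hPc : ∀ c : V, P *ᵥ c = ∑ k, c k • bs k := by
    intro c; ext i
    simp [hP, Matrix.mulVec, dotProduct, Finset.sum_apply, mul_comm]
  refine ⟨U⁻¹, ?_⟩
  rintro _ ⟨s, hs, rfl⟩ i k
  rw [inv_inv, hU]
  set c : V := fun i => (((U⁻¹ : G4) : M4) * (s : M4) * P) i k with hc
  show c i ∈ F₀
  have hPcs : P *ᵥ c = (s : M4) *ᵥ bs k := by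
    have h1 : c = (((U⁻¹ : G4) : M4) * (s : M4) * P) *ᵥ Pi.single k 1 := by
      rw [Matrix.mulVec_single_one]; rfl
    rw [h1, Matrix.mulVec_mulVec, ← mul_assoc, ← mul_assoc, ← hU, Units.mul_inv, one_mul, ← Matrix.mulVec_mulVec,
      hU, Matrix.mulVec_single_one]
    rfl
  obtain ⟨φ, hφ1, hφr, hφ⟩ := Cfsg.Agent.Lib.PrimeDim.FormDescent.exists_functional F₀ (one_ne_zero (α := F))
  have hfix : ∀ g ∈ F₀, φ g = g := fun g hg => by
    have := hφ g 1 hg
    rwa [one_mul, hφ1, one_mul] at this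
  have hd : P *ᵥ (fun l => φ (c l) - c l) = 0 := by
    refine hsep _ fun r hr => ?_
    choose g hgF hg using fun l => hval (r * rk l) (R.mul_mem hr (hrk l))
    obtain ⟨g0, hg0F, hg0⟩ := hval (r * (s * rk k)) (R.mul_mem hr (R.mul_mem hs (hrk k)))
    have hgen : ∀ d : V, e *ᵥ ((r : M4) *ᵥ (P *ᵥ d)) = (∑ l, d l * g l) • v := by
      intro d
      rw [hPc, Matrix.mulVec_sum, Matrix.mulVec_sum, Finset.sum_smul]
      refine Finset.sum_congr rfl fun l _ => ?_
      rw [Matrix.mulVec_smul, Matrix.mulVec_smul, ← hrkv, Matrix.mulVec_mulVec v (r : M4), ← Units.val_mul, hg, smul_smul]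
    have h1 : (∑ l, c l * g l) = g0 := by
      refine smul_left_injective F hv0 ?_
      show (∑ l, c l * g l) • v = g0 • v
      rw [← hgen, hPcs, ← hrkv, Matrix.mulVec_mulVec, Matrix.mulVec_mulVec, Matrix.mulVec_mulVec, ← hg0,
        Units.val_mul, Units.val_mul, Matrix.mulVec_mulVec]
      simp only [mul_assoc]
    have h2' : (∑ l, φ (c l) * g l) = g0 := by
      rw [← hfix g0 hg0F, ← h1, map_sum]
      exact Finset.sum_congr rfl fun l _ => (hφ _ _ (hgF l)).symm
    rw [hgen, Finset.sum_congr rfl fun l _ => sub_mul (φ (c l)) (c l) (g l), Finset.sum_sub_distrib, h1, h2',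
      sub_self, zero_smul]
  have h0 := congrArg (((U⁻¹ : G4) : M4) *ᵥ ·) hd
  simp only [Matrix.mulVec_mulVec, ← hU, Units.inv_mul, Matrix.one_mulVec, Matrix.mulVec_zero] at h0
  have := congrFun h0 i
  rw [Pi.zero_apply, sub_eq_zero] at this
  rw [← this]
  exact hφr _

theorem isBilinear : Cfsg.Geo.IsBilinearForm (Cfsg.sympForm 2 F) where
  add_left x y v := by simp only [← bb_apply, map_add, LinearMap.add_apply]
  smul_left c x v := by simp only [← bb_apply, map_smul, LinearMap.smul_apply, smul_eq_mul]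
  add_right v x y := by simp only [← bb_apply, map_add]
  smul_right c v x := by simp only [← bb_apply, map_smul, smul_eq_mul]

theorem isNondegenerate : Cfsg.Geo.IsNondegenerateForm (Cfsg.sympForm 2 F) := by
  intro v hv
  refine ⟨?_, ?_⟩ <;> by_contra hc <;> push Not at hc <;> apply hv
  · exact bb_ext fun u => by rw [bb_apply, hc, map_zero]
  · exact bb_ext' fun u => by rw [bb_apply, hc, map_zero, LinearMap.zero_apply]

theorem fixesForm (hsub : R ≤ S4) : Cfsg.Geo.FixesForm (Cfsg.Geo.matrixSet R) (Cfsg.sympForm 2 F) := by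
  rintro _ ⟨g, hg, rfl⟩ u v
  rw [← bb_apply, ← bb_apply, bb_iso (hsub hg)]

/-- A normalised group realisable over a proper subfield gives the subfield member. -/
theorem subfield_concl {H : Subgroup G4} (hH : Cfsg.Geo.IsMaximalIn S4 H) (hsub : R ≤ S4)
    (habs : Cfsg.Geo.ActsAbsolutelyIrreducibly (Cfsg.Geo.matrixSet R))
    {F₀ : Subfield F} (h0 : F₀ ≠ ⊤) (hreal : Cfsg.Geo.RealisableOver F₀ (Cfsg.Geo.matrixSet R))
    (hn : ∀ h ∈ H, ∀ x ∈ R, h * x * h⁻¹ ∈ R) : Concl H := by
  obtain ⟨F₁, r, h1, hr, hc, hre⟩ :=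
    Cfsg.Agent.Lib.PrimeDim.FormDescent.exists_prime_index_realisable h0 hreal
  obtain ⟨B, ζ, hζ, hrat, hmem⟩ := Cfsg.Agent.Lib.PrimeDim.FormDescent.exists_bilinear_structure
    isBilinear isNondegenerate habs (fixesForm hsub) hre
  refine Or.inr (Or.inr (Or.inr (Or.inr (Or.inr (Or.inl ⟨F₁, r, B, ζ, hr, ?_, hζ, hrat,
    eq_inf hH (fun h hh => hmem h (hn h hh)) (not_le_subfieldSubgroup h1 B)⟩)))))
  rw [← Nat.card_eq_fintype_card, hc]

theorem not_le_subgroupNormalizer (h2 : (2 : F) ≠ 0) (hsub : R ≤ S4) (hR : Pauli R) :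
    ¬ S4 ≤ Cfsg.Geo.subgroupNormalizer R := by
  intro hle
  obtain ⟨x, hx, hns, hx1⟩ := exists_involution h2 hsub hR
  have hax := adj_of_sq_one hsub hx hx1
  have hpar : ∀ w : V, ∃ c : F, (x : M4) *ᵥ w = c • w := by
    intro w
    rcases eq_or_ne w 0 with rfl | hw
    · exact ⟨0, by simp⟩
    set T := (stdAlt 2 F).trans w 1 with hT
    have hA : T * x * T⁻¹ * x⁻¹ ∈ R :=
      R.mul_mem ((Subgroup.mem_normalizer_iff.mp (hle (trans_mem w 1)) x).mp hx) (R.inv_mem hx)
    have hxinv : x⁻¹ = x := inv_eq_of_mul_eq_one_right (Units.ext (by rw [Units.val_mul, hx1]; rfl))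
    have hwx : bb ((x : M4) *ᵥ w) w = 0 := by
      have h := bb_swap ((x : M4) *ᵥ w) w
      conv_rhs at h => rw [adj_spec', hax]
      have : (2 : F) * bb ((x : M4) *ᵥ w) w = 0 := by linear_combination h
      exact (mul_eq_zero.mp this).resolve_left h2
    have hTi : ∀ u : V, ((T⁻¹ : G4) : M4) *ᵥ u = u - bb u w • w := by
      intro u
      have hTu : (T : M4) *ᵥ (u - bb u w • w) = u := by
        rw [hT, AltForm.trans_mulVec, map_sub, LinearMap.sub_apply, map_smul, LinearMap.smul_apply, bb_self,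
          smul_zero, sub_zero, one_mul, sub_add_cancel]
      conv_lhs => rw [← hTu]
      rw [Matrix.mulVec_mulVec, Units.inv_mul, Matrix.one_mulVec]
    have happ : ∀ u : V, ((T * x * T⁻¹ * x⁻¹ : G4) : M4) *ᵥ u =
        u + bb u w • w - bb u ((x : M4) *ᵥ w) • ((x : M4) *ᵥ w) := by
      intro u
      rw [hxinv]
      simp only [Units.val_mul, ← Matrix.mulVec_mulVec]
      rw [hTi, Matrix.mulVec_sub, Matrix.mulVec_smul, Matrix.mulVec_mulVec u (x : M4) (x : M4), hx1,
        Matrix.one_mulVec, hT, AltForm.trans_mulVec, one_mul, map_sub, LinearMap.sub_apply, map_smul,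
        LinearMap.smul_apply, hwx, smul_zero, sub_zero]
      rw [show bb ((x : M4) *ᵥ u) w = bb u ((x : M4) *ᵥ w) by rw [adj_spec, hax]]
      abel
    have hwx' : bb w ((x : M4) *ᵥ w) = 0 := by rw [bb_swap, hwx, neg_zero]
    have hfix : ((T * x * T⁻¹ * x⁻¹ : G4) : M4) *ᵥ w = w := by
      rw [happ, bb_self, hwx', zero_smul, zero_smul, add_zero, sub_zero]
    rcases hR.sq _ hA with h | h
    · obtain ⟨u, hu⟩ : ∃ u, bb u w = 1 := by
        obtain ⟨u, hu⟩ : ∃ u, bb u w ≠ 0 := by
          by_contra hc; push Not at hc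
          exact hw (bb_ext fun u => by rw [hc, map_zero])
        exact ⟨(bb u w)⁻¹ • u, by rw [map_smul, LinearMap.smul_apply, smul_eq_mul, inv_mul_cancel₀ hu]⟩
      have hh := congrArg (· *ᵥ u) h
      simp only [← Matrix.mulVec_mulVec, Matrix.one_mulVec] at hh
      rw [happ u, Matrix.mulVec_sub, Matrix.mulVec_add, Matrix.mulVec_smul, Matrix.mulVec_smul, hfix, happ,
        happ ((x : M4) *ᵥ w), hwx, bb_self, hu, zero_smul, zero_smul, add_zero, sub_zero, one_smul] at hh
      have h3 : (2 : F) • (w - bb u ((x : M4) *ᵥ w) • ((x : M4) *ᵥ w)) = 0 := by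
        rw [two_smul]
        calc w - bb u ((x : M4) *ᵥ w) • ((x : M4) *ᵥ w) + (w - bb u ((x : M4) *ᵥ w) • ((x : M4) *ᵥ w))
            = (u + w - bb u ((x : M4) *ᵥ w) • ((x : M4) *ᵥ w) + w -
                bb u ((x : M4) *ᵥ w) • ((x : M4) *ᵥ w)) - u := by abel
          _ = 0 := by rw [hh, sub_self]
      have h4 := sub_eq_zero.mp ((smul_eq_zero.mp h3).resolve_left h2)
      have hk : bb u ((x : M4) *ᵥ w) ≠ 0 := fun h0 => hw (by rw [h4, h0, zero_smul])
      exact ⟨(bb u ((x : M4) *ᵥ w))⁻¹, ((inv_smul_eq_iff₀ hk).mpr h4).symm⟩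
    · have hh := congrArg (· *ᵥ w) h
      simp only [← Matrix.mulVec_mulVec, hfix, Matrix.neg_mulVec, Matrix.one_mulVec] at hh
      exact absurd ((smul_eq_zero.mp (show (2 : F) • w = 0 by
        rw [two_smul]; exact eq_neg_iff_add_eq_zero.mp hh)).resolve_left h2) hw
  obtain ⟨u, hu⟩ : ∃ u, u + (x : M4) *ᵥ u ≠ 0 := by
    by_contra hc; push Not at hc
    exact hns ⟨-1, eq_of_mulVec_eq fun u => by
      rw [Matrix.smul_mulVec, Matrix.one_mulVec, neg_one_smul, eq_neg_iff_add_eq_zero, add_comm, hc]⟩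
  obtain ⟨w, hw⟩ : ∃ w, w - (x : M4) *ᵥ w ≠ 0 := by
    by_contra hc; push Not at hc
    exact hns ⟨1, eq_of_mulVec_eq fun w => by
      rw [Matrix.smul_mulVec, Matrix.one_mulVec, one_smul]; exact (sub_eq_zero.mp (hc w)).symm⟩
  set p := u + (x : M4) *ᵥ u
  set m := w - (x : M4) *ᵥ w
  have hp : (x : M4) *ᵥ p = p := by rw [Matrix.mulVec_add, Matrix.mulVec_mulVec, hx1, Matrix.one_mulVec, add_comm]
  have hm : (x : M4) *ᵥ m = -m := by rw [Matrix.mulVec_sub, Matrix.mulVec_mulVec, hx1, Matrix.one_mulVec, neg_sub]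
  obtain ⟨c, hc⟩ := hpar (p + m)
  rw [Matrix.mulVec_add, hp, hm] at hc
  have hc2 := congrArg ((x : M4) *ᵥ ·) hc
  simp only [Matrix.mulVec_add, Matrix.mulVec_neg, Matrix.mulVec_smul, hp, hm, neg_neg] at hc2
  have h5 : (1 - c) • p = 0 := by
    have : (2 : F) • ((1 - c) • p) = 0 := by
      calc (2 : F) • ((1 - c) • p) = (p + -m - c • (p + m)) + (p + m - c • (p + -m)) := by module
        _ = 0 := by rw [sub_eq_zero.mpr hc, sub_eq_zero.mpr hc2, add_zero]
    exact (smul_eq_zero.mp this).resolve_left h2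
  have hc1 : c = 1 := (sub_eq_zero.mp ((smul_eq_zero.mp h5).resolve_right hu)).symm
  rw [hc1, one_smul, add_right_inj, neg_eq_iff_add_eq_zero, ← two_smul F] at hc
  exact hw ((smul_eq_zero.mp hc).resolve_left h2)

/-- A normalised group of symplectic type gives a member of the list. -/
theorem pauli_concl (hodd : Odd (Fintype.card F)) {H : Subgroup G4} (hH : Cfsg.Geo.IsMaximalIn S4 H)
    (hsub : R ≤ S4) (hR : Pauli R) (hn : ∀ h ∈ H, ∀ x ∈ R, h * x * h⁻¹ ∈ R) : Concl H := by
  have h2 := two_ne hodd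
  have habs := irreducible h2 hR
  by_cases hbot : (⊥ : Subfield F) = ⊤
  · obtain ⟨p, hp⟩ := CharP.exists F
    haveI := hp
    haveI : Fact p.Prime := ⟨CharP.char_is_prime F p⟩
    refine Or.inr (Or.inr (Or.inr (Or.inr (Or.inr (Or.inr (Or.inl ⟨p, R, Fact.out, ?_,
      symplecticType h2 hsub hR, habs, ?_, card_eq h2 hsub hR, card_center h2 hsub hR, isOfMinusType h2 hsub,
      eq_inf hH ?_ (not_le_subgroupNormalizer h2 hsub hR)⟩))))))
    · have h1 : Nat.card (⊥ : Subfield F) = p := Subfield.card_bot (F := F) (p := p)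
      rw [hbot] at h1
      rw [← Nat.card_eq_fintype_card, ← h1]
      exact (Nat.card_congr (Subfield.topEquiv (K := F)).toEquiv).symm
    · intro g hg
      exact ⟨1, fun u v => by rw [Units.val_one, one_mul, ← bb_apply, ← bb_apply, bb_iso (hsub hg)]⟩
    · intro h hh
      refine Subgroup.mem_normalizer_iff.mpr fun x => ⟨hn h hh x, fun hx => ?_⟩
      have := hn h⁻¹ (H.inv_mem hh) _ hx
      simpa [mul_assoc] using this
  · exact subfield_concl hH hsub habs hbot (realisable h2 hsub hR ⊥) hn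

end Cfsg.Agent.Lib.SpFourOdd
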