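import Cfsg.Agent.Lib.SpFourOdd.Clifford
import Cfsg.Agent.Lib.SpFourOdd.Outcome
import Cfsg.Agent.Lib.SpFourOdd.PauliConcl
import Cfsg.Agent.Lib.SympTwoPrime.Forms
import Cfsg.Agent.Lib.TwoPrimeDim.Core

/-!
Every maximal subgroup of `Sp_4(q)`, `q` odd, is on the list.
-/

set_option autoImplicit false
set_option linter.unusedSectionVars false
set_option maxHeartbeats 1000000

namespace Cfsg.Agent.Lib.SpFourOdd

open Matrix Cfsg.Agent.Lib.MaxSub
open scoped commutatorElement

variable {F : Type*} [Field F] [Fintype F]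

local notation "V" => (Fin 2 ⊕ Fin 2 → F)
local notation "M4" => Matrix (Fin 2 ⊕ Fin 2) (Fin 2 ⊕ Fin 2) F
local notation "G4" => GL (Fin 2 ⊕ Fin 2) F
local notation "S4" => Cfsg.spGL 2 F
local notation "ZZ" => Cfsg.Geo.scalars (Fin 2 ⊕ Fin 2) F

theorem isScal_iff {g : G4} : g ∈ ZZ ↔ IsScal (g : M4) :=
  ⟨fun h => let ⟨c, hc⟩ := (Cfsg.Geo.mem_scalars_iff g).mp h; ⟨c, hc⟩, fun ⟨c, hc⟩ =>
    Cfsg.Agent.Lib.KnownA.PrimeDim.mem_scalars_of_matrix (by simp) hc⟩

theorem exists_nonscal {N : Subgroup G4} (hns : ¬ N ≤ ZZ) : ∃ x ∈ N, ¬ IsScal (x : M4) := by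
  by_contra h
  push Not at h
  exact hns fun x hx => isScal_iff.mpr (h x hx)

/-- Every maximal subgroup is on the list. -/
theorem maximal_cases (hodd : Odd (Fintype.card F)) {H : Subgroup (GL (Fin 2 ⊕ Fin 2) F)}
    (hH : Cfsg.Geo.IsMaximalIn S4 H) : Concl H := by
  classical
  by_cases hirr : Cfsg.Geo.ActsIrreducibly (Cfsg.Geo.matrixSet H)
  swap
  · rw [Cfsg.Agent.Lib.TwoPrimeDim.actsIrreducibly_iff] at hirr
    push Not at hirr
    obtain ⟨W, hW, h0, h1⟩ := hirr
    exact reducible hodd hH W hW h0 h1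
  by_cases hinv : HasInv2 H
  · exact outcome hodd hH hinv
  have hHs : H ≤ S4 := hH.1.le
  have hHns : ¬ H ≤ ZZ := by
    intro hle
    let v : V := Pi.single (Sum.inl 0) 1
    have hv : v ≠ 0 := by simp [v]
    rcases (Cfsg.Agent.Lib.TwoPrimeDim.actsIrreducibly_iff H).mp hirr (Submodule.span F {v}) fun g hg w hw => by
        obtain ⟨c, hc⟩ := isScal_iff.mp (hle hg)
        rw [hc, Matrix.smul_mulVec, Matrix.one_mulVec]
        exact Submodule.smul_mem _ _ hw with h | h
    · rw [Submodule.span_singleton_eq_bot] at h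
      exact hv h
    · have h1 := finrank_span_singleton (K := F) hv
      rw [h, finrank_top, finrank_V] at h1
      omega
  obtain ⟨N, hNH, hNn, hNs, hmin⟩ := Cfsg.Agent.Lib.TwoPrimeDim.exists_minimal
    (H := H) (N₀ := H) (fun h hh x hx => H.mul_mem (H.mul_mem hh hx) (H.inv_mem hh)) hHns
  have habs : Cfsg.Geo.ActsAbsolutelyIrreducibly (Cfsg.Geo.matrixSet N) :=
    (clifford hodd hHs hirr hNH hNn (exists_nonscal hNs)).resolve_left hinv
  have hn4 : 0 < Fintype.card (Fin 2 ⊕ Fin 2) := by simp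
  by_cases hcl : ⁅N, N⁆ ≤ ZZ
  · -- class two
    have hpm : ∀ x ∈ N, ∀ y ∈ N, (x : M4) * y = y * x ∨ (x : M4) * y = -((y : M4) * x) := by
      intro x hx y hy
      have hc' := Subgroup.commutator_mem_commutator hx hy
      have e : x * y = ⁅x, y⁆ * (y * x) := by rw [commutatorElement_def]; group
      rcases scal_iso (hHs (hNH (Subgroup.commutator_le_self N hc'))) (isScal_iff.mp (hcl hc')) with h | h <;>
        rw [h] at e
      · rw [one_mul] at e; exact Or.inl (congrArg Units.val e)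
      · right; have := congrArg Units.val e; simpa using this
    have hsq : ∀ x ∈ N, (x : M4) * x = 1 ∨ (x : M4) * x = -1 := by
      intro x hx
      obtain ⟨r, hr⟩ := habs.2 ((x : M4) * x) (by
        rintro _ ⟨y, hy, rfl⟩
        rcases hpm x hx y hy with h | h
        · rw [mul_assoc, h, ← mul_assoc, h, mul_assoc]
        · rw [mul_assoc, h, mul_neg, ← mul_assoc, h, neg_mul, neg_neg, mul_assoc])
      have hsc : IsScal ((x * x : G4) : M4) := ⟨r, by rw [Units.val_mul]; exact hr⟩
      rcases scal_iso (hHs (hNH (N.mul_mem hx hx))) hsc with h | h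
      · exact Or.inl (by rw [← Units.val_mul, h, Units.val_one])
      · exact Or.inr (by rw [← Units.val_mul, h, Units.val_neg, Units.val_one])
    refine pauli_concl hodd hH (hNH.trans hHs) (pauli_of_sq hsq fun X hX => ?_) hNn
    exact habs.2 X (by rintro _ ⟨y, hy, rfl⟩; exact hX y hy)
  -- the residual case
  have hperf : ⁅N, N⁆ = N :=
    (hmin _ (Subgroup.commutator_le_self N) (Cfsg.Agent.Lib.TwoPrimeDim.normalisedBy_commutator hNn)).resolve_left hcl
  have hsimple : ∀ M₀ : Subgroup G4, M₀ ≤ N → Cfsg.Agent.Lib.TwoPrimeDim.NormalisedBy N M₀ → ¬ M₀ ≤ ZZ → M₀ = N := by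
    intro M₀ hM₀N hM₀ hM₀s
    obtain ⟨M, hMM₀, hMn, hMs, hMmin⟩ := Cfsg.Agent.Lib.TwoPrimeDim.exists_minimal hM₀ hM₀s
    suffices M = N from le_antisymm hM₀N (this ▸ hMM₀)
    have hMN : M ≤ N := hMM₀.trans hM₀N
    by_contra hne
    have hMperf := Cfsg.Agent.Lib.TwoPrimeDim.factor_perfect hNn hmin hperf hMN hMn hMs hMmin
    obtain ⟨C, h₀, hsup, hcomm, hh₀, hM'C⟩ :=
      Cfsg.Agent.Lib.TwoPrimeDim.exists_factors hNn hmin hMN hMn hMs hMperf hMmin hne
    rcases clifford hodd (hNH.trans hHs) habs.1 hMN hMn (exists_nonscal hMs) with ⟨s, hs, -, -, hsc⟩ | hM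
    · -- a perfect absolutely irreducible group normalises no element up to sign
      apply hs
      have hcom : ∀ x ∈ ⁅N, N⁆, (x : M4) * s = s * x := by
        intro x hx
        induction hx using Subgroup.closure_induction with
        | mem v hv =>
          obtain ⟨a, ha, b, hb, rfl⟩ := hv
          have hinv' : ∀ g ∈ N, ∃ e : F, (e = 1 ∨ e = -1) ∧ (g : M4) * s = e • (s * g) ∧
              ((g⁻¹ : G4) : M4) * s = e • (s * ((g⁻¹ : G4) : M4)) := by
            intro g hg
            rcases hsc g hg with h | h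
            · refine ⟨1, Or.inl rfl, by rw [one_smul]; exact h, ?_⟩
              rw [one_smul]
              have := congrArg (fun M : M4 => ((g⁻¹ : G4) : M4) * M * ((g⁻¹ : G4) : M4)) h
              simpa [mul_assoc] using this.symm
            · refine ⟨-1, Or.inr rfl, by rw [neg_one_smul]; exact h, ?_⟩
              rw [neg_one_smul]
              have := congrArg (fun M : M4 => ((g⁻¹ : G4) : M4) * M * ((g⁻¹ : G4) : M4)) h
              simp [mul_assoc] at this
              simp [Matrix.coe_units_inv, this]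
          obtain ⟨ea, hea, ha1, ha2⟩ := hinv' a ha
          obtain ⟨eb, heb, hb1, hb2⟩ := hinv' b hb
          rw [commutatorElement_def, Units.val_mul, Units.val_mul, Units.val_mul]
          have hmul : ∀ {X Y : M4} {e f : F}, X * s = e • (s * X) → Y * s = f • (s * Y) →
              X * Y * s = (e * f) • (s * (X * Y)) := fun {X Y e f} hX hY => by
            rw [mul_assoc, hY, Matrix.mul_smul, ← mul_assoc, hX, Matrix.smul_mul, smul_smul, mul_assoc, mul_comm f e]
          rw [hmul (hmul (hmul ha1 hb1) ha2) hb2]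
          rcases hea with rfl | rfl <;> rcases heb with rfl | rfl <;> simp
        | one => simp
        | mul u v _ _ iu iv => rw [Units.val_mul, mul_assoc, iv, ← mul_assoc, iu, mul_assoc]
        | inv u _ iu => exact (Commute.units_inv_left (show Commute (u : M4) s from iu)).eq
      exact habs.2 s (by rintro _ ⟨x, hx, rfl⟩; exact (hcom x (hperf.symm ▸ hx)).symm)
    · -- the other factors would be scalar
      refine hMs fun x hx => ?_
      have hc : h₀ * x * h₀⁻¹ ∈ C := hM'C ((Cfsg.Agent.Lib.TwoPrimeDim.mem_conjBy _ _).mpr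
        (by simpa [mul_assoc] using hx))
      have hz := Cfsg.Agent.Lib.TwoPrimeDim.mem_scalars_of_commute hn4 hM (hcomm _ hc)
      have := (Cfsg.Geo.scalars_normal (ι := Fin 2 ⊕ Fin 2) (F := F)).conj_mem _ hz h₀⁻¹
      simpa [mul_assoc] using this
  have hnt : ∃ x : N, (x : G4) ∉ ZZ := by
    by_contra h
    push Not at h
    exact hNs fun x hx => h ⟨x, hx⟩
  have hsimp : IsSimpleGroup (N ⧸ (ZZ).subgroupOf N) := by
    haveI : Nontrivial (N ⧸ (ZZ).subgroupOf N) := by
      obtain ⟨x, hx⟩ := hnt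
      exact ⟨⟨(x : N ⧸ (ZZ).subgroupOf N), 1, fun h => hx ((QuotientGroup.eq_one_iff x).mp h)⟩⟩
    refine ⟨fun K hK => ?_⟩
    set q := QuotientGroup.mk' ((ZZ).subgroupOf N)
    set M₀ := (K.comap q).map N.subtype
    by_cases h : M₀ ≤ ZZ
    · left
      rw [← Subgroup.map_comap_eq_self_of_surjective (QuotientGroup.mk'_surjective _) K, Subgroup.map_eq_bot_iff,
        QuotientGroup.ker_mk']
      exact fun x hx => Subgroup.mem_subgroupOf.mpr (h ⟨x, hx, rfl⟩)
    · right
      have hM₀ : M₀ = N := hsimple M₀ (Subgroup.map_subtype_le _)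
        (Cfsg.Agent.Lib.TwoPrimeDim.normalisedBy_map_subtype (hK.comap q)) h
      refine eq_top_iff.mpr fun z _ => ?_
      obtain ⟨x, rfl⟩ := QuotientGroup.mk'_surjective _ z
      obtain ⟨y, hy, e⟩ := Subgroup.mem_map.mp (hM₀.ge x.2)
      obtain rfl : y = x := Subtype.ext e
      exact hy
  have hnab : ¬ IsMulCommutative (N ⧸ (ZZ).subgroupOf N) := by
    intro hc
    refine hcl (Subgroup.commutator_le.mpr fun a ha b hb => ?_)
    have h : (QuotientGroup.mk' ((ZZ).subgroupOf N)) ⁅(⟨a, ha⟩ : N), ⟨b, hb⟩⁆ = 1 := by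
      rw [map_commutatorElement, commutatorElement_eq_one_iff_mul_comm]
      exact hc.is_comm.comm _ _
    have h' := Subgroup.mem_subgroupOf.mp ((QuotientGroup.eq_one_iff _).mp h)
    simpa [commutatorElement_def] using h'
  have hcent : ∀ h ∈ H, (∀ x ∈ N, h * x * h⁻¹ * x⁻¹ ∈ ZZ) → h ∈ ZZ := fun h _ hh =>
    Cfsg.Agent.Lib.TwoPrimeDim.mem_scalars_of_commute hn4 habs
      (Cfsg.Agent.Lib.TwoPrimeDim.commute_of_perfect hperf hh)
  rcases Cfsg.Agent.Lib.SympTwoPrime.forms (m := 2) le_rfl hH hNH hNn hperf hsimp hnab hcent habs with h | h | h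
  · exact Or.inr (Or.inr (Or.inr (Or.inr (Or.inr (Or.inl h)))))
  · exact absurd hodd h.1
  · exact Or.inr (Or.inr (Or.inr (Or.inr (Or.inr (Or.inr (Or.inr h))))))

end Cfsg.Agent.Lib.SpFourOdd
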