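import Cfsg.Agent.Lib.SpFourOdd.Invol
import Cfsg.Agent.Lib.SympFour.Basic
import Cfsg.Agent.Lib.PrimeDim.FormDescent

/-!
Groups of symplectic type of order 32 inside `Sp_4` in odd characteristic: structure, minus type, realisation
over every subfield, and the resulting members of the list.
-/

set_option autoImplicit false

namespace Cfsg.Agent.Lib.SpFourOdd

open Matrix Cfsg.Agent.Lib.MaxSub Cfsg.Agent.Lib.SympFour

variable {F : Type*} [Field F] [Fintype F]

local notation "V" => (Fin 2 ⊕ Fin 2 → F)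
local notation "M4" => Matrix (Fin 2 ⊕ Fin 2) (Fin 2 ⊕ Fin 2) F
local notation "G4" => GL (Fin 2 ⊕ Fin 2) F
local notation "S4" => Cfsg.spGL 2 F
local notation "bb" => AltForm.B (stdAlt 2 F)

/-- Commutation. -/
def Com (a b : M4) : Prop := a * b = b * a

/-- Anticommutation. -/
def Anti (a b : M4) : Prop := a * b = -(b * a)

omit [Fintype F] in
theorem anti_symm {a b : M4} (h : Anti a b) : Anti b a := by
  unfold Anti at *; rw [h, neg_neg]

omit [Fintype F] in
theorem com_mul {a b c : M4} (h1 : Com a c) (h2 : Com b c) : Com (a * b) c := by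
  unfold Com at *; rw [mul_assoc, h2, ← mul_assoc, h1, mul_assoc]

omit [Fintype F] in
theorem anti_mul_anti {a b c : M4} (h1 : Anti a c) (h2 : Anti b c) : Com (a * b) c := by
  unfold Com Anti at *; rw [mul_assoc, h2, mul_neg, ← mul_assoc, h1, neg_mul, neg_neg, mul_assoc]

omit [Fintype F] in
theorem com_mul_anti {a b c : M4} (h1 : Com a c) (h2 : Anti b c) : Anti (a * b) c := by
  unfold Com Anti at *; rw [mul_assoc, h2, mul_neg, ← mul_assoc, h1, mul_assoc]

omit [Fintype F] in
theorem anti_mul_com {a b c : M4} (h1 : Anti a c) (h2 : Com b c) : Anti (a * b) c := by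
  unfold Com Anti at *; rw [mul_assoc, h2, ← mul_assoc, h1, neg_mul, mul_assoc]

omit [Fintype F] in
theorem not_both (h2 : (2 : F) ≠ 0) {a b : G4} (hc : Com (a : M4) b) (ha : Anti (a : M4) b) : False := by
  unfold Com Anti at *
  have h : (2 : F) • ((a * b : G4) : M4) = 0 := by
    rw [two_smul, Units.val_mul]
    nth_rewrite 2 [ha]
    rw [← hc, add_neg_cancel]
  exact (a * b).ne_zero ((smul_eq_zero.mp h).resolve_left h2)

variable {R : Subgroup (GL (Fin 2 ⊕ Fin 2) F)}

omit [Fintype F] in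
theorem adj_of_sq_one (hsub : R ≤ S4) {s : G4} (hs : s ∈ R) (h : (s : M4) * s = 1) : adj (s : M4) = s := by
  rw [adj_iso (hsub hs)]
  exact congrArg Units.val (inv_eq_of_mul_eq_one_right (Units.ext (by rw [Units.val_mul, h]; rfl)))

omit [Fintype F] in
theorem adj_of_sq_neg (hsub : R ≤ S4) {s : G4} (hs : s ∈ R) (h : (s : M4) * s = -1) :
    adj (s : M4) = -(s : M4) := by
  rw [adj_iso (hsub hs)]
  exact congrArg Units.val
    (inv_eq_of_mul_eq_one_right (b := -s) (Units.ext (by rw [Units.val_mul, Units.val_neg, mul_neg, h, neg_neg]; rfl)))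

omit [Fintype F] in
theorem isScal_pm (hsub : R ≤ S4) {s : G4} (hs : s ∈ R) (h : IsScal (s : M4)) : s = 1 ∨ s = -1 :=
  scal_iso (hsub hs) h

omit [Fintype F] in
theorem scal_of_pm {s : G4} (h : s = 1 ∨ s = -1) : IsScal (s : M4) := by
  rcases h with rfl | rfl
  · exact ⟨1, by simp⟩
  · exact ⟨-1, by simp⟩

/-- The relations follow from the squares. -/
theorem pauli_of_sq (hsq : ∀ s ∈ R, (s : M4) * s = 1 ∨ (s : M4) * s = -1)
    (habs : ∀ X : M4, (∀ s ∈ R, X * s = (s : M4) * X) → ∃ c : F, X = c • 1) : Pauli R := by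
  have hinv : ∀ s ∈ R, ((s⁻¹ : G4) : M4) = s ∨ ((s⁻¹ : G4) : M4) = -(s : M4) := by
    intro s hs
    rcases hsq s hs with h | h
    · exact Or.inl (congrArg Units.val (inv_eq_of_mul_eq_one_right (Units.ext (by rw [Units.val_mul, h]; rfl))))
    · exact Or.inr (congrArg Units.val (inv_eq_of_mul_eq_one_right (b := -s)
        (Units.ext (by rw [Units.val_mul, Units.val_neg, mul_neg, h, neg_neg]; rfl))))
  have hcomm : ∀ s ∈ R, ∀ t ∈ R, (s : M4) * t = t * s ∨ (s : M4) * t = -((t : M4) * s) := by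
    intro s hs t ht
    have h1 := hinv _ (R.mul_mem hs ht)
    rw [_root_.mul_inv_rev, Units.val_mul, Units.val_mul] at h1
    rcases hinv s hs with a | a <;> rcases hinv t ht with b | b <;> rw [a, b] at h1 <;>
      (try simp only [neg_mul, mul_neg, neg_neg] at h1) <;> rcases h1 with h1 | h1
    · exact Or.inl h1.symm
    · exact Or.inr (by rw [h1, neg_neg])
    · exact Or.inr h1.symm
    · exact Or.inl (neg_injective h1).symm
    · exact Or.inr h1.symm
    · exact Or.inl (neg_injective h1).symm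
    · exact Or.inl h1.symm
    · exact Or.inr (by rw [h1, neg_neg])
  refine ⟨hsq, hcomm, habs, ?_, inferInstance⟩
  by_contra hn
  have hall : ∀ s ∈ R, (s : M4) * s = 1 := fun s hs => (hsq s hs).resolve_right fun h =>
    hn (by rw [show (-1 : G4) = s * s from Units.ext (by rw [Units.val_mul, h]; rfl)]; exact R.mul_mem hs hs)
  have hcom : ∀ s ∈ R, ∀ t ∈ R, (s : M4) * t = t * s := by
    intro s hs t ht
    have h0 : ∀ u ∈ R, u⁻¹ = u := fun u hu =>
      inv_eq_of_mul_eq_one_right (Units.ext (by rw [Units.val_mul, hall u hu]; rfl))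
    have h1 := h0 _ (R.mul_mem hs ht)
    rw [_root_.mul_inv_rev, h0 s hs, h0 t ht] at h1
    simpa using congrArg Units.val h1.symm
  have hscal : ∀ s ∈ R, ∃ c : F, (s : M4) = c • 1 := fun s hs => habs _ fun t ht => hcom s hs t ht
  obtain ⟨c, hc⟩ := habs (Matrix.single (Sum.inl 0) (Sum.inl 1) 1) fun s hs => by
    obtain ⟨a, ha⟩ := hscal s hs
    rw [ha]; simp
  have := congrFun (congrFun hc (Sum.inl 0)) (Sum.inl 1)
  simp at this

theorem four_ne (h2 : (2 : F) ≠ 0) : (4 : F) ≠ 0 := by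
  rw [show (4 : F) = 2 * 2 by norm_num]; exact mul_ne_zero h2 h2

theorem card_ne_zero (h2 : (2 : F) ≠ 0) (hR : Pauli R) : ((Nat.card R : ℕ) : F) ≠ 0 := by
  have hp : IsPGroup 2 R := fun g => ⟨2, Subtype.ext (Units.ext (by
    rcases hR.sq g g.2 with h | h <;>
      simp [pow_succ, Units.val_mul, mul_assoc, h]))⟩
  haveI : Fact (Nat.Prime 2) := ⟨Nat.prime_two⟩
  obtain ⟨n, hn⟩ := IsPGroup.iff_card.mp hp
  rw [hn, Nat.cast_pow]
  exact pow_ne_zero _ h2

/-- The elements span the matrix algebra. -/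
theorem mem_span (h2 : (2 : F) ≠ 0) (hR : Pauli R) (X : M4) :
    X ∈ Submodule.span F ((fun s : G4 => (s : M4)) '' (R : Set G4)) := by
  letI := @Fintype.ofFinite R hR.fin
  have hY : (∑ s : R, Matrix.trace (X * (((s : G4)⁻¹ : G4) : M4)) • ((s : G4) : M4)) =
      ((Nat.card R : F) / 4) • X := by
    ext a b
    have key : ∀ c d, (∑ s : R, ((s : G4) : M4) a b * (((s : G4)⁻¹ : G4) : M4) c d) =
        if b = c ∧ a = d then (Nat.card R : F) / 4 else 0 := by
      intro c d
      obtain ⟨κ, h1, h2'⟩ := hR.sum_conj (Matrix.single b c 1) (Sum.inl 0)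
      have h3 := congrFun (congrFun h1 a) d
      rw [Matrix.sum_apply] at h3
      have h4 : (Fintype.card (Fin 2 ⊕ Fin 2) : F) = 4 := by simp
      rw [h4] at h2'
      convert h3 using 1
      · refine Finset.sum_congr (by simp) fun s _ => ?_
        simp [Matrix.mul_apply, Matrix.single_apply, ite_and, Finset.sum_ite_eq]
      · rcases eq_or_ne b c with rfl | hbc
        · rw [Matrix.trace_single_eq_same, mul_one] at h2'
          have : κ = (Nat.card R : F) / 4 := by
            rw [eq_div_iff (four_ne h2), mul_comm, h2']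
          rw [this]
          rcases eq_or_ne a d with rfl | had <;> simp [*]
        · rw [Matrix.trace_single_eq_of_ne _ _ _ hbc, mul_zero] at h2'
          simp [(mul_eq_zero.mp h2').resolve_left (four_ne h2), hbc]
    rw [Matrix.sum_apply, Matrix.smul_apply, smul_eq_mul]
    calc (∑ s : R, (Matrix.trace (X * (((s : G4)⁻¹ : G4) : M4)) • ((s : G4) : M4)) a b)
        = ∑ d, ∑ c, X d c * ∑ s : R, ((s : G4) : M4) a b * (((s : G4)⁻¹ : G4) : M4) c d := by
          simp only [Matrix.smul_apply, smul_eq_mul, Matrix.trace, Matrix.diag_apply, Matrix.mul_apply,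
            Finset.sum_mul, Finset.mul_sum]
          rw [Finset.sum_comm]
          refine Finset.sum_congr rfl fun d _ => ?_
          rw [Finset.sum_comm]
          exact Finset.sum_congr rfl fun c _ => Finset.sum_congr rfl fun s _ => by ring
      _ = _ := by
          simp only [key, ite_and, mul_ite, mul_zero, Finset.sum_ite_eq, Finset.mem_univ, if_true]
          rw [mul_comm]
  have hk : ((Nat.card R : F) / 4) ≠ 0 := div_ne_zero (card_ne_zero h2 hR) (four_ne h2)
  rw [← inv_smul_smul₀ hk X, ← hY]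
  exact Submodule.smul_mem _ _ (Submodule.sum_mem _ fun s _ =>
    Submodule.smul_mem _ _ (Submodule.subset_span ⟨s, s.2, rfl⟩))

theorem center_iff (hsub : R ≤ S4) (hR : Pauli R) (g : R) :
    g ∈ Subgroup.center R ↔ ((g : G4) = 1 ∨ (g : G4) = -1) := by
  constructor
  · intro hg
    refine isScal_pm hsub g.2 (hR.abs _ fun s hs => ?_)
    simpa using congrArg (fun y : R => ((y : G4) : M4)) (Subgroup.mem_center_iff.mp hg ⟨s, hs⟩).symm
  · intro hg
    refine Subgroup.mem_center_iff.mpr fun t => Subtype.ext ?_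
    rcases hg with h | h <;> simp [h]

theorem card_center (h2 : (2 : F) ≠ 0) (hsub : R ≤ S4) (hR : Pauli R) :
    Nat.card (Subgroup.center R) = 2 := by
  have hne : (⟨1, R.one_mem⟩ : R) ≠ ⟨-1, hR.negmem⟩ := fun h => by
    have := congrArg (fun y : R => ((y : G4) : M4) (Sum.inl 0) (Sum.inl 0)) h
    simp at this
    exact h2 (by linear_combination this)
  rw [← SetLike.coe_sort_coe, Nat.card_coe_set_eq,
    show ((Subgroup.center R : Subgroup R) : Set R) = {⟨1, R.one_mem⟩, ⟨-1, hR.negmem⟩} from Set.ext fun g => by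
      rw [SetLike.mem_coe, center_iff hsub hR, Set.mem_insert_iff, Set.mem_singleton_iff]
      exact or_congr (by rw [Subtype.ext_iff]) (by rw [Subtype.ext_iff]),
    Set.ncard_pair hne]

/-- A Pauli group in `Sp_4` has order 32. -/
theorem card_eq (h2 : (2 : F) ≠ 0) (hsub : R ≤ S4) (hR : Pauli R) : Nat.card R = 32 := by
  classical
  haveI := hR.fin
  letI := Fintype.ofFinite (R ⧸ Subgroup.center R)
  let v : R ⧸ Subgroup.center R → M4 := fun q => ((q.out : G4) : M4)
  have htr : ∀ q q' : R ⧸ Subgroup.center R, q' ≠ q →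
      Matrix.trace ((((q.out : G4)⁻¹ : G4) : M4) * v q') = 0 := by
    intro q q' hne
    rw [← Units.val_mul]
    refine hR.trace_eq_zero h2 (R.mul_mem (R.inv_mem q.out.2) q'.out.2) fun hs => hne ?_
    have hm : (q.out)⁻¹ * q'.out ∈ Subgroup.center R :=
      (center_iff hsub hR _).mpr (isScal_pm hsub (R.mul_mem (R.inv_mem q.out.2) q'.out.2) hs)
    rw [← QuotientGroup.out_eq' q, ← QuotientGroup.out_eq' q']
    exact (QuotientGroup.eq.mpr hm).symm
  have hli : LinearIndependent F v := by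
    refine Fintype.linearIndependent_iff.mpr fun g hg q => ?_
    have := congrArg (fun Y => Matrix.trace ((((q.out : G4)⁻¹ : G4) : M4) * Y)) hg
    simp only [Finset.mul_sum, Matrix.trace_sum, Matrix.mul_smul, Matrix.trace_smul, mul_zero,
      Matrix.trace_zero] at this
    rw [Finset.sum_eq_single q (fun q' _ hne => by rw [htr q q' hne, smul_zero])
      (fun h => absurd (Finset.mem_univ _) h), Units.inv_mul, Matrix.trace_one, smul_eq_mul] at this
    simp only [Fintype.card_sum, Fintype.card_fin, Nat.reduceAdd, Nat.cast_ofNat] at this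
    exact (mul_eq_zero.mp this).resolve_right (four_ne h2)
  have hsp : ⊤ ≤ Submodule.span F (Set.range v) := by
    intro X _
    refine Submodule.span_le.mpr ?_ (mem_span h2 hR X)
    rintro _ ⟨s, hs, rfl⟩
    have hm := QuotientGroup.eq.mp (QuotientGroup.out_eq' ((⟨s, hs⟩ : R) : R ⧸ Subgroup.center R))
    set q : R ⧸ Subgroup.center R := ((⟨s, hs⟩ : R) : R ⧸ Subgroup.center R)
    rcases (center_iff hsub hR _).mp hm with h | h
    · rw [Subgroup.coe_mul, Subgroup.coe_inv, inv_mul_eq_one] at h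
      have : v q = (s : M4) := congrArg Units.val h
      show (s : M4) ∈ Submodule.span F (Set.range v)
      rw [← this]
      exact Submodule.subset_span ⟨_, rfl⟩
    · rw [Subgroup.coe_mul, Subgroup.coe_inv, inv_mul_eq_iff_eq_mul] at h
      have : (s : M4) = -v q := by
        have h' : s = (q.out : G4) * (-1) := h
        rw [h']; simp [v]
      show (s : M4) ∈ Submodule.span F (Set.range v)
      exact this ▸ Submodule.neg_mem _ (Submodule.subset_span ⟨_, rfl⟩)
  have hb := Module.finrank_eq_card_basis (Module.Basis.mk hli hsp)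
  rw [Module.finrank_matrix, Module.finrank_self] at hb
  rw [Subgroup.card_eq_card_quotient_mul_card_subgroup (Subgroup.center R), card_center h2 hsub hR,
    Nat.card_eq_fintype_card, ← hb]
  simp

theorem irreducible (h2 : (2 : F) ≠ 0) (hR : Pauli R) :
    Cfsg.Geo.ActsAbsolutelyIrreducibly (Cfsg.Geo.matrixSet R) := by
  refine ⟨fun W hW => ?_, fun X hX => hR.abs X fun s hs => hX _ ⟨s, hs, rfl⟩⟩
  by_cases h0 : W = ⊥
  · exact Or.inl h0
  refine Or.inr (Submodule.eq_top_iff'.mpr fun u => ?_)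
  obtain ⟨w, hw, hw0⟩ := (Submodule.ne_bot_iff W).mp h0
  obtain ⟨l, hl⟩ : ∃ l, w l ≠ 0 := Function.ne_iff.mp hw0
  have hall : ∀ X : M4, X *ᵥ w ∈ W := fun X => by
    have hX := mem_span h2 hR X
    induction hX using Submodule.span_induction with
    | mem x hx =>
      obtain ⟨s, hs, rfl⟩ := hx
      exact hW _ ⟨s, hs, rfl⟩ ⟨w, hw, Matrix.toLin'_apply _ _⟩
    | zero => simp
    | add a b _ _ iha ihb => rw [Matrix.add_mulVec]; exact add_mem iha ihb
    | smul c a _ iha => rw [Matrix.smul_mulVec]; exact Submodule.smul_mem _ _ iha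
  have := hall (Matrix.vecMulVec u (Pi.single l (w l)⁻¹))
  rwa [Matrix.vecMulVec_mulVec, single_dotProduct, inv_mul_cancel₀ hl, MulOpposite.op_one, one_smul] at this

/-- The elements commuting with two given ones. -/
def ker2 (R : Subgroup G4) (x y : G4) : Set G4 :=
  {r | r ∈ R ∧ Com (r : M4) x ∧ Com (r : M4) y}

theorem card_le_ker2 (hR : Pauli R) {x y : G4} (hx : x ∈ R) (hy : y ∈ R) (hxy : Anti (x : M4) y) :
    Nat.card R ≤ 4 * (ker2 R x y).ncard := by
  haveI := hR.fin
  have hfin : ∀ s : Set G4, s.Finite := fun s => Set.toFinite s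
  have hxx : Com (x : M4) x := rfl
  have hyy : Com (y : M4) y := rfl
  have hyx := anti_symm hxy
  have hsub : (R : Set G4) ⊆ ker2 R x y ∪ ((fun r => r * x⁻¹) '' ker2 R x y ∪
      ((fun r => r * y⁻¹) '' ker2 R x y ∪ (fun r => r * (x * y)⁻¹) '' ker2 R x y)) := by
    intro r hr
    rcases hR.comm r hr x hx with hrx | hrx <;> rcases hR.comm r hr y hy with hry | hry
    · exact Or.inl ⟨hr, hrx, hry⟩
    · refine Or.inr (Or.inl ⟨r * x, ⟨R.mul_mem hr hx, ?_, ?_⟩, mul_inv_cancel_right r x⟩)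
      · rw [Units.val_mul]; exact com_mul hrx hxx
      · rw [Units.val_mul]; exact anti_mul_anti hry hxy
    · refine Or.inr (Or.inr (Or.inl ⟨r * y, ⟨R.mul_mem hr hy, ?_, ?_⟩, mul_inv_cancel_right r y⟩))
      · rw [Units.val_mul]; exact anti_mul_anti hrx hyx
      · rw [Units.val_mul]; exact com_mul hry hyy
    · refine Or.inr (Or.inr (Or.inr ⟨r * (x * y), ⟨R.mul_mem hr (R.mul_mem hx hy), ?_, ?_⟩,
        mul_inv_cancel_right r _⟩))
      · rw [Units.val_mul, Units.val_mul]; exact anti_mul_anti hrx (com_mul_anti hxx hyx)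
      · rw [Units.val_mul, Units.val_mul]; exact anti_mul_anti hry (anti_mul_com hxy hyy)
  have h := Set.ncard_le_ncard hsub (hfin _)
  have hR' : (R : Set G4).ncard = Nat.card R := (Nat.card_coe_set_eq _).symm
  have i1 := Set.ncard_image_le (f := fun r => r * x⁻¹) (hfin (ker2 R x y))
  have i2 := Set.ncard_image_le (f := fun r => r * y⁻¹) (hfin (ker2 R x y))
  have i3 := Set.ncard_image_le (f := fun r => r * (x * y)⁻¹) (hfin (ker2 R x y))
  have u1 := Set.ncard_union_le (ker2 R x y) ((fun r => r * x⁻¹) '' ker2 R x y ∪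
      ((fun r => r * y⁻¹) '' ker2 R x y ∪ (fun r => r * (x * y)⁻¹) '' ker2 R x y))
  have u2 := Set.ncard_union_le ((fun r => r * x⁻¹) '' ker2 R x y)
      ((fun r => r * y⁻¹) '' ker2 R x y ∪ (fun r => r * (x * y)⁻¹) '' ker2 R x y)
  have u3 := Set.ncard_union_le ((fun r => r * y⁻¹) '' ker2 R x y) ((fun r => r * (x * y)⁻¹) '' ker2 R x y)
  omega

/-- Commuting involutions of `R` are few. -/
theorem small (h2 : (2 : F) ≠ 0) (hsub : R ≤ S4) {S : Set G4} (hS : S ⊆ R)
    (hsq : ∀ s ∈ S, (s : M4) * s = 1) (hc : ∀ s ∈ S, ∀ t ∈ S, Com (s : M4) t) : S.ncard ≤ 4 := by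
  classical
  by_cases hex : ∃ x ∈ S, ¬ IsScal (x : M4)
  · obtain ⟨x, hx, hns⟩ := hex
    have hle : S ⊆ (({1, -1, x, -x} : Finset G4) : Set G4) := by
      intro y hy
      rcases invol_cases h2 (hsq x hx) (hsq y hy) (adj_of_sq_one hsub (hS hx) (hsq x hx))
        (adj_of_sq_one hsub (hS hy) (hsq y hy)) (hc x hx y hy) hns with h | h | h | h
      · simp [show y = 1 from Units.ext h]
      · simp [show y = -1 from Units.ext h]
      · simp [show y = x from Units.ext h]
      · simp [show y = -x from Units.ext h]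
    exact (Set.ncard_le_ncard hle (Set.toFinite _)).trans (by
      rw [Set.ncard_coe_finset]; exact Finset.card_le_four)
  · push Not at hex
    have hle : S ⊆ (({1, -1} : Finset G4) : Set G4) := fun y hy => by
      rcases isScal_pm hsub (hS hy) (hex y hy) with h | h <;> simp [h]
    exact (Set.ncard_le_ncard hle (Set.toFinite _)).trans (by
      rw [Set.ncard_coe_finset]; exact Finset.card_le_two.trans (by norm_num))

theorem exists_nonscalar (h2 : (2 : F) ≠ 0) (hsub : R ≤ S4) (hR : Pauli R) {S : Set G4} (hS : S ⊆ R)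
    (hcard : 3 ≤ S.ncard) : ∃ a ∈ S, ¬ IsScal (a : M4) := by
  classical
  by_contra hc
  push Not at hc
  have hle : S ⊆ (({1, -1} : Finset G4) : Set G4) := fun y hy => by
    rcases isScal_pm hsub (hS hy) (hc y hy) with h | h <;> simp [h]
  have h1 := (Set.ncard_le_ncard hle (Set.toFinite _))
  rw [Set.ncard_coe_finset] at h1
  have h3 : ({1, -1} : Finset G4).card ≤ 2 := Finset.card_le_two
  omega

/-- A non-scalar involution. -/
theorem exists_involution (h2 : (2 : F) ≠ 0) (hsub : R ≤ S4) (hR : Pauli R) :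
    ∃ x ∈ R, ¬ IsScal (x : M4) ∧ (x : M4) * x = 1 := by
  have h32 := card_eq h2 hsub hR
  obtain ⟨a, ha, hans⟩ := exists_nonscalar h2 hsub hR (Set.Subset.refl (R : Set G4)) (by
    rw [← Nat.card_coe_set_eq]; exact le_of_le_of_eq (by norm_num) h32.symm)
  obtain ⟨b, hb, hab⟩ := hR.exists_anti ha hans
  obtain ⟨c, ⟨hc, hca, hcb⟩, hcns⟩ := exists_nonscalar h2 hsub hR (fun r hr => hr.1) (S := ker2 R a b) (by
    have := card_le_ker2 hR ha hb hab; omega)
  rcases hR.sq a ha with h | h
  · exact ⟨a, ha, hans, h⟩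
  rcases hR.sq c hc with h' | h'
  · exact ⟨c, hc, hcns, h'⟩
  refine ⟨a * c, R.mul_mem ha hc, fun hs => ?_, ?_⟩
  · have hcom : Com ((a * c : G4) : M4) b := by
      obtain ⟨κ, hκ⟩ := hs
      unfold Com; rw [hκ]; simp
    have hanti : Anti ((a * c : G4) : M4) b := by rw [Units.val_mul]; exact anti_mul_com hab hcb
    exact not_both h2 hcom hanti
  · rw [Units.val_mul, mul_assoc, ← mul_assoc (c : M4), hca, mul_assoc, h', mul_neg, mul_one, mul_neg, h,
      neg_neg]

theorem isOfMinusType (h2 : (2 : F) ≠ 0) (hsub : R ≤ S4) : Cfsg.Geo.IsOfMinusType 2 R := by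
  intro A hA hAsq
  have h := small h2 hsub (S := ((A.map R.subtype : Subgroup G4) : Set G4)) (by
      rintro _ ⟨a, -, rfl⟩; exact a.2) (by
      rintro _ ⟨a, ha, rfl⟩
      simpa using congrArg (fun y : R => ((y : G4) : M4)) (hAsq a ha)) (by
      rintro _ ⟨a, ha, rfl⟩ _ ⟨b, hb, rfl⟩
      exact congrArg (fun y : A => (((y : R) : G4) : M4)) (hA.is_comm.comm ⟨a, ha⟩ ⟨b, hb⟩))
  rw [← Nat.card_coe_set_eq, SetLike.coe_sort_coe,
    Subgroup.card_map_of_injective R.subtype_injective] at h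
  calc Nat.card A ≤ 4 := h
    _ < 2 ^ (2 + 1) := by norm_num

theorem inner_mem (h2 : (2 : F) ≠ 0) (hR : Pauli R) {x y : G4} (hx : x ∈ R) (hy : y ∈ R)
    (hxy : Anti (x : M4) y) (hsq : (x : M4) * x = (y : M4) * y) :
    ∃ c : G4, (∀ z ∈ R, c * z * c⁻¹ ∈ R) ∧ c * x * c⁻¹ = y := by
  obtain ⟨σ, hσ, hσσ⟩ : ∃ σ : F, (x : M4) * x = σ • 1 ∧ σ * σ = 1 := by
    rcases hR.sq x hx with h | h
    · exact ⟨1, by rw [h, one_smul], one_mul 1⟩
    · exact ⟨-1, by rw [h, neg_one_smul], by ring⟩
  have hσ' : (y : M4) * y = σ • 1 := hsq ▸ hσ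
  have hyx : (y : M4) * x = -((x : M4) * y) := anti_symm hxy
  set κ : M4 := (x : M4) + y with hκ
  set κ' : M4 := (2⁻¹ * σ : F) • κ with hκ'
  have hκκ : κ * κ = (2 * σ) • 1 := by
    rw [hκ, add_mul, mul_add, mul_add, hσ, hσ', hyx, two_mul, add_smul]; abel
  have h1 : κ * κ' = 1 := by
    rw [hκ', Matrix.mul_smul, hκκ, smul_smul,
      show 2⁻¹ * σ * (2 * σ) = (2⁻¹ * 2) * (σ * σ) by ring, inv_mul_cancel₀ h2, hσσ, one_mul, one_smul]
  refine ⟨⟨κ, κ', h1, mul_eq_one_comm.mp h1⟩, fun z hz => ?_, ?_⟩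
  · have hval : ∀ w : G4, κ * (z : M4) * κ' = (w : M4) → w ∈ R →
        (⟨κ, κ', h1, mul_eq_one_comm.mp h1⟩ : G4) * z * (⟨κ, κ', h1, mul_eq_one_comm.mp h1⟩ : G4)⁻¹ ∈ R := by
      intro w hw hwR
      rwa [show (⟨κ, κ', h1, mul_eq_one_comm.mp h1⟩ : G4) * z *
        (⟨κ, κ', h1, mul_eq_one_comm.mp h1⟩ : G4)⁻¹ = w from Units.ext hw]
    -- the products with `x + y`
    have hzxy : (z : M4) * x * y ∈ (fun w : G4 => (w : M4)) '' (R : Set G4) :=
      ⟨z * x * y, R.mul_mem (R.mul_mem hz hx) hy, by simp⟩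
    obtain ⟨w, hw, hwe⟩ := hzxy
    simp only at hwe
    have hfin : ∀ ε : F, (ε = 1 ∨ ε = -1) → κ * (z : M4) * κ' = (ε * σ) • ((z : M4) * x * y) →
        (⟨κ, κ', h1, mul_eq_one_comm.mp h1⟩ : G4) * z * (⟨κ, κ', h1, mul_eq_one_comm.mp h1⟩ : G4)⁻¹ ∈ R := by
      intro ε hε he
      rw [← hwe] at he
      rcases mul_self_eq_one_iff.mp hσσ with s | s <;> rcases hε with e | e <;> rw [s, e] at he
      · exact hval w (by rw [he, one_mul, one_smul]) hw
      · exact hval (-w) (by rw [he, mul_one, neg_one_smul]; rfl) (hR.neg_mem hw)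
      · exact hval (-w) (by rw [he, one_mul, neg_one_smul]; rfl) (hR.neg_mem hw)
      · exact hval w (by rw [he, neg_mul_neg, one_mul, one_smul]) hw
    rcases hR.comm z hz x hx with a | a <;> rcases hR.comm z hz y hy with b | b
    · exact hval z (by rw [hκ, add_mul, ← a, ← b, ← mul_add, mul_assoc, ← hκ, h1, mul_one]) hz
    · refine hfin 1 (Or.inl rfl) ?_
      rw [hκ', Matrix.mul_smul, hκ, add_mul, ← a, show (y : M4) * z = -((z : M4) * y) by rw [b, neg_neg],
        add_mul, mul_add, mul_add, neg_mul, neg_mul]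
      simp only [mul_assoc]
      rw [hσ, hσ', hyx, mul_neg, neg_neg, one_mul]
      rw [show (z : M4) * (σ • 1) + (z : M4) * ((x : M4) * y) + ((z : M4) * ((x : M4) * y) + -((z : M4) * (σ • 1)))
        = (2 : F) • ((z : M4) * ((x : M4) * y)) by rw [two_smul]; abel, smul_smul]
      congr 1
      rw [mul_comm (2⁻¹ : F), mul_assoc, inv_mul_cancel₀ h2, mul_one]
    · refine hfin (-1) (Or.inr rfl) ?_
      rw [hκ', Matrix.mul_smul, hκ, add_mul, show (x : M4) * z = -((z : M4) * x) by rw [a, neg_neg], ← b,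
        add_mul, mul_add, mul_add, neg_mul, neg_mul]
      simp only [mul_assoc]
      rw [hσ, hσ', hyx, mul_neg]
      rw [show -((z : M4) * (σ • 1)) + -((z : M4) * ((x : M4) * y)) +
        (-((z : M4) * ((x : M4) * y)) + (z : M4) * (σ • 1))
        = (-2 : F) • ((z : M4) * ((x : M4) * y)) by rw [neg_smul, two_smul]; abel, smul_smul]
      congr 1
      rw [show (2⁻¹ * σ) * (-2) = -1 * σ * (2⁻¹ * 2) by ring, inv_mul_cancel₀ h2, mul_one]
    · refine hval (-z) ?_ (hR.neg_mem hz)
      rw [hκ, add_mul, show (x : M4) * z = -((z : M4) * x) by rw [a, neg_neg],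
        show (y : M4) * z = -((z : M4) * y) by rw [b, neg_neg], ← neg_add, ← mul_add, neg_mul, mul_assoc,
        ← hκ, h1, mul_one]
      rfl
  · refine mul_inv_eq_iff_eq_mul.mpr (Units.ext ?_)
    show κ * (x : M4) = (y : M4) * κ
    rw [hκ, add_mul, mul_add, hσ, hσ', add_comm]

theorem cyclic_char (h2 : (2 : F) ≠ 0) (hsub : R ≤ S4) (hR : Pauli R) (A : Subgroup R)
    (hA : A.Characteristic) (hAc : IsMulCommutative A) : IsCyclic A := by
  haveI := hR.fin
  by_cases hall : ∀ a ∈ A, IsScal (((a : R) : G4) : M4)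
  · have hle : A ≤ Subgroup.center R := fun a ha =>
      (center_iff hsub hR a).mpr (isScal_pm hsub a.2 (hall a ha))
    haveI : IsCyclic (Subgroup.center R) := isCyclic_of_prime_card (p := 2) (card_center h2 hsub hR)
    exact isCyclic_of_injective (Subgroup.inclusion hle) (Subgroup.inclusion_injective hle)
  exfalso
  push Not at hall
  obtain ⟨⟨x, hx⟩, hxA, hns⟩ := hall
  obtain ⟨y₀, hy₀, hxy₀⟩ := hR.exists_anti hx hns
  obtain ⟨y, hy, hxy, hsq⟩ : ∃ y ∈ R, Anti (x : M4) y ∧ (x : M4) * x = (y : M4) * y := by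
    have hprod : ((x * y₀ : G4) : M4) * (x * y₀ : G4) = -((x : M4) * x * ((y₀ : M4) * y₀)) := by
      rw [Units.val_mul, mul_assoc, ← mul_assoc (y₀ : M4), show (y₀ : M4) * x = -((x : M4) * y₀) from
        anti_symm hxy₀, neg_mul, mul_neg, mul_assoc, mul_assoc]
    rcases hR.sq x hx with hx1 | hx1 <;> rcases hR.sq y₀ hy₀ with hy1 | hy1
    · exact ⟨y₀, hy₀, hxy₀, by rw [hx1, hy1]⟩
    · refine ⟨x * y₀, R.mul_mem hx hy₀, ?_, ?_⟩
      · rw [Units.val_mul]; exact anti_symm (com_mul_anti rfl (anti_symm hxy₀))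
      · rw [hprod, hx1, hy1, one_mul, neg_neg]
    · obtain ⟨z, hz, hz1⟩ : ∃ z ∈ ker2 R x y₀, (z : M4) * z = -1 := by
        by_contra hno
        push Not at hno
        have h1 : ∀ z ∈ ker2 R x y₀, (z : M4) * z = 1 := fun z hz => (hR.sq z hz.1).resolve_right (hno z hz)
        have hm : ∀ s ∈ ker2 R x y₀, ∀ t ∈ ker2 R x y₀, s * t ∈ ker2 R x y₀ := fun s hs t ht =>
          ⟨R.mul_mem hs.1 ht.1, by rw [Units.val_mul]; exact com_mul hs.2.1 ht.2.1,
            by rw [Units.val_mul]; exact com_mul hs.2.2 ht.2.2⟩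
        have h4 := small h2 hsub (S := ker2 R x y₀) (fun r hr => hr.1) h1 fun s hs t ht => by
          rcases hR.comm s hs.1 t ht.1 with h | h
          · exact h
          · exfalso
            have e := h1 _ (hm s hs t ht)
            rw [Units.val_mul, mul_assoc, ← mul_assoc (t : M4), show (t : M4) * s = -((s : M4) * t) from
              anti_symm h, neg_mul, mul_neg, mul_assoc, h1 t ht, mul_one, h1 s hs] at e
            exact h2 (by
              have := congrFun (congrFun e (Sum.inl 0)) (Sum.inl 0)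
              simp at this
              linear_combination -this)
        have := card_le_ker2 hR hx hy₀ hxy₀
        have := card_eq h2 hsub hR
        omega
      refine ⟨y₀ * z, R.mul_mem hy₀ hz.1, ?_, ?_⟩
      · rw [Units.val_mul]; exact anti_symm (anti_mul_com (anti_symm hxy₀) hz.2.1)
      · rw [hx1, Units.val_mul, mul_assoc, ← mul_assoc (z : M4), hz.2.2, mul_assoc, hz1, mul_neg, mul_one,
          mul_neg, hy1]
    · exact ⟨y₀, hy₀, hxy₀, by rw [hx1, hy1]⟩
  obtain ⟨c, hc, hcx⟩ := inner_mem h2 hR hx hy hxy hsq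
  let f : R →* R :=
    { toFun := fun z => ⟨c * z * c⁻¹, hc z z.2⟩
      map_one' := Subtype.ext (by simp)
      map_mul' := fun a b => Subtype.ext (by simp [mul_assoc]) }
  have hf : Function.Injective f := fun a b h => Subtype.ext (by
    have := congrArg Subtype.val h
    simpa [f] using this)
  let φ : R ≃* R := MulEquiv.ofBijective f (Finite.injective_iff_bijective.mp hf)
  have hyA : (⟨y, hy⟩ : R) ∈ A := by
    rw [show (⟨y, hy⟩ : R) = φ ⟨x, hx⟩ from Subtype.ext hcx.symm]
    exact (Subgroup.characteristic_iff_le_comap.mp hA φ) hxA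
  exact not_both h2 (congrArg (fun y : A => (((y : R) : G4) : M4)) (hAc.is_comm.comm ⟨_, hxA⟩ ⟨_, hyA⟩)) hxy

theorem symplecticType (h2 : (2 : F) ≠ 0) (hsub : R ≤ S4) (hR : Pauli R) :
    Cfsg.Geo.IsSymplecticTypeGroup 2 R where
  prime := Nat.prime_two
  pGroup := fun g => ⟨2, Subtype.ext (Units.ext (by
    rcases hR.sq g g.2 with h | h <;> simp [pow_succ, Units.val_mul, mul_assoc, h]))⟩
  cyclic_of_characteristic A hA hAc := cyclic_char h2 hsub hR A hA hAc
  exponent_eq := by
    haveI := hR.fin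
    have hpow : ∀ g : R, g ^ 4 = 1 := fun g => Subtype.ext (Units.ext (by
      rcases hR.sq g g.2 with h | h <;> simp [pow_succ, Units.val_mul, mul_assoc, h]))
    refine Nat.dvd_antisymm (Monoid.exponent_dvd_of_forall_pow_eq_one hpow) ?_
    obtain ⟨x, hx, hns, hx1⟩ := exists_involution h2 hsub hR
    obtain ⟨y, hy, hxy⟩ := hR.exists_anti hx hns
    obtain ⟨s, hs, hs1⟩ : ∃ s ∈ R, (s : M4) * s = -1 := by
      rcases hR.sq y hy with hy1 | hy1
      · refine ⟨x * y, R.mul_mem hx hy, ?_⟩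
        rw [Units.val_mul, mul_assoc, ← mul_assoc (y : M4), show (y : M4) * x = -((x : M4) * y) from
          anti_symm hxy, neg_mul, mul_neg, mul_assoc, hy1, mul_one, hx1]
      · exact ⟨y, hy, hy1⟩
    have ho : orderOf (⟨s, hs⟩ : R) = 4 := by
      refine orderOf_eq_prime_pow (p := 2) (n := 1) (fun h => ?_) (hpow _)
      have e := congrArg (fun y : R => ((y : G4) : M4) (Sum.inl 0) (Sum.inl 0)) h
      simp [pow_succ, hs1] at e
      exact h2 (by linear_combination -e)
    rw [show 2 * Nat.gcd 2 2 = 4 by norm_num, ← ho]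
    exact Monoid.order_dvd_exponent _

end Cfsg.Agent.Lib.SpFourOdd
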