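import Cfsg.Agent.Lib.SpFourOdd.PauliConcl
import Cfsg.Agent.Lib.SpFourOdd.CommAlg

/-!
The members of the list given by a normalised involution or skew element, including the field with three elements.
-/

set_option autoImplicit false

namespace Cfsg.Agent.Lib.SpFourOdd

open Matrix Cfsg.Agent.Lib.MaxSub Cfsg.Agent.Lib.SympFour

variable {F : Type*} [Field F] [Fintype F]

local notation "V" => (Fin 2 ⊕ Fin 2 → F)
local notation "M4" => Matrix (Fin 2 ⊕ Fin 2) (Fin 2 ⊕ Fin 2) F
local notation "G4" => GL (Fin 2 ⊕ Fin 2) F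
local notation "S4" => Cfsg.spGL 2 F
local notation "bb" => AltForm.B (stdAlt 2 F)

/-- The eigenspace of `s` for `ε`. -/
def eig (s : M4) (ε : F) : Submodule F V := LinearMap.ker (Matrix.toLin' (s - ε • 1))

theorem mem_eig {s : M4} {ε : F} {u : V} : u ∈ eig s ε ↔ s *ᵥ u = ε • u := by
  simp [eig, Matrix.sub_mulVec, Matrix.smul_mulVec, sub_eq_zero]

/-- The two eigenspaces of an involution, as a family. -/
def pair (s : M4) : Fin 2 → Submodule F V := ![eig s 1, eig s (-1)]

theorem eig_isCompl (h2 : (2 : F) ≠ 0) {s : M4} (hs : s * s = 1) : IsCompl (eig s 1) (eig s (-1)) := by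
  constructor
  · rw [Submodule.disjoint_def]
    intro u hu hu'
    rw [mem_eig] at hu hu'
    rw [hu, one_smul, neg_one_smul, eq_neg_iff_add_eq_zero, ← two_smul F] at hu'
    exact (smul_eq_zero.mp hu').resolve_left h2
  · rw [codisjoint_iff, Submodule.eq_top_iff']
    intro v
    refine Submodule.mem_sup.mpr ⟨(2⁻¹ : F) • (v + s *ᵥ v), mem_eig.mpr ?_, (2⁻¹ : F) • (v - s *ᵥ v),
      mem_eig.mpr ?_, ?_⟩
    · rw [one_smul, Matrix.mulVec_smul, Matrix.mulVec_add, Matrix.mulVec_mulVec, hs, Matrix.one_mulVec, add_comm]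
    · rw [Matrix.mulVec_smul, Matrix.mulVec_sub, Matrix.mulVec_mulVec, hs, Matrix.one_mulVec, neg_one_smul,
        ← smul_neg, neg_sub]
    · rw [← smul_add, show v + s *ᵥ v + (v - s *ᵥ v) = (2 : F) • v by rw [two_smul]; abel, smul_smul,
        inv_mul_cancel₀ h2, one_smul]

theorem finrank_eig_add (h2 : (2 : F) ≠ 0) {s : M4} (hs : s * s = 1) :
    Module.finrank F (eig s 1) + Module.finrank F (eig s (-1)) = 4 := by
  rw [Submodule.finrank_add_eq_of_isCompl (eig_isCompl h2 hs), finrank_V]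

theorem pair_isMDecomposition (h2 : (2 : F) ≠ 0) {s : M4} (hs : s * s = 1)
    (h : ∀ i, Module.finrank F (pair s i) = 2) : Cfsg.Geo.IsMDecomposition 2 (pair s) where
  two_le := le_rfl
  pos := two_pos
  finrank_eq := h
  indep := by
    rw [iSupIndep_pair (i := 0) (j := 1) (by decide) (fun k => by fin_cases k <;> simp)]
    exact (eig_isCompl h2 hs).disjoint
  iSup_eq_top := by
    refine eq_top_iff.mpr ((eig_isCompl h2 hs).sup_eq_top ▸ sup_le (le_iSup (pair s) 0) (le_iSup (pair s) 1))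

theorem le_decompositionStabilizer {H : Subgroup G4} {s : M4} (hd : ∀ i, Module.finrank F (pair s i) = 2)
    (hconj : ∀ h ∈ H, (h : M4) * s = s * h ∨ (h : M4) * s = -(s * h)) :
    H ≤ Cfsg.Geo.decompositionStabilizer (pair s) := by
  intro h hh
  have hinj : Function.Injective (Matrix.toLin' (h : M4)) := fun a b hab => by
    rw [Matrix.toLin'_apply, Matrix.toLin'_apply] at hab
    exact Matrix.mulVec_injective_iff_isUnit.mpr h.isUnit hab
  have hmap : ∀ (i j : Fin 2), (∀ u ∈ pair s i, (h : M4) *ᵥ u ∈ pair s j) →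
      (pair s i).map (Matrix.toLin' (h : M4)) = pair s j := by
    intro i j hij
    refine Submodule.eq_of_le_of_finrank_le ?_ ?_
    · rintro _ ⟨u, hu, rfl⟩
      rw [Matrix.toLin'_apply]; exact hij u hu
    · rw [← (Submodule.equivMapOfInjective _ hinj (pair s i)).finrank_eq, hd, hd]
  rcases hconj h hh with hc | hc
  · refine ⟨1, fun i => hmap i i fun u hu => ?_⟩
    fin_cases i <;> simp only [pair, Matrix.cons_val_zero, Matrix.cons_val_one, mem_eig, Fin.zero_eta,
      Fin.mk_one] at hu ⊢ <;>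
      rw [Matrix.mulVec_mulVec, ← hc, ← Matrix.mulVec_mulVec, hu, Matrix.mulVec_smul]
  · have hc' : s * (h : M4) = -((h : M4) * s) := by rw [hc, neg_neg]
    refine ⟨Equiv.swap 0 1, fun i => hmap i _ fun u hu => ?_⟩
    fin_cases i <;> simp only [pair, Matrix.cons_val_zero, Matrix.cons_val_one, mem_eig, Fin.zero_eta,
      Fin.mk_one, Equiv.swap_apply_left, Equiv.swap_apply_right] at hu ⊢ <;>
      rw [Matrix.mulVec_mulVec, hc', Matrix.neg_mulVec, ← Matrix.mulVec_mulVec, hu, Matrix.mulVec_smul] <;>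
      module

/-- A self-adjoint involution gives a decomposition into non-degenerate planes. -/
theorem sym_square (hodd : Odd (Fintype.card F)) {H : Subgroup G4} (hH : Cfsg.Geo.IsMaximalIn S4 H) {s : M4}
    (hs : s * s = 1) (hns : ¬ IsScal s) (ha : adj s = s)
    (hconj : ∀ h ∈ H, (h : M4) * s = s * h ∨ (h : M4) * s = -(s * h)) : Concl H := by
  have h2 := two_ne hodd
  have hcross : ∀ u ∈ eig s 1, ∀ v ∈ eig s (-1), bb u v = 0 := by
    intro u hu v hv
    rw [mem_eig, one_smul] at hu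
    rw [mem_eig, neg_one_smul] at hv
    have h := adj_spec s u v
    rw [ha, hu, hv, map_neg] at h
    exact (mul_eq_zero.mp (show (2 : F) * bb u v = 0 by linear_combination h)).resolve_left h2
  have hcross' : ∀ u ∈ eig s (-1), ∀ v ∈ eig s 1, bb u v = 0 := fun u hu v hv => by
    rw [bb_swap, hcross v hv u hu, neg_zero]
  have hsplit : ∀ v : V, ∃ a ∈ eig s 1, ∃ b ∈ eig s (-1), a + b = v := fun v =>
    Submodule.mem_sup.mp ((eig_isCompl h2 hs).sup_eq_top ▸ Submodule.mem_top)
  have hnd : ∀ i, Cfsg.Geo.IsNondegenerateOn (Cfsg.sympForm 2 F) (pair s i) := by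
    intro i w hw hw0
    obtain ⟨x, hx⟩ : ∃ x, bb x w ≠ 0 := by
      by_contra hc; push Not at hc
      exact hw0 (bb_ext fun u => by rw [hc, map_zero])
    obtain ⟨a, ha', b, hb', rfl⟩ := hsplit x
    rw [map_add, LinearMap.add_apply] at hx
    fin_cases i
    · rw [hcross' b hb' w hw, add_zero] at hx
      exact ⟨⟨a, ha', by rwa [← bb_apply]⟩, ⟨a, ha', by rw [← bb_apply, bb_swap]; exact neg_ne_zero.mpr hx⟩⟩
    · rw [hcross a ha' w hw, zero_add] at hx
      exact ⟨⟨b, hb', by rwa [← bb_apply]⟩, ⟨b, hb', by rw [← bb_apply, bb_swap]; exact neg_ne_zero.mpr hx⟩⟩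
  have hge : ∀ i, 2 ≤ Module.finrank F (pair s i) := by
    intro i
    by_contra hlt
    have hne : pair s i ≠ ⊥ := by
      intro h
      have htop : ∀ ε : F, eig s ε = ⊥ → (∀ v, ∃ a ∈ eig s ε, ∃ b ∈ eig s (-ε), a + b = v) → IsScal s :=
        fun ε hε hv => ⟨-ε, eq_of_mulVec_eq fun v => by
          obtain ⟨a, ha', b, hb', rfl⟩ := hv v
          rw [hε, Submodule.mem_bot] at ha'
          rw [ha', zero_add, Matrix.smul_mulVec, Matrix.one_mulVec, mem_eig.mp hb']⟩
      fin_cases i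
      · exact hns (htop 1 h hsplit)
      · refine hns (htop (-1) h fun v => ?_)
        obtain ⟨a, ha', b, hb', rfl⟩ := hsplit v
        exact ⟨b, hb', a, by rwa [neg_neg], add_comm b a⟩
    obtain ⟨w, hw, hw0⟩ := (Submodule.ne_bot_iff _).mp hne
    obtain ⟨x, hx, hxw⟩ := (hnd i w hw hw0).1
    have hspan : pair s i = Submodule.span F {w} := by
      refine (Submodule.eq_of_le_of_finrank_le ((Submodule.span_singleton_le_iff_mem _ _).mpr hw) ?_).symm
      rw [finrank_span_singleton hw0]; omega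
    rw [hspan] at hx
    obtain ⟨c, rfl⟩ := Submodule.mem_span_singleton.mp hx
    rw [← bb_apply, map_smul, LinearMap.smul_apply, bb_self, smul_zero] at hxw
    exact hxw rfl
  have hd : ∀ i, Module.finrank F (pair s i) = 2 := by
    have h0 : 2 ≤ Module.finrank F (eig s 1) := hge 0
    have h1 : 2 ≤ Module.finrank F (eig s (-1)) := hge 1
    have := finrank_eig_add h2 hs
    intro i
    fin_cases i
    · show Module.finrank F (eig s 1) = 2; omega
    · show Module.finrank F (eig s (-1)) = 2; omega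
  have hD := pair_isMDecomposition h2 hs hd
  refine Or.inr (Or.inl ⟨pair s, ⟨hD, hnd, ?_⟩,
    eq_inf hH (le_decompositionStabilizer hd hconj) (not_le_decompositionStabilizer hodd hD)⟩)
  intro i j hij u hu v hv
  rw [← bb_apply]
  fin_cases i <;> fin_cases j
  · exact absurd rfl hij
  · exact hcross u hu v hv
  · exact hcross' u hu v hv
  · exact absurd rfl hij

/-- The quadratic field spanned by `1` and `s`. -/
def quadAlg (s : M4) (c : F) (hs : s * s = c • 1) : Subalgebra F M4 where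
  carrier := {m | ∃ a b : F, m = a • (1 : M4) + b • s}
  zero_mem' := ⟨0, 0, by simp⟩
  one_mem' := ⟨1, 0, by simp⟩
  add_mem' := by
    rintro _ _ ⟨a, b, rfl⟩ ⟨a', b', rfl⟩
    exact ⟨a + a', b + b', by module⟩
  mul_mem' := by
    rintro _ _ ⟨a, b, rfl⟩ ⟨a', b', rfl⟩
    refine ⟨a * a' + b * b' * c, a * b' + b * a', ?_⟩
    rw [add_mul, mul_add, mul_add, smul_mul_smul_comm, smul_mul_smul_comm, smul_mul_smul_comm,
      smul_mul_smul_comm, one_mul, one_mul, mul_one, hs]
    module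
  algebraMap_mem' r := ⟨r, 0, by rw [Algebra.algebraMap_eq_smul_one, zero_smul, add_zero]⟩

theorem quadAlg_field (h2 : (2 : F) ≠ 0) {s : M4} {c : F} (hs : s * s = c • 1) (hns : ¬ IsScal s)
    (hc : ¬ IsSquare c) : Cfsg.Geo.IsFieldSubalgebra 2 (quadAlg s c hs) where
  comm := by
    rintro _ ⟨a, b, rfl⟩ _ ⟨a', b', rfl⟩
    simp only [add_mul, mul_add, smul_mul_smul_comm, one_mul, mul_one, hs]
    module
  inv := by
    rintro _ ⟨a, b, rfl⟩ h0
    have hd : a * a - c * (b * b) ≠ 0 := by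
      intro h
      rcases eq_or_ne b 0 with rfl | hb
      · have : a = 0 := by simpa using h
        exact h0 (by simp [this])
      · exact hc ⟨a / b, by field_simp; linear_combination -h⟩
    refine ⟨(a * a - c * (b * b))⁻¹ • (a • (1 : M4) + (-b) • s), Subalgebra.smul_mem _ (show a • (1 : M4) + (-b) • s ∈ quadAlg s c hs from ⟨a, -b, rfl⟩) _, ?_⟩
    rw [Matrix.mul_smul]
    simp only [add_mul, mul_add, smul_mul_smul_comm, one_mul, mul_one, hs]
    rw [show (a * a) • (1 : M4) + (b * a) • s + ((a * -b) • s + (b * -b) • c • (1 : M4)) =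
      (a * a - c * (b * b)) • (1 : M4) by module, inv_smul_smul₀ hd]
  finrank_eq := by
    have hli : LinearIndependent F ![(1 : M4), s] := by
      rw [LinearIndependent.pair_iff]
      intro a b hab
      rcases eq_or_ne b 0 with rfl | hb
      · rw [zero_smul, add_zero] at hab
        exact ⟨(smul_eq_zero.mp hab).resolve_right one_ne_zero, rfl⟩
      · exact absurd ⟨-a / b, by
          rw [div_eq_inv_mul, ← smul_smul, eq_inv_smul_iff₀ hb, neg_smul, eq_neg_iff_add_eq_zero, add_comm, hab]⟩ hns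
    have he : Subalgebra.toSubmodule (quadAlg s c hs) = Submodule.span F (Set.range ![(1 : M4), s]) := by
      ext m
      rw [Matrix.range_cons, Matrix.range_cons, Matrix.range_empty, Set.union_empty, Set.singleton_union,
        Submodule.mem_span_pair, Subalgebra.mem_toSubmodule]
      exact ⟨fun ⟨a, b, h⟩ => ⟨a, b, h.symm⟩, fun ⟨a, b, h⟩ => ⟨a, b, h.symm⟩⟩
    show Module.finrank F (Subalgebra.toSubmodule (quadAlg s c hs)) = 2
    rw [he, finrank_span_eq_card hli]; rfl

theorem le_quadAlg_normalizer {H : Subgroup G4} {s : M4} {c : F} (hs : s * s = c • 1)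
    (hconj : ∀ h ∈ H, (h : M4) * s = s * h ∨ (h : M4) * s = -(s * h)) :
    H ≤ Cfsg.Geo.subalgebraNormalizer (quadAlg s c hs) := by
  have key : ∀ h ∈ H, ∀ k ∈ quadAlg s c hs, (h : M4) * k * ((h⁻¹ : G4) : M4) ∈ quadAlg s c hs := by
    rintro h hh _ ⟨a, b, rfl⟩
    rcases hconj h hh with e | e
    · exact ⟨a, b, by simp [mul_add, add_mul, e, mul_assoc]⟩
    · exact ⟨a, -b, by simp [mul_add, add_mul, e, mul_assoc]⟩
  intro h hh k
  refine ⟨key h hh k, fun hk => ?_⟩
  have := key h⁻¹ (H.inv_mem hh) _ hk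
  simpa [mul_assoc] using this

theorem three_units (h3 : Fintype.card F = 3) {a : F} (ha : a ≠ 0) : a = 1 ∨ a = -1 := by
  have h := FiniteField.pow_card_sub_one_eq_one a ha
  rw [h3, pow_two] at h
  exact mul_self_eq_one_iff.mp h

/-- Over three elements a pair of isotropic planes is contained in a pair of non-degenerate planes. -/
theorem isotropic_three (hodd : Odd (Fintype.card F)) (h3 : Fintype.card F = 3) {H : Subgroup G4}
    (hH : Cfsg.Geo.IsMaximalIn S4 H) {s : M4} (hs : s * s = 1) (ha : adj s = -s)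
    (hd : ∀ i, Module.finrank F (pair s i) = 2)
    (hti : ∀ i, ∀ u ∈ pair s i, ∀ v ∈ pair s i, bb u v = 0)
    (hconj : ∀ h ∈ H, (h : M4) * s = s * h ∨ (h : M4) * s = -(s * h)) : Concl H := by
  have h2 := two_ne hodd
  let P := eig s 1
  let N := eig s (-1)
  have hP : Module.finrank F P = 2 := hd 0
  have hN : Module.finrank F N = 2 := hd 1
  let bP := Module.finBasisOfFinrankEq F P hP
  set w₀ : V := (bP 0 : V) with hw₀
  set w₁ : V := (bP 1 : V) with hw₁
  have hw0P : w₀ ∈ P := (bP 0).2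
  have hw1P : w₁ ∈ P := (bP 1).2
  have hspanP : ∀ v ∈ P, ∃ a b : F, v = a • w₀ + b • w₁ := fun v hv => by
    have h := bP.sum_repr ⟨v, hv⟩
    rw [Fin.sum_univ_two] at h
    exact ⟨bP.repr ⟨v, hv⟩ 0, bP.repr ⟨v, hv⟩ 1, (congrArg Subtype.val h).symm⟩
  have hsplit : ∀ v : V, ∃ a ∈ P, ∃ b ∈ N, a + b = v := fun v =>
    Submodule.mem_sup.mp ((eig_isCompl h2 hs).sup_eq_top ▸ Submodule.mem_top)
  have htiP : ∀ u ∈ P, ∀ v ∈ P, bb u v = 0 := hti 0
  have htiN : ∀ u ∈ N, ∀ v ∈ N, bb u v = 0 := hti 1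
  let L : N →ₗ[F] F × F := LinearMap.prod (((bb).flip w₀).comp N.subtype) (((bb).flip w₁).comp N.subtype)
  have hLinj : Function.Injective L := by
    refine (injective_iff_map_eq_zero L).mpr fun z hz => Subtype.ext (bb_ext' fun u => ?_)
    have h0 : bb (z : V) w₀ = 0 := congrArg Prod.fst hz
    have h1 : bb (z : V) w₁ = 0 := congrArg Prod.snd hz
    obtain ⟨a, ha', b, hb', rfl⟩ := hsplit u
    obtain ⟨x, y, rfl⟩ := hspanP a ha'
    simp [map_add, map_smul, h0, h1, htiN _ z.2 _ hb']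
  have hLsurj : Function.Surjective L := by
    refine (LinearMap.injective_iff_surjective_of_finrank_eq_finrank ?_).mp hLinj
    rw [hN, Module.finrank_prod, Module.finrank_self]
  obtain ⟨⟨z₀, hz₀⟩, he₀⟩ := hLsurj (1, 0)
  obtain ⟨⟨z₁, hz₁⟩, he₁⟩ := hLsurj (0, 1)
  have z00 : bb z₀ w₀ = 1 := congrArg Prod.fst he₀
  have z01 : bb z₀ w₁ = 0 := congrArg Prod.snd he₀
  have z10 : bb z₁ w₀ = 0 := congrArg Prod.fst he₁
  have z11 : bb z₁ w₁ = 1 := congrArg Prod.snd he₁
  have hsep : ∀ v : V, bb v w₀ = 0 → bb v w₁ = 0 → bb z₀ v = 0 → bb z₁ v = 0 → v = 0 := by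
    intro v a0 a1 b0 b1
    obtain ⟨p, hp, m, hm, rfl⟩ := hsplit v
    obtain ⟨x, y, rfl⟩ := hspanP p hp
    simp only [map_add, map_smul, z00, z01, z10, z11, htiN _ hz₀ _ hm, htiN _ hz₁ _ hm, smul_eq_mul,
      mul_one, mul_zero, add_zero, zero_add] at b0 b1
    subst b0; subst b1
    simp only [zero_smul, add_zero, zero_add] at a0 a1 ⊢
    exact congrArg Subtype.val (hLinj (show L ⟨m, hm⟩ = L 0 by rw [map_zero]; exact Prod.ext a0 a1))
  let T : V →ₗ[F] V := (bb z₀).smulRight z₁ - (bb z₁).smulRight z₀ + ((bb).flip w₁).smulRight w₀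
    - ((bb).flip w₀).smulRight w₁
  set t : M4 := LinearMap.toMatrix' T with ht
  have htv : ∀ v : V, t *ᵥ v = bb z₀ v • z₁ - bb z₁ v • z₀ + bb v w₁ • w₀ - bb v w₀ • w₁ := fun v => by
    rw [ht, ← Matrix.toLin'_apply, Matrix.toLin'_toMatrix']
    rfl
  have hat : adj t = t := adj_eq fun u v => by
    rw [htv, htv]
    simp only [map_sub, map_add, map_smul, LinearMap.sub_apply, LinearMap.add_apply, LinearMap.smul_apply,
      smul_eq_mul]
    rw [bb_swap w₀ v, bb_swap w₁ v, bb_swap u z₀, bb_swap u z₁]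
    ring
  have hsP : ∀ {v : V}, v ∈ P → s *ᵥ v = v := fun {v} hv => by rw [mem_eig.mp hv, one_smul]
  have hsN : ∀ {v : V}, v ∈ N → s *ᵥ v = -v := fun {v} hv => by rw [mem_eig.mp hv, neg_one_smul]
  have hts : t * s = -(s * t) := eq_of_mulVec_eq fun v => by
    rw [Matrix.neg_mulVec, ← Matrix.mulVec_mulVec, ← Matrix.mulVec_mulVec, htv, htv]
    simp only [Matrix.mulVec_add, Matrix.mulVec_sub, Matrix.mulVec_smul, hsP hw0P, hsP hw1P, hsN hz₀, hsN hz₁]
    rw [adj_spec' s z₀, adj_spec' s z₁, adj_spec s v w₁, adj_spec s v w₀]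
    simp only [ha, Matrix.neg_mulVec, hsP hw0P, hsP hw1P, hsN hz₀, hsN hz₁, map_neg, LinearMap.neg_apply, neg_neg]
    module
  have htt : t * t = 1 := eq_of_mulVec_eq fun v => by
    rw [← Matrix.mulVec_mulVec, Matrix.one_mulVec]
    refine sub_eq_zero.mp (hsep _ ?_ ?_ ?_ ?_) <;>
    · simp only [htv, map_sub, map_add, map_smul, LinearMap.sub_apply, LinearMap.add_apply, LinearMap.smul_apply,
        smul_eq_mul, z00, z01, z10, z11, htiP _ hw0P _ hw0P, htiP _ hw0P _ hw1P, htiP _ hw1P _ hw0P,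
        htiP _ hw1P _ hw1P, htiN _ hz₀ _ hz₀, htiN _ hz₀ _ hz₁, htiN _ hz₁ _ hz₀, htiN _ hz₁ _ hz₁]
      ring
  have htns : ¬ IsScal t := by
    rintro ⟨c, hc⟩
    rw [hc, Matrix.smul_mul, one_mul, Matrix.mul_smul, mul_one] at hts
    have h' : (2 * c) • s = 0 := by rw [two_mul, add_smul]; exact eq_neg_iff_add_eq_zero.mp hts
    rcases smul_eq_zero.mp h' with h' | h'
    · rw [(mul_eq_zero.mp h').resolve_left h2, zero_smul] at hc
      rw [hc, zero_mul] at htt; exact zero_ne_one htt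
    · rw [h', zero_mul] at hs; exact zero_ne_one hs
  -- uniqueness up to sign
  have huniq : ∀ u : M4, adj u = u → u * s = -(s * u) → u * u = 1 → u = t ∨ u = -t := by
    intro u hau hus huu
    have hself : ∀ v : V, bb (u *ᵥ v) v = 0 := fun v => by
      have h := bb_swap (u *ᵥ v) v
      conv_rhs at h => rw [adj_spec', hau]
      exact (mul_eq_zero.mp (show (2 : F) * bb (u *ᵥ v) v = 0 by linear_combination h)).resolve_left h2
    have hmapP : ∀ {v : V}, v ∈ P → u *ᵥ v ∈ N := fun {v} hv => mem_eig.mpr (by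
      rw [Matrix.mulVec_mulVec, show s * u = -(u * s) by rw [hus, neg_neg], Matrix.neg_mulVec,
        ← Matrix.mulVec_mulVec, hsP hv, neg_one_smul])
    have hmapN : ∀ {v : V}, v ∈ N → u *ᵥ v ∈ P := fun {v} hv => mem_eig.mpr (by
      rw [Matrix.mulVec_mulVec, show s * u = -(u * s) by rw [hus, neg_neg], Matrix.neg_mulVec,
        ← Matrix.mulVec_mulVec, hsN hv, Matrix.mulVec_neg, neg_neg, one_smul])
    set y := bb (u *ᵥ w₀) w₁ with hy
    set x := bb z₀ (u *ᵥ z₁) with hx
    have hzw : ∀ {n : V}, n ∈ N → ∀ a b : F, bb n w₀ = a → bb n w₁ = b → n = a • z₀ + b • z₁ := by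
      intro n hn a b h0 h1
      refine sub_eq_zero.mp (hsep _ ?_ ?_ ?_ ?_)
      · simp [map_sub, map_add, map_smul, h0, z00, z10]
      · simp [map_sub, map_add, map_smul, h1, z01, z11]
      · simp [map_sub, map_add, map_smul, htiN _ hz₀ _ hn, htiN _ hz₀ _ hz₀, htiN _ hz₀ _ hz₁]
      · simp [map_sub, map_add, map_smul, htiN _ hz₁ _ hn, htiN _ hz₁ _ hz₀, htiN _ hz₁ _ hz₁]
    have hwz : ∀ {n : V}, n ∈ P → ∀ a b : F, bb z₀ n = a → bb z₁ n = b → n = a • w₀ + b • w₁ := by
      intro n hn a b h0 h1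
      refine sub_eq_zero.mp (hsep _ ?_ ?_ ?_ ?_)
      · simp [map_sub, map_add, map_smul, htiP _ hn _ hw0P, htiP _ hw0P _ hw0P, htiP _ hw1P _ hw0P]
      · simp [map_sub, map_add, map_smul, htiP _ hn _ hw1P, htiP _ hw0P _ hw1P, htiP _ hw1P _ hw1P]
      · simp [map_sub, map_add, map_smul, h0, z00, z01]
      · simp [map_sub, map_add, map_smul, h1, z10, z11]
    have u0 : u *ᵥ w₀ = y • z₁ := by
      rw [hzw (hmapP hw0P) 0 y (hself w₀) hy.symm, zero_smul, zero_add]
    have u1 : u *ᵥ w₁ = -(y • z₀) := by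
      rw [hzw (hmapP hw1P) (-y) 0 (by rw [adj_spec, hau, hy, bb_swap]) (hself w₁), zero_smul, add_zero, neg_smul]
    have v1 : u *ᵥ z₁ = x • w₀ := by
      rw [hwz (hmapN hz₁) x 0 hx.symm (by rw [bb_swap, hself, neg_zero]), zero_smul, add_zero]
    have v0 : u *ᵥ z₀ = -(x • w₁) := by
      rw [hwz (hmapN hz₀) 0 (-x) (by rw [bb_swap, hself, neg_zero]) (by rw [adj_spec', hau, bb_swap, hx]),
        zero_smul, zero_add, neg_smul]
    have hxy : y * x = 1 := by
      have h := congrArg (fun M : M4 => bb z₀ (M *ᵥ w₀)) huu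
      simpa [← Matrix.mulVec_mulVec, u0, Matrix.mulVec_smul, v1, z00] using h
    have hy0 : y ≠ 0 := fun h => by rw [h, zero_mul] at hxy; exact zero_ne_one hxy
    have hdec : ∀ v : V, v = bb z₀ v • w₀ + bb z₁ v • w₁ + bb v w₀ • z₀ + bb v w₁ • z₁ := fun v => by
      refine sub_eq_zero.mp (hsep _ ?_ ?_ ?_ ?_) <;>
        simp [map_sub, map_add, map_smul, z00, z01, z10, z11, htiP _ hw0P _ hw0P, htiP _ hw0P _ hw1P,
          htiP _ hw1P _ hw0P, htiP _ hw1P _ hw1P, htiN _ hz₀ _ hz₀, htiN _ hz₀ _ hz₁, htiN _ hz₁ _ hz₀,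
          htiN _ hz₁ _ hz₁]
    have hu : ∀ v, u *ᵥ v = y • (bb z₀ v • z₁ - bb z₁ v • z₀) + x • (bb v w₁ • w₀ - bb v w₀ • w₁) := fun v => by
      conv_lhs => rw [hdec v]
      simp only [Matrix.mulVec_add, Matrix.mulVec_smul, u0, u1, v0, v1]
      module
    rcases three_units h3 hy0 with h | h <;> rw [h] at hxy hu
    · rw [one_mul] at hxy
      exact Or.inl (eq_of_mulVec_eq fun v => by rw [hu, hxy, htv]; module)
    · have hxm : x = -1 := by linear_combination -hxy
      exact Or.inr (eq_of_mulVec_eq fun v => by rw [hu, hxm, Matrix.neg_mulVec, htv]; module)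
  refine sym_square hodd hH htt htns hat fun h hh => conj_sign (huniq _ ?_ ?_ ?_)
  · rw [adj_conj (hH.1.le hh), hat]
  · have hs' : ((h⁻¹ : G4) : M4) * s = s * ((h⁻¹ : G4) : M4) ∨ ((h⁻¹ : G4) : M4) * s = -(s * ((h⁻¹ : G4) : M4)) :=
      hconj _ (H.inv_mem hh)
    rcases hconj h hh with e | e <;> rcases hs' with e' | e'
    · rw [mul_assoc, e', ← mul_assoc, mul_assoc (h : M4), hts, mul_neg, neg_mul, ← mul_assoc, ← mul_assoc, e]
      simp [mul_assoc]
    · exfalso
      have h' := congrArg (fun M : M4 => (h : M4) * M * (h : M4)) e'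
      simp [mul_assoc, e] at h'
      have : (2 : F) • (s * (h : M4)) = 0 := by rw [two_smul]; exact eq_neg_iff_add_eq_zero.mp h'
      rcases smul_eq_zero.mp this with h'' | h''
      · exact h2 h''
      · have := congrArg (fun M : M4 => s * M * ((h⁻¹ : G4) : M4)) h''
        simp [← mul_assoc, hs] at this
    · exfalso
      have h' := congrArg (fun M : M4 => (h : M4) * M * (h : M4)) e'
      simp [mul_assoc, e] at h'
      have : (2 : F) • (s * (h : M4)) = 0 := by
        rw [two_smul]; exact eq_neg_iff_add_eq_zero.mp h'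
      rcases smul_eq_zero.mp this with h'' | h''
      · exact h2 h''
      · have := congrArg (fun M : M4 => s * M * ((h⁻¹ : G4) : M4)) h''
        simp [← mul_assoc, hs] at this
    · rw [mul_assoc, e', mul_neg, ← mul_assoc, mul_assoc (h : M4), hts, mul_neg, neg_mul, neg_neg, ← mul_assoc, e]
      simp [mul_assoc]
  · rw [conj_mul, htt, mul_one, Units.mul_inv]

end Cfsg.Agent.Lib.SpFourOdd
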