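import Cfsg.Prelude.Def_GeometricClasses
/-
helper12: q = 3 exception for maximal subgroups of Sp_4(q), q odd: the stabiliser of a decomposition into two
totally singular planes stabilises a decomposition into two orthogonal non-degenerate planes.
-/
set_option autoImplicit false
open Cfsg Matrix

namespace Cfsg.Agent.Lib.SpFourOdd.TSThree

variable {F : Type*} [Field F]

local notation "V" => (Fin 2 ⊕ Fin 2 → F)
local notation "B" => sympForm 2 F

lemma add_l (u u' v : V) : B (u + u') v = B u v + B u' v := add_dotProduct _ _ _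
lemma smul_l (c : F) (u v : V) : B (c • u) v = c * B u v := smul_dotProduct _ _ _
lemma add_r (u v v' : V) : B u (v + v') = B u v + B u v' := by
  simp [sympForm, mulVec_add, dotProduct_add]
lemma smul_r (c : F) (u v : V) : B u (c • v) = c * B u v := by
  simp [sympForm, mulVec_smul, dotProduct_smul]
lemma skew (u v : V) : B u v = - B v u := by
  simp [sympForm, Matrix.J, dotProduct, mulVec, Fintype.sum_sum_type, Fin.sum_univ_two,
    Matrix.one_apply, Matrix.fromBlocks]
  ring

lemma nondeg (w : V) (h : ∀ u, B u w = 0) : w = 0 := by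
  have h1 : Matrix.J (Fin 2) F *ᵥ w = 0 := dotProduct_eq_zero _ fun u => by
    rw [dotProduct_comm]; exact h u
  have h2 := congrArg (fun x => Matrix.J (Fin 2) F *ᵥ x) h1
  simpa [mulVec_mulVec, Matrix.J_squared, neg_mulVec] using h2

lemma sq_one [Fintype F] (h3 : Fintype.card F = 3) (d : F) (hd : d ≠ 0) : d * d = 1 := by
  have := FiniteField.pow_card_sub_one_eq_one d hd
  rw [h3] at this
  simpa [pow_two] using this

def U (e w : Fin 2 → V) (s a b : F) : V := a • e 0 + b • e 1 + (s * a) • w 1 + (-(s * b)) • w 0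

/-- For `|F| = 3`: inside `Sp_4(F)`, the stabiliser of a decomposition into two totally singular planes lies in
the stabiliser of a decomposition into two orthogonal non-degenerate planes. -/
theorem exists_nondegenerate [Fintype F] (h3 : Fintype.card F = 3)
    (D : Fin 2 → Submodule F V) (hD : Geo.IsMDecomposition 2 D)
    (hts : ∀ i, Geo.IsTotallySingularFor B (D i)) :
    ∃ D' : Fin 2 → Submodule F V, Geo.IsNondegenerateMDecomposition B 2 D' ∧
      Geo.decompositionStabilizer D ⊓ spGL 2 F ≤ Geo.decompositionStabilizer D' := by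
  classical
  have htwo : (2 : F) ≠ 0 := fun h2 => by
    have h : ((3 : ℕ) : F) = 0 := by rw [← h3]; exact Nat.cast_card_eq_zero F
    push_cast at h
    exact one_ne_zero (α := F) (by linear_combination h - h2)
  have htop : D 0 ⊔ D 1 = ⊤ := by
    rw [← hD.iSup_eq_top]
    refine le_antisymm (sup_le (le_iSup D 0) (le_iSup D 1)) (iSup_le fun i => ?_)
    fin_cases i
    · exact le_sup_left
    · exact le_sup_right
  let eb := Module.finBasisOfFinrankEq F (D 0) (hD.finrank_eq 0)
  let φ : D 1 →ₗ[F] (Fin 2 → F) :=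
    { toFun := fun x i => B (eb i : V) (x : V)
      map_add' := fun x y => funext fun i => add_r _ _ _
      map_smul' := fun c x => funext fun i => smul_r _ _ _ }
  have hφ : Function.Injective φ := by
    rw [← LinearMap.ker_eq_bot, eq_bot_iff]
    intro x hx
    rw [LinearMap.mem_ker] at hx
    refine (Submodule.mem_bot F).2 (Subtype.ext (nondeg _ fun u => ?_))
    obtain ⟨u0, hu0, u1, hu1, rfl⟩ := Submodule.mem_sup.1 (htop ▸ Submodule.mem_top : u ∈ D 0 ⊔ D 1)
    have hu := eb.sum_repr ⟨u0, hu0⟩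
    rw [Fin.sum_univ_two] at hu
    have hu' : u0 = eb.repr ⟨u0, hu0⟩ 0 • (eb 0 : V) + eb.repr ⟨u0, hu0⟩ 1 • (eb 1 : V) := by
      simpa using (congrArg Subtype.val hu).symm
    rw [add_l, hts 1 u1 hu1 x x.2, hu', add_l, smul_l, smul_l,
      show B (eb 0 : V) (x : V) = 0 from congrFun hx 0, show B (eb 1 : V) (x : V) = 0 from congrFun hx 1]
    ring
  have hφs : Function.Surjective φ :=
    (LinearMap.injective_iff_surjective_of_finrank_eq_finrank
      (by rw [hD.finrank_eq 1, Module.finrank_fin_fun])).1 hφ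
  obtain ⟨w0, hw0⟩ := hφs ![1, 0]
  obtain ⟨w1, hw1⟩ := hφs ![0, 1]
  let e : Fin 2 → V := fun i => (eb i : V)
  let w : Fin 2 → V := ![(w0 : V), (w1 : V)]
  have e00 : B (e 0) (w 0) = 1 := by simpa [φ, e, w] using congrFun hw0 0
  have e10 : B (e 1) (w 0) = 0 := by simpa [φ, e, w] using congrFun hw0 1
  have e01 : B (e 0) (w 1) = 0 := by simpa [φ, e, w] using congrFun hw1 0
  have e11 : B (e 1) (w 1) = 1 := by simpa [φ, e, w] using congrFun hw1 1
  have hee : ∀ i j, B (e i) (e j) = 0 := fun i j => hts 0 _ (eb i).2 _ (eb j).2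
  have hwm : ∀ i, w i ∈ D 1 := fun i => by fin_cases i <;> simp [w]
  have hww : ∀ i j, B (w i) (w j) = 0 := fun i j => hts 1 _ (hwm i) _ (hwm j)
  have f00 : B (w 0) (e 0) = -1 := by rw [skew, e00]
  have f01 : B (w 0) (e 1) = 0 := by rw [skew, e10, neg_zero]
  have f10 : B (w 1) (e 0) = 0 := by rw [skew, e01, neg_zero]
  have f11 : B (w 1) (e 1) = -1 := by rw [skew, e11]
  have cE : ∀ x ∈ D 0, x = B x (w 0) • e 0 + B x (w 1) • e 1 := by
    intro x hx
    have hu := eb.sum_repr ⟨x, hx⟩
    rw [Fin.sum_univ_two] at hu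
    have hu' : x = eb.repr ⟨x, hx⟩ 0 • e 0 + eb.repr ⟨x, hx⟩ 1 • e 1 := by
      simpa [e] using (congrArg Subtype.val hu).symm
    generalize eb.repr ⟨x, hx⟩ 0 = a, eb.repr ⟨x, hx⟩ 1 = b at hu'
    subst hu'
    simp only [add_l, smul_l, e00, e01, e10, e11, mul_one, mul_zero, add_zero, zero_add]
  have cW : ∀ x ∈ D 1, x = B (e 0) x • w 0 + B (e 1) x • w 1 := by
    intro x hx
    have hm : B (e 0) x • w 0 + B (e 1) x • w 1 ∈ D 1 :=
      (D 1).add_mem ((D 1).smul_mem _ (hwm 0)) ((D 1).smul_mem _ (hwm 1))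
    refine congrArg Subtype.val (hφ (a₁ := ⟨x, hx⟩) (a₂ := ⟨_, hm⟩) (funext fun i => ?_))
    show B (e i) x = B (e i) _
    fin_cases i <;> simp [add_r, smul_r, e00, e01, e10, e11]
  have hUU : ∀ s t a b c d, B (U e w s a b) (U e w t c d) = (s + t) * (b * c - a * d) := by
    intro s t a b c d
    simp only [U, add_l, add_r, smul_l, smul_r, hee, hww, e00, e01, e10, e11, f00, f01, f10, f11]
    ring
  let W : Fin 2 → Submodule F V := fun i =>
    Submodule.span F {U e w (![1, -1] i) 1 0, U e w (![1, -1] i) 0 1}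
  have hlin : ∀ s a b : F, a • U e w s 1 0 + b • U e w s 0 1 = U e w s a b := by
    intro s a b; simp only [U]; module
  have memW : ∀ i x, x ∈ W i ↔ ∃ a b, U e w (![1, -1] i) a b = x := by
    intro i x
    rw [Submodule.mem_span_pair]
    constructor <;> rintro ⟨a, b, h⟩ <;> exact ⟨a, b, by rw [← h, hlin]⟩
  have hrankW : ∀ i, Module.finrank F (W i) = 2 := by
    intro i
    have hli : LinearIndependent F ![U e w (![1, -1] i) 1 0, U e w (![1, -1] i) 0 1] := by
      rw [LinearIndependent.pair_iff]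
      intro a b hab
      rw [hlin] at hab
      have h1 := congrArg (fun z => B z (w 0)) hab
      have h2 := congrArg (fun z => B z (w 1)) hab
      simp only [U, add_l, smul_l, hww, e00, e01, e10, e11] at h1 h2
      have hz : ∀ y : V, B (0 : V) y = 0 := fun y => zero_dotProduct _
      rw [hz] at h1 h2
      constructor
      · linear_combination h1
      · linear_combination h2
    have h := finrank_span_eq_card hli
    rw [Matrix.range_cons, Matrix.range_cons, Matrix.range_empty, Set.union_empty,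
      Set.singleton_union, Fintype.card_fin] at h
    exact h
  have hnd : ∀ i, Geo.IsNondegenerateOn B (W i) := by
    intro i x hx hx0
    obtain ⟨a, b, rfl⟩ := (memW i x).1 hx
    have hs : (![1, -1] i : F) + ![1, -1] i ≠ 0 := by
      fin_cases i
      · simpa [one_add_one_eq_two] using htwo
      · simpa [← neg_add, one_add_one_eq_two] using htwo
    have key : ∃ c d : F, b * c - a * d ≠ 0 := by
      by_cases hb : b = 0
      · have ha : a ≠ 0 := fun ha => hx0 (by simp [U, ha, hb])
        exact ⟨0, 1, by simp [ha]⟩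
      · exact ⟨1, 0, by simp [hb]⟩
    obtain ⟨c, d, hcd⟩ := key
    have hm : U e w (![1, -1] i) c d ∈ W i := (memW i _).2 ⟨c, d, rfl⟩
    have h2 : B (U e w (![1, -1] i) a b) (U e w (![1, -1] i) c d) ≠ 0 := by
      rw [hUU]; exact mul_ne_zero hs hcd
    exact ⟨⟨_, hm, fun h => h2 (by rw [skew, h, neg_zero])⟩, ⟨_, hm, h2⟩⟩
  have horth : ∀ i j, i ≠ j → Geo.AreOrthogonalFor B (W i) (W j) := by
    intro i j hij u hu v hv
    obtain ⟨a, b, rfl⟩ := (memW i u).1 hu
    obtain ⟨c, d, rfl⟩ := (memW j v).1 hv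
    rw [hUU]
    fin_cases i <;> fin_cases j <;> simp at hij ⊢
  have hdis : Disjoint (W 0) (W 1) := by
    rw [Submodule.disjoint_def]
    intro x hx0 hx1
    by_contra hne
    obtain ⟨⟨y, hy, hy'⟩, -⟩ := hnd 0 x hx0 hne
    exact hy' (horth 0 1 (by decide) y hy x hx1)
  have hdec : Geo.IsMDecomposition 2 W := by
    refine ⟨le_rfl, two_pos, hrankW, ?_, ?_⟩
    · intro i
      fin_cases i
      · exact hdis.mono_right (iSup₂_le fun j hj => by fin_cases j <;> first | exact absurd rfl hj | exact le_rfl)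
      · exact hdis.symm.mono_right (iSup₂_le fun j hj => by fin_cases j <;> first | exact absurd rfl hj | exact le_rfl)
    · refine top_unique (le_trans ?_ (sup_le (le_iSup W 0) (le_iSup W 1)))
      refine (Submodule.eq_top_of_finrank_eq ?_).ge
      have := Submodule.finrank_sup_add_finrank_inf_eq (W 0) (W 1)
      rw [hdis.eq_bot, finrank_bot, hrankW, hrankW] at this
      rw [Module.finrank_pi, Fintype.card_sum, Fintype.card_fin]
      omega
  refine ⟨W, ⟨hdec, hnd, horth⟩, ?_⟩
  rintro g ⟨⟨σ, hσ⟩, hg⟩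
  let L := Matrix.toLin' (g : Matrix (Fin 2 ⊕ Fin 2) (Fin 2 ⊕ Fin 2) F)
  have hgB : ∀ u v, B (L u) (L v) = B u v := fun u v => by
    exact hg u v
  have hLe : ∀ i, L (e i) ∈ D (σ 0) := fun i => hσ 0 ▸ Submodule.mem_map_of_mem (eb i).2
  have hLw : ∀ i, L (w i) ∈ D (σ 1) := fun i => hσ 1 ▸ Submodule.mem_map_of_mem (hwm i)
  have q00 : B (L (e 0)) (L (w 0)) = 1 := (hgB _ _).trans e00
  have q01 : B (L (e 0)) (L (w 1)) = 0 := (hgB _ _).trans e01
  have q10 : B (L (e 1)) (L (w 0)) = 0 := (hgB _ _).trans e10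
  have q11 : B (L (e 1)) (L (w 1)) = 1 := (hgB _ _).trans e11
  have main : ∃ d : F, d * d = 1 ∧ ∀ s, s * s = 1 → ∀ a b, ∃ A C, L (U e w s a b) = U e w (d * s) A C := by
    rcases (show σ 0 = 0 ∨ σ 0 = 1 by omega) with h0 | h0
    · have h1 : σ 1 = 1 := by
        have : σ 1 ≠ σ 0 := fun h => absurd (σ.injective h) (by decide)
        omega
      obtain ⟨a11, a21, hA0⟩ : ∃ x y, L (e 0) = x • e 0 + y • e 1 := ⟨_, _, cE _ (by simpa only [h0] using hLe 0)⟩
      obtain ⟨a12, a22, hA1⟩ : ∃ x y, L (e 1) = x • e 0 + y • e 1 := ⟨_, _, cE _ (by simpa only [h0] using hLe 1)⟩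
      obtain ⟨b11, b21, hB0⟩ : ∃ x y, L (w 0) = x • w 0 + y • w 1 := ⟨_, _, cW _ (by simpa only [h1] using hLw 0)⟩
      obtain ⟨b12, b22, hB1⟩ : ∃ x y, L (w 1) = x • w 0 + y • w 1 := ⟨_, _, cW _ (by simpa only [h1] using hLw 1)⟩
      simp only [hA0, hA1, hB0, hB1, add_l, add_r, smul_l, smul_r, e00, e01, e10, e11] at q00 q01 q10 q11
      set d := a11 * a22 - a12 * a21 with hd
      have r11 : d * b11 = a22 := by rw [hd]; linear_combination a22 * q00 - a21 * q10
      have r21 : d * b21 = -a12 := by rw [hd]; linear_combination a11 * q10 - a12 * q00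
      have r12 : d * b12 = -a21 := by rw [hd]; linear_combination a22 * q01 - a21 * q11
      have r22 : d * b22 = a11 := by rw [hd]; linear_combination a11 * q11 - a12 * q01
      have hd0 : d ≠ 0 := by
        intro h
        rw [h, zero_mul] at r11 r21 r12 r22
        apply one_ne_zero (α := F)
        linear_combination -q00 - b11 * r22 + b21 * r12
      have hdd := sq_one h3 d hd0
      refine ⟨d, hdd, fun s hs a b => ⟨a * a11 + b * a12, a * a21 + b * a22, ?_⟩⟩
      simp only [U, map_add, map_smul, hA0, hA1, hB0, hB1]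
      have i11 : b11 = d * a22 := by linear_combination d * r11 - b11 * hdd
      have i21 : b21 = -(d * a12) := by linear_combination d * r21 - b21 * hdd
      have i12 : b12 = -(d * a21) := by linear_combination d * r12 - b12 * hdd
      have i22 : b22 = d * a11 := by linear_combination d * r22 - b22 * hdd
      rw [i11, i21, i12, i22]
      module
    · have h1 : σ 1 = 0 := by
        have : σ 1 ≠ σ 0 := fun h => absurd (σ.injective h) (by decide)
        omega
      obtain ⟨a11, a21, hA0⟩ : ∃ x y, L (e 0) = x • w 0 + y • w 1 := ⟨_, _, cW _ (by simpa only [h0] using hLe 0)⟩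
      obtain ⟨a12, a22, hA1⟩ : ∃ x y, L (e 1) = x • w 0 + y • w 1 := ⟨_, _, cW _ (by simpa only [h0] using hLe 1)⟩
      obtain ⟨b11, b21, hB0⟩ : ∃ x y, L (w 0) = x • e 0 + y • e 1 := ⟨_, _, cE _ (by simpa only [h1] using hLw 0)⟩
      obtain ⟨b12, b22, hB1⟩ : ∃ x y, L (w 1) = x • e 0 + y • e 1 := ⟨_, _, cE _ (by simpa only [h1] using hLw 1)⟩
      simp only [hA0, hA1, hB0, hB1, add_l, add_r, smul_l, smul_r, f00, f01, f10, f11] at q00 q01 q10 q11
      set d := a11 * a22 - a12 * a21 with hd
      have r11 : d * b11 = -a22 := by rw [hd]; linear_combination a21 * q10 - a22 * q00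
      have r21 : d * b21 = a12 := by rw [hd]; linear_combination a12 * q00 - a11 * q10
      have r12 : d * b12 = a21 := by rw [hd]; linear_combination a21 * q11 - a22 * q01
      have r22 : d * b22 = -a11 := by rw [hd]; linear_combination a12 * q01 - a11 * q11
      have hd0 : d ≠ 0 := by
        intro h
        rw [h, zero_mul] at r11 r21 r12 r22
        apply one_ne_zero (α := F)
        linear_combination -q00 - b11 * r22 + b21 * r12
      have hdd := sq_one h3 d hd0
      refine ⟨d, hdd, fun s hs a b => ⟨s * (a * b12 - b * b11), s * (a * b22 - b * b21), ?_⟩⟩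
      simp only [U, map_add, map_smul, hA0, hA1, hB0, hB1]
      have i11 : a11 = -(d * b22) := by linear_combination r22
      have i22 : a22 = -(d * b11) := by linear_combination r11
      have i12 : a12 = d * b21 := r21.symm
      have i21 : a21 = d * b12 := r12.symm
      have c1 : d * s * (s * (a * b12 - b * b11)) = d * (a * b12 - b * b11) := by
        linear_combination d * (a * b12 - b * b11) * hs
      have c2 : d * s * (s * (a * b22 - b * b21)) = d * (a * b22 - b * b21) := by
        linear_combination d * (a * b22 - b * b21) * hs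
      rw [c1, c2, i11, i12, i21, i22]
      module
  obtain ⟨d, hdd, hmap⟩ := main
  have hLinj : Function.Injective L := fun x y hxy => by
    have h := congrArg (fun z : V => (Units.val g⁻¹) *ᵥ z) hxy
    simpa [L, Matrix.toLin'_apply, mulVec_mulVec, ← Units.val_mul] using h
  have himg : ∀ i j, (![1, -1] j : F) = d * ![1, -1] i → (W i).map L = W j := by
    intro i j hij
    refine Submodule.eq_of_le_of_finrank_eq ?_ ?_
    · rintro _ ⟨x, hx, rfl⟩
      obtain ⟨a, b, rfl⟩ := (memW i x).1 hx
      obtain ⟨A, C, hAC⟩ := hmap (![1, -1] i) (by fin_cases i <;> simp) a b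
      exact (memW j _).2 ⟨A, C, by rw [hij, hAC]⟩
    · refine Eq.trans ?_ ((hrankW i).trans (hrankW j).symm)
      exact (Submodule.equivMapOfInjective L hLinj (W i)).finrank_eq.symm
  rcases mul_self_eq_one_iff.1 hdd with rfl | rfl
  · exact ⟨Equiv.refl _, fun i => himg i i (one_mul _).symm⟩
  · refine ⟨Equiv.swap 0 1, fun i => himg i _ ?_⟩
    fin_cases i <;> simp

end Cfsg.Agent.Lib.SpFourOdd.TSThree
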